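/-
The type of non-degenerate even-dimensional subspaces: sums, cancellation, isometries.
-/
import Mathlib
import Cfsg.Prelude.Def_GeometricClasses
import Cfsg.Agent.Lib.Forms.Max.OrthBase
import Cfsg.Agent.Lib.Classical.QuadClass
import Cfsg.Agent.Lib.Forms.Witt

set_option autoImplicit false
set_option linter.style.haveILetI false
set_option linter.unusedSectionVars false

namespace Cfsg.Agent.Aschbacher.Ev

open Module
open Cfsg.Geo
open Cfsg.Agent.Classical Cfsg.Agent.Classical.OrthForms Cfsg.Agent.Forms.PlusStd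

variable {F : Type*} [Field F]

section abstract

variable {V : Type*} [AddCommGroup V] [Module F V]

/-- A singular subspace of half the dimension exists. -/
def PlusType (P : QuadraticForm F V) : Prop :=
  ∃ U : Submodule F V, (∀ u ∈ U, P u = 0) ∧ 2 * finrank F U = finrank F V

lemma nondeg_of_forall (P : QuadraticForm F V) (h : ∀ x, (∀ y, QuadraticMap.polar P x y = 0) → x = 0) :
    (QuadraticMap.polarBilin P).Nondegenerate :=
  ⟨fun x hx => h x hx, fun y hy => h y fun x => (QuadraticMap.polar_comm _ y x).trans (hy x)⟩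

lemma plusType_of_iso_plus [FiniteDimensional F V] {P : QuadraticForm F V} {m : ℕ}
    (e : V ≃ₗ[F] (Fin m ⊕ Fin m → F)) (he : ∀ x, plusQ F m (e x) = P x) : PlusType P := by
  let g : (Fin m → F) →ₗ[F] (Fin m ⊕ Fin m → F) :=
    { toFun := fun z => Sum.elim z 0
      map_add' := fun a b => by funext i; rcases i with i | i <;> simp
      map_smul' := fun c a => by funext i; rcases i with i | i <;> simp }
  have hg : Function.Injective g := fun a b h => funext fun i => congrFun h (Sum.inl i)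
  refine ⟨LinearMap.range (e.symm.toLinearMap.comp g), ?_, ?_⟩
  · rintro _ ⟨z, rfl⟩
    rw [← he]
    show plusQ F m (e (e.symm (g z))) = 0
    rw [e.apply_symm_apply, plusQ_apply, Cfsg.quadFormPlus]
    simp [g]
  · rw [LinearMap.finrank_range_of_inj (f := e.symm.toLinearMap.comp g) (e.symm.injective.comp hg), e.finrank_eq]
    simp only [Module.finrank_pi, Fintype.card_sum, Fintype.card_fin]
    omega

lemma not_plusType_of_iso_min [FiniteDimensional F V] {P : QuadraticForm F V} {k : ℕ} {ζ : F}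
    (hζ : ∀ t : F, t ^ 2 + t + ζ ≠ 0) (e : V ≃ₗ[F] ((Fin k ⊕ Fin k) ⊕ Fin 2 → F))
    (he : ∀ x, minQ F k 1 ζ (e x) = P x) : ¬ PlusType P := by
  rintro ⟨U, hU, hd⟩
  have h := QuadClass.finrank_le_of_minus (QuadClass.aniso_one hζ) (U.map e.toLinearMap) (by
    rintro _ ⟨u, hu, rfl⟩
    exact (he u).trans (hU u hu))
  rw [LinearEquiv.finrank_map_eq] at h
  have := e.finrank_eq
  simp only [Module.finrank_pi, Fintype.card_sum, Fintype.card_fin] at this
  omega

variable [Fintype F]

/-- Forms of the same even dimension and type are isometric. -/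
theorem exists_iso [FiniteDimensional F V] {V' : Type*} [AddCommGroup V'] [Module F V'] [FiniteDimensional F V']
    (P : QuadraticForm F V) (P' : QuadraticForm F V') (hP : (QuadraticMap.polarBilin P).Nondegenerate)
    (hP' : (QuadraticMap.polarBilin P').Nondegenerate) {m : ℕ} (hV : finrank F V = 2 * m)
    (hV' : finrank F V' = 2 * m) (hiff : PlusType P ↔ PlusType P') :
    ∃ e : V ≃ₗ[F] V', ∀ x, P' (e x) = P x := by
  rcases QuadClass.classify_even m hV P hP with ⟨e, he⟩ | ⟨-, ζ, e, hζ, he⟩ <;>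
    rcases QuadClass.classify_even m hV' P' hP' with ⟨e', he'⟩ | ⟨-, ζ', e', hζ', he'⟩
  · exact ⟨e.trans e'.symm, fun x => by rw [← he', LinearEquiv.trans_apply, e'.apply_symm_apply, he]⟩
  · exact absurd (hiff.1 (plusType_of_iso_plus e he)) (not_plusType_of_iso_min hζ' e' he')
  · exact absurd (hiff.2 (plusType_of_iso_plus e' he')) (not_plusType_of_iso_min hζ e he)
  · obtain ⟨c, hc⟩ := QuadClass.minQ_isometric (m - 1) hζ' hζ
    exact ⟨e.trans (c.trans e'.symm), fun x => by
      rw [← he', LinearEquiv.trans_apply, LinearEquiv.trans_apply, e'.apply_symm_apply, hc, he]⟩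

end abstract

variable {ι : Type} [Fintype ι] [DecidableEq ι] {Q : QuadraticForm F (ι → F)}

local notation "Vec" => (ι → F)
local notation "B" => QuadraticMap.polar Q

/-- A subspace with no radical. -/
def NonDeg (Q : QuadraticForm F (ι → F)) (W : Submodule F (ι → F)) : Prop :=
  ∀ r ∈ W, r ≠ 0 → ∃ s ∈ W, QuadraticMap.polar Q r s ≠ 0

lemma nonDeg_of {W : Submodule F Vec} (h : IsNondegenerateOn (QuadraticMap.polar (⇑Q)) W) : NonDeg Q W :=
  fun r hr hr0 => (h r hr hr0).2

lemma NonDeg.isNondegenerateOn {W : Submodule F Vec} (h : NonDeg Q W) :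
    IsNondegenerateOn (QuadraticMap.polar (⇑Q)) W := fun r hr hr0 => by
  obtain ⟨s, hs, hrs⟩ := h r hr hr0
  exact ⟨⟨s, hs, by rwa [QuadraticMap.polar_comm]⟩, s, hs, hrs⟩

lemma polar_restrict {W : Submodule F Vec} (x y : W) :
    QuadraticMap.polar (Q.comp W.subtype) x y = B (x : Vec) (y : Vec) := by
  simp [QuadraticMap.polar]

lemma NonDeg.restrict {W : Submodule F Vec} (h : NonDeg Q W) :
    (QuadraticMap.polarBilin (Q.comp W.subtype)).Nondegenerate := by
  refine nondeg_of_forall _ fun x hx => ?_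
  by_contra hx0
  obtain ⟨s, hs, hxs⟩ := h x x.2 fun h' => hx0 (Subtype.ext h')
  exact hxs ((polar_restrict x ⟨s, hs⟩).symm.trans (hx _))

lemma plusType_restrict {W : Submodule F Vec} : PlusType (Q.comp W.subtype) ↔ IsPlusTypeOn (⇑Q) W := by
  constructor
  · rintro ⟨U, hU, hd⟩
    refine ⟨U.map W.subtype, Submodule.map_subtype_le W U, ?_, ?_⟩
    · rintro _ ⟨u, hu, rfl⟩
      exact hU u hu
    · rw [← (Submodule.equivMapOfInjective _ W.subtype_injective U).finrank_eq]
      exact hd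
  · rintro ⟨U, hUW, hU, hd⟩
    refine ⟨U.comap W.subtype, fun u hu => hU _ hu, ?_⟩
    rw [(Submodule.comapSubtypeEquivOfLe hUW).finrank_eq]
    exact hd

lemma plusType_iff_top : PlusType Q ↔ IsPlusTypeOn (⇑Q) (⊤ : Submodule F Vec) := by
  simp [PlusType, IsPlusTypeOn, IsTotallySingularQuad]

lemma disjoint_of_orth {X Y : Submodule F Vec} (hX : NonDeg Q X) (ho : ∀ x ∈ X, ∀ y ∈ Y, B x y = 0) :
    X ⊓ Y = ⊥ := by
  rw [eq_bot_iff]
  intro v hv
  by_contra hv0
  obtain ⟨s, hs, hvs⟩ := hX v hv.1 hv0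
  exact hvs (by rw [QuadraticMap.polar_comm]; exact ho s hs v hv.2)

lemma NonDeg.sup {X Y : Submodule F Vec} (hX : NonDeg Q X) (hY : NonDeg Q Y)
    (ho : ∀ x ∈ X, ∀ y ∈ Y, B x y = 0) : NonDeg Q (X ⊔ Y) := by
  intro r hr hr0
  obtain ⟨x, hx, y, hy, rfl⟩ := Submodule.mem_sup.1 hr
  by_cases hx0 : x = 0
  · subst hx0
    rw [zero_add] at hr0 ⊢
    obtain ⟨s, hs, hys⟩ := hY y hy hr0
    exact ⟨s, Submodule.mem_sup_right hs, hys⟩
  · obtain ⟨s, hs, hxs⟩ := hX x hx hx0
    refine ⟨s, Submodule.mem_sup_left hs, ?_⟩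
    rw [QuadraticMap.polar_add_left, QuadraticMap.polar_comm (⇑Q) y, ho s hs y hy, add_zero]
    exact hxs

lemma finrank_sup_orth {X Y : Submodule F Vec} (hX : NonDeg Q X) (ho : ∀ x ∈ X, ∀ y ∈ Y, B x y = 0) :
    finrank F ↥(X ⊔ Y) = finrank F X + finrank F Y := by
  have h := Submodule.finrank_sup_add_finrank_inf_eq X Y
  rwa [disjoint_of_orth hX ho, finrank_bot, add_zero] at h

omit [DecidableEq ι] in
lemma exists_sub_finrank {T : Submodule F Vec} {j : ℕ} (hj : j ≤ finrank F T) :
    ∃ T0 ≤ T, finrank F T0 = j := by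
  let b := Module.finBasis F T
  have hli : LinearIndependent F fun i : Fin j => ((b (Fin.castLE hj i) : T) : Vec) :=
    (b.linearIndependent.comp _ (Fin.castLE_injective hj)).map' T.subtype T.ker_subtype
  refine ⟨Submodule.span F (Set.range fun i : Fin j => ((b (Fin.castLE hj i) : T) : Vec)),
    Submodule.span_le.2 ?_, by rw [finrank_span_eq_card hli, Fintype.card_fin]⟩
  rintro _ ⟨i, rfl⟩
  exact (b (Fin.castLE hj i)).2

lemma qadd (x y : Vec) : Q (x + y) = Q x + Q y + B x y := QuadraticMap.map_add (⇑Q) x y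

lemma isPlusTypeOn_bot : IsPlusTypeOn (⇑Q) (⊥ : Submodule F Vec) :=
  ⟨⊥, le_rfl, fun w hw => by rw [(Submodule.mem_bot F).1 hw, QuadraticMap.map_zero],
    by rw [finrank_bot]⟩

/-- An orthogonal sum of two subspaces of plus type has plus type. -/
lemma plus_sup_plus {X Y : Submodule F Vec} (hX : NonDeg Q X) (ho : ∀ x ∈ X, ∀ y ∈ Y, B x y = 0)
    (hpX : IsPlusTypeOn (⇑Q) X) (hpY : IsPlusTypeOn (⇑Q) Y) : IsPlusTypeOn (⇑Q) (X ⊔ Y) := by
  obtain ⟨U, hUX, hU, hdU⟩ := hpX
  obtain ⟨T, hTY, hT, hdT⟩ := hpY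
  refine ⟨U ⊔ T, sup_le_sup hUX hTY, ?_, ?_⟩
  · rintro v hv
    obtain ⟨u, hu, t, ht, rfl⟩ := Submodule.mem_sup.1 hv
    rw [qadd, hU u hu, hT t ht, ho u (hUX hu) t (hTY ht), add_zero, add_zero]
  · have h := Submodule.finrank_sup_add_finrank_inf_eq U T
    have h0 : U ⊓ T = ⊥ := le_bot_iff.1 ((inf_le_inf hUX hTY).trans (disjoint_of_orth hX ho).le)
    rw [h0, finrank_bot, add_zero] at h
    rw [finrank_sup_orth hX ho]
    omega

variable [Fintype F]

/-- Subspaces of the same even dimension and type are isometric. -/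
theorem isometric_of_same_type {W W' : Submodule F Vec} (hW : NonDeg Q W) (hW' : NonDeg Q W') {m : ℕ}
    (hd : finrank F W = 2 * m) (hd' : finrank F W' = 2 * m)
    (hiff : IsPlusTypeOn (⇑Q) W ↔ IsPlusTypeOn (⇑Q) W') : AreIsometricFor (⇑Q) W W' :=
  exists_iso _ _ hW.restrict hW'.restrict hd hd' (by rw [plusType_restrict, plusType_restrict]; exact hiff)

omit [Fintype F] in
lemma plus_of_isometric {W W' : Submodule F Vec} (h : AreIsometricFor (⇑Q) W W')
    (hp : IsPlusTypeOn (⇑Q) W) : IsPlusTypeOn (⇑Q) W' := by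
  obtain ⟨e, he⟩ := h
  obtain ⟨U, hUW, hU, hd⟩ := hp
  refine ⟨((U.comap W.subtype).map e.toLinearMap).map W'.subtype, Submodule.map_subtype_le _ _, ?_, ?_⟩
  · rintro _ ⟨_, ⟨u, hu, rfl⟩, rfl⟩
    exact (he u).trans (hU _ hu)
  · rw [← (Submodule.equivMapOfInjective _ W'.subtype_injective _).finrank_eq, LinearEquiv.finrank_map_eq,
      (Submodule.comapSubtypeEquivOfLe hUW).finrank_eq, hd, e.finrank_eq]

omit [Fintype F] in
lemma isometric_symm {W W' : Submodule F Vec} (h : AreIsometricFor (⇑Q) W W') : AreIsometricFor (⇑Q) W' W := by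
  obtain ⟨e, he⟩ := h
  exact ⟨e.symm, fun w => by rw [← he, e.apply_symm_apply]⟩

/-- Two orthogonal isometric subspaces of even dimension span a subspace of plus type. -/
theorem plus_sup_isometric {W W' : Submodule F Vec} (hW : NonDeg Q W) (ho : ∀ x ∈ W, ∀ y ∈ W', B x y = 0)
    (h : AreIsometricFor (⇑Q) W W') {m : ℕ} (hd : finrank F W = 2 * m) :
    IsPlusTypeOn (⇑Q) (W ⊔ W') := by
  obtain ⟨e, he⟩ := h
  have hneg : ∀ x y : W, QuadraticMap.polar (⇑(-Q.comp W.subtype)) x y =
      -QuadraticMap.polar (⇑(Q.comp W.subtype)) x y := fun x y => by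
    rw [QuadraticMap.coeFn_neg]
    exact QuadraticMap.polar_neg _ x y
  obtain ⟨a, ha⟩ := exists_iso (Q.comp W.subtype) (-Q.comp W.subtype) hW.restrict
    (nondeg_of_forall _ fun x hx => hW.restrict.1 x fun y => by
      have := hx y
      rwa [hneg, neg_eq_zero] at this) hd hd (by simp [PlusType])
  let L : W →ₗ[F] Vec := W.subtype + W'.subtype.comp (e.toLinearMap.comp a.toLinearMap)
  have hinj : Function.Injective L := by
    rw [← LinearMap.ker_eq_bot, LinearMap.ker_eq_bot']
    intro w hw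
    have hw' : (w : Vec) + (e (a w) : Vec) = 0 := hw
    have h1 : (w : Vec) ∈ W ⊓ W' :=
      ⟨w.2, by rw [eq_neg_of_add_eq_zero_left hw']; exact neg_mem (e (a w)).2⟩
    rw [disjoint_of_orth hW ho] at h1
    exact Subtype.ext h1
  refine ⟨LinearMap.range L, ?_, ?_, ?_⟩
  · rintro _ ⟨w, rfl⟩
    exact add_mem (Submodule.mem_sup_left w.2) (Submodule.mem_sup_right (e (a w)).2)
  · rintro _ ⟨w, rfl⟩
    show Q ((w : Vec) + (e (a w) : Vec)) = 0
    have h1 : -Q ((a w : W) : Vec) = Q (w : Vec) := ha w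
    rw [qadd, ho _ w.2 _ (e (a w)).2, he]
    linear_combination -h1
  · rw [finrank_sup_orth hW ho, LinearMap.finrank_range_of_inj hinj, e.finrank_eq]
    omega

section global

variable (hQ : (QuadraticMap.polarBilin Q).Nondegenerate)
include hQ

local notation "perp'" => Forms.Max.Orth.perp Q

omit [Fintype F] in
lemma nonDeg_top : NonDeg Q (⊤ : Submodule F Vec) := fun r _ hr => by
  obtain ⟨s, hs⟩ := Forms.Max.Orth.exists_ne hQ hr
  exact ⟨s, trivial, hs⟩

omit [Fintype F] in
lemma sup_perp {W : Submodule F Vec} (hW : NonDeg Q W) : W ⊔ perp' W = ⊤ := by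
  apply Submodule.eq_top_of_finrank_eq
  rw [finrank_sup_orth hW fun x hx y hy => Forms.Max.Orth.mem_perp.1 hy x hx,
    Module.finrank_fintype_fun_eq_card, add_comm]
  exact Forms.Max.Orth.finrank_perp hQ W

omit [Fintype F] in
lemma nonDeg_perp {W : Submodule F Vec} (hW : NonDeg Q W) : NonDeg Q (perp' W) :=
  Forms.Max.perp_nondeg (Forms.Max.Orth.nd hQ) Forms.Reflections.polB_refl hW

omit [Fintype F] in
/-- Cancellation: in a space of plus type the complement of a plus-type subspace has plus type. -/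
theorem plus_perp (hplus : IsPlusTypeOn (⇑Q) (⊤ : Submodule F Vec)) {W : Submodule F Vec} (hW : NonDeg Q W)
    (hpW : IsPlusTypeOn (⇑Q) W) : IsPlusTypeOn (⇑Q) (perp' W) := by
  obtain ⟨T, -, hT, hdT⟩ := hplus
  obtain ⟨U, hUW, hU, hdU⟩ := hpW
  have hn : finrank F (⊤ : Submodule F Vec) = Fintype.card ι := by
    rw [finrank_top, Module.finrank_fintype_fun_eq_card]
  rw [hn] at hdT
  have hWn := Forms.Max.Orth.finrank_perp hQ W
  obtain ⟨T0, hT0, hdT0⟩ := exists_sub_finrank (T := T) (j := finrank F U) (by omega)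
  let f : U →ₗ[F] Vec := T0.subtype.comp (LinearEquiv.ofFinrankEq U T0 hdT0.symm).toLinearMap
  obtain ⟨g, hg, hgU⟩ := Forms.Witt.witt_quad Q hQ U f
    (T0.subtype_injective.comp (LinearEquiv.injective _)) fun x => by
      rw [hU _ x.2]
      exact hT _ (hT0 (LinearEquiv.ofFinrankEq U T0 hdT0.symm x).2)
  set T' : Submodule F Vec := T.map g.symm.toLinearMap with hT'
  have hT's : ∀ x ∈ T', Q x = 0 := by
    rintro _ ⟨t, ht, rfl⟩
    rw [LinearEquiv.coe_coe, ← hg, g.apply_symm_apply]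
    exact hT t ht
  have hUT' : U ≤ T' := fun u hu => by
    refine ⟨f ⟨u, hu⟩, hT0 (LinearEquiv.ofFinrankEq U T0 hdT0.symm ⟨u, hu⟩).2, ?_⟩
    rw [LinearEquiv.coe_coe, ← hgU ⟨u, hu⟩, g.symm_apply_apply]
  have hdT' : finrank F T' = finrank F T := LinearEquiv.finrank_map_eq _ _
  -- the orthogonal of `U` meets `W` in `U`
  have hperpW : perp' W ≤ perp' U := fun x hx =>
    Forms.Max.Orth.mem_perp.2 fun u hu => Forms.Max.Orth.mem_perp.1 hx u (hUW hu)
  have hUU : U ≤ perp' U ⊓ W := fun u hu =>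
    ⟨Forms.Max.Orth.mem_perp.2 fun v hv => Forms.Max.Orth.polar_of_sing hU hv hu, hUW hu⟩
  have hPU : perp' U ⊓ W = U := by
    refine (Submodule.eq_of_le_of_finrank_le hUU ?_).symm
    have h1 := Submodule.finrank_mono (sup_le inf_le_left hperpW : perp' U ⊓ W ⊔ perp' W ≤ perp' U)
    have h2 := Submodule.finrank_sup_add_finrank_inf_eq (perp' U ⊓ W) (perp' W)
    have h3 : perp' U ⊓ W ⊓ perp' W = ⊥ := le_bot_iff.1 ((inf_le_inf_right _ inf_le_right).trans
      (disjoint_of_orth hW fun x hx y hy => Forms.Max.Orth.mem_perp.1 hy x hx).le)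
    rw [h3, finrank_bot, add_zero] at h2
    have h4 := Forms.Max.Orth.finrank_perp hQ U
    omega
  have hle : T' ≤ U ⊔ T' ⊓ perp' W := by
    intro v hv
    have hv' : v ∈ W ⊔ perp' W := by rw [sup_perp hQ hW]; trivial
    obtain ⟨w, hw, p, hp, rfl⟩ := Submodule.mem_sup.1 hv'
    have hwU : w ∈ U := by
      rw [← hPU]
      refine ⟨Forms.Max.Orth.mem_perp.2 fun u hu => ?_, hw⟩
      have h := Forms.Max.Orth.polar_of_sing hT's (hUT' hu) hv
      rwa [QuadraticMap.polar_add_right, Forms.Max.Orth.mem_perp.1 hp u (hUW hu), add_zero] at h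
    exact Submodule.add_mem_sup hwU ⟨(Submodule.add_mem_iff_right _ (hUT' hwU)).1 hv, hp⟩
  refine ⟨T' ⊓ perp' W, inf_le_right, fun x hx => hT's x hx.1, ?_⟩
  have h1 := Submodule.finrank_mono hle
  have h1' := Submodule.finrank_mono (sup_le hUT' inf_le_left : U ⊔ T' ⊓ perp' W ≤ T')
  have h2 := Submodule.finrank_sup_add_finrank_inf_eq U (T' ⊓ perp' W)
  have h3 : U ⊓ (T' ⊓ perp' W) = ⊥ := le_bot_iff.1 ((inf_le_inf hUW inf_le_right).trans
    (disjoint_of_orth hW fun x hx y hy => Forms.Max.Orth.mem_perp.1 hy x hx).le)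
  rw [h3, finrank_bot, add_zero] at h2
  omega

/-! ### Decompositions into subspaces of even dimension -/

omit [Fintype F] hQ in
lemma orth_biSup {t : ℕ} {D : Fin t → Submodule F Vec} {i : Fin t} {s : Finset (Fin t)} (his : i ∉ s)
    (ho : ∀ i j, i ≠ j → ∀ x ∈ D i, ∀ y ∈ D j, B x y = 0) :
    ∀ x ∈ D i, ∀ y ∈ s.sup D, B x y = 0 := by
  classical
  induction s using Finset.induction_on with
  | empty =>
    intro x _ y hy
    rw [Finset.sup_empty] at hy
    rw [(Submodule.mem_bot F).1 hy, QuadraticMap.polar_zero_right]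
  | insert a s _ ih =>
    intro x hx y hy
    rw [Finset.sup_insert] at hy
    rw [Finset.mem_insert, not_or] at his
    obtain ⟨u, hu, v, hv, rfl⟩ := Submodule.mem_sup.1 hy
    rw [QuadraticMap.polar_add_right, ho i a his.1 x hx u hu, ih his.2 x hx v hv, add_zero]

omit hQ in
/-- An even number of orthogonal isometric even-dimensional parts gives plus type. -/
theorem plus_biSup {t m : ℕ} {D : Fin t → Submodule F Vec} (hnd : ∀ i, NonDeg Q (D i))
    (ho : ∀ i j, i ≠ j → ∀ x ∈ D i, ∀ y ∈ D j, B x y = 0)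
    (hiso : ∀ i j, AreIsometricFor (⇑Q) (D i) (D j)) (hd : ∀ i, finrank F (D i) = 2 * m)
    (s : Finset (Fin t)) (hs : Even s.card) : IsPlusTypeOn (⇑Q) (s.sup D) := by
  classical
  induction hn : s.card using Nat.strong_induction_on generalizing s with
  | _ n ih =>
    rcases Finset.eq_empty_or_nonempty s with rfl | ⟨i, hi⟩
    · rw [Finset.sup_empty]; exact isPlusTypeOn_bot
    obtain ⟨j, hj, hji⟩ : ∃ j ∈ s, j ≠ i := by
      by_contra hall
      push Not at hall
      have : s = {i} := Finset.eq_singleton_iff_unique_mem.2 ⟨hi, hall⟩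
      rw [this, Finset.card_singleton] at hs
      exact Nat.not_even_one hs
    have hje : j ∈ s.erase i := Finset.mem_erase.2 ⟨hji, hj⟩
    set r := (s.erase i).erase j with hr
    have hir : i ∉ r := fun h => (Finset.mem_erase.1 (Finset.mem_erase.1 h).2).1 rfl
    have hjr : j ∉ r := Finset.notMem_erase j _
    have hsr : s.sup D = (D i ⊔ D j) ⊔ r.sup D := by
      conv_lhs => rw [← Finset.insert_erase hi, ← Finset.insert_erase hje, ← hr]
      rw [Finset.sup_insert, Finset.sup_insert, sup_assoc]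
    have hcard : r.card + 2 = s.card := by
      have h1 := Finset.card_erase_add_one hi
      have h2 := Finset.card_erase_add_one hje
      rw [← hr] at h2
      omega
    rw [hsr]
    refine plus_sup_plus ((hnd i).sup (hnd j) (ho i j hji.symm)) ?_
      (plus_sup_isometric (hnd i) (ho i j hji.symm) (hiso i j) (hd i))
      (ih r.card (by omega) r (by rw [← hcard, Nat.even_add] at hs; exact hs.2 even_two) rfl)
    intro x hx y hy
    obtain ⟨a, ha, b, hb, rfl⟩ := Submodule.mem_sup.1 hx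
    rw [QuadraticMap.polar_add_left, orth_biSup hir ho a ha y hy, orth_biSup hjr ho b hb y hy, add_zero]

omit [Fintype F] hQ in
lemma nonDeg_parts {t k : ℕ} {D : Fin t → Submodule F Vec}
    (hD : IsOrthogonalMDecomposition (⇑Q) k D) : ∀ i, NonDeg Q (D i) :=
  fun i => nonDeg_of (hD.decomp.nondegenerate i)

omit [Fintype F] hQ in
lemma top_eq_sup {t k : ℕ} {D : Fin t → Submodule F Vec} (hD : IsMDecomposition k D) :
    (Finset.univ : Finset (Fin t)).sup D = ⊤ := by
  rw [Finset.sup_univ_eq_iSup, hD.iSup_eq_top]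

omit hQ in
theorem decomposition_plus_of_even {t m : ℕ} {D : Fin t → Submodule F Vec}
    (hD : IsOrthogonalMDecomposition (⇑Q) (2 * m) D) (ht : Even t) :
    IsPlusTypeOn (⇑Q) (⊤ : Submodule F Vec) := by
  rw [← top_eq_sup hD.decomp.decomp]
  exact plus_biSup (nonDeg_parts hD) hD.decomp.orthogonal hD.isometric hD.decomp.decomp.finrank_eq _
    (by rwa [Finset.card_univ, Fintype.card_fin])

theorem decomposition_plus_iff_of_odd {t m : ℕ} {D : Fin t → Submodule F Vec}
    (hD : IsOrthogonalMDecomposition (⇑Q) (2 * m) D) (ht : Odd t) (i : Fin t) :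
    IsPlusTypeOn (⇑Q) (⊤ : Submodule F Vec) ↔ IsPlusTypeOn (⇑Q) (D i) := by
  classical
  set s := (Finset.univ : Finset (Fin t)).erase i with hs
  set Y := s.sup D with hY
  have hev : Even s.card := by
    rw [hs, Finset.card_erase_of_mem (Finset.mem_univ i), Finset.card_univ, Fintype.card_fin]
    exact Nat.Odd.sub_odd ht odd_one
  have hYp : IsPlusTypeOn (⇑Q) Y :=
    plus_biSup (nonDeg_parts hD) hD.decomp.orthogonal hD.isometric hD.decomp.decomp.finrank_eq _ hev
  have ho : ∀ x ∈ D i, ∀ y ∈ Y, B x y = 0 :=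
    orth_biSup (Finset.notMem_erase i _) hD.decomp.orthogonal
  have htop : D i ⊔ Y = ⊤ := by
    rw [hY, hs, ← Finset.sup_insert, Finset.insert_erase (Finset.mem_univ i), top_eq_sup hD.decomp.decomp]
  constructor
  · intro hplus
    have hYn : NonDeg Q Y := by
      intro r hr hr0
      obtain ⟨v, hv⟩ := Forms.Max.Orth.exists_ne hQ hr0
      have hv' : v ∈ D i ⊔ Y := htop ▸ Submodule.mem_top
      obtain ⟨a, ha, b, hb, rfl⟩ := Submodule.mem_sup.1 hv'
      refine ⟨b, hb, ?_⟩
      rwa [QuadraticMap.polar_add_right, QuadraticMap.polar_comm (⇑Q) r a, ho a ha r hr, zero_add] at hv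
    have h := plus_perp hQ hplus hYn hYp
    have he : perp' Y = D i := by
      refine (Submodule.eq_of_le_of_finrank_le (fun x hx => Forms.Max.Orth.mem_perp.2 fun y hy => ?_) ?_).symm
      · rw [QuadraticMap.polar_comm]; exact ho x hx y hy
      · have h1 := Forms.Max.Orth.finrank_perp hQ Y
        have h2 := finrank_sup_orth (nonDeg_parts hD i) ho
        rw [htop, finrank_top, Module.finrank_fintype_fun_eq_card] at h2
        omega
    rwa [he] at h
  · intro hp
    rw [← htop]
    exact plus_sup_plus (nonDeg_parts hD i) ho hp hYp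

end global

end Cfsg.Agent.Aschbacher.Ev
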