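/-
Discriminants, and forms defined over the subfield of index two.
-/
import Mathlib
import Cfsg.Agent.Aschbacher.Ev.Types
import Cfsg.Agent.Lib.Forms.Disc

set_option autoImplicit false
set_option linter.style.haveILetI false
set_option linter.unusedSectionVars false

namespace Cfsg.Agent.Aschbacher.Ev

open Module Matrix
open Cfsg.Geo
open Cfsg.Agent.Classical Cfsg.Agent.Classical.OrthForms Cfsg.Agent.Forms.PlusStd
open Cfsg.Agent.Forms.Disc (gram)

variable {F : Type*} [Field F]

lemma isSquare_mul_iff [Fintype F] (h2 : (2 : F) ≠ 0) {a b : F} (ha : a ≠ 0) (hb : b ≠ 0) :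
    IsSquare (a * b) ↔ (IsSquare a ↔ IsSquare b) := by
  constructor
  · rintro ⟨s, hs⟩
    have hs0 : s ≠ 0 := fun h => mul_ne_zero ha hb (by rw [hs, h, mul_zero])
    constructor
    · rintro ⟨u, rfl⟩
      have hu : u ≠ 0 := fun h => ha (by rw [h, mul_zero])
      exact ⟨s / u, by field_simp; linear_combination hs⟩
    · rintro ⟨u, rfl⟩
      have hu : u ≠ 0 := fun h => hb (by rw [h, mul_zero])
      exact ⟨s / u, by field_simp; linear_combination hs⟩
  · intro h
    by_cases hsa : IsSquare a
    · exact hsa.mul (h.1 hsa)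
    · obtain ⟨s, hs⟩ := Forms.Bases.isSquare_mul_of_not hsa fun hb' => hsa (h.2 hb')
      exact ⟨s, hs⟩

/-- A monic quadratic without roots in a subfield of index two has a root. -/
lemma exists_root_quadratic [Fintype F] {F₀ : Subfield F} (hcard : Fintype.card F = Nat.card F₀ ^ 2) (ζ : F₀)
    (hζ : ∀ t : F₀, t ^ 2 + t + ζ ≠ 0) : ∃ t : F, t ^ 2 + t + (ζ : F) = 0 := by
  classical
  haveI : Fintype F₀ := Fintype.ofFinite F₀
  rw [Nat.card_eq_fintype_card] at hcard
  let f : Polynomial F₀ := Polynomial.X ^ 2 + Polynomial.X + Polynomial.C ζ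
  have hdeg : f.natDegree = 2 := by
    show (Polynomial.X ^ 2 + Polynomial.X + Polynomial.C ζ : Polynomial F₀).natDegree = 2
    compute_degree!
  have hmonic : f.Monic := by
    show (Polynomial.X ^ 2 + Polynomial.X + Polynomial.C ζ : Polynomial F₀).Monic
    monicity!
  haveI : Fact (Irreducible f) := ⟨Polynomial.irreducible_of_degree_le_three_of_not_isRoot (by simp [hdeg])
    fun x hx => hζ x (by simpa [f, Polynomial.IsRoot] using hx)⟩
  haveI : Module.Finite F₀ (AdjoinRoot f) := hmonic.finite_adjoinRoot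
  haveI : Finite (AdjoinRoot f) := Module.finite_of_finite F₀
  haveI : Fintype (AdjoinRoot f) := Fintype.ofFinite _
  have hL : Fintype.card (AdjoinRoot f) = Fintype.card F := by
    rw [Module.card_eq_pow_finrank (K := F₀), (AdjoinRoot.powerBasis hmonic.ne_zero).finrank,
      AdjoinRoot.powerBasis_dim, hdeg, hcard]
  have h1 := FiniteField.pow_card (AdjoinRoot.root f)
  rw [hL, ← sub_eq_zero] at h1
  have h2 : f ∣ Polynomial.X ^ Fintype.card F - Polynomial.X := by
    rw [← AdjoinRoot.mk_eq_zero, map_sub, map_pow, AdjoinRoot.mk_X]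
    exact h1
  obtain ⟨g, hg⟩ := h2
  by_contra hno
  push Not at hno
  have hroot : ∀ a : F, (g.map F₀.subtype).IsRoot a := by
    intro a
    have h3 := congrArg (fun p : Polynomial F₀ => (p.map F₀.subtype).eval a) hg
    simp only [Polynomial.map_sub, Polynomial.map_pow, Polynomial.map_X, Polynomial.eval_sub,
      Polynomial.eval_pow, Polynomial.eval_X, Polynomial.map_mul, Polynomial.eval_mul] at h3
    rw [FiniteField.pow_card, sub_self] at h3
    refine (mul_eq_zero.1 h3.symm).resolve_left ?_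
    simpa [f] using hno a
  have hone := Fintype.one_lt_card (α := F)
  have hpol := FiniteField.X_pow_card_sub_X_natDegree_eq F₀ hone
  have hne := FiniteField.X_pow_card_sub_X_ne_zero F₀ hone
  have hg0 : g ≠ 0 := fun h => hne (by rw [hg, h, mul_zero])
  rw [hg, Polynomial.natDegree_mul hmonic.ne_zero hg0, hdeg] at hpol
  have h4 := Polynomial.card_le_degree_of_subset_roots (Z := (Finset.univ : Finset F)) (p := g.map F₀.subtype)
    fun a _ => (Polynomial.mem_roots ((Polynomial.map_ne_zero_iff F₀.subtype.injective).2 hg0)).2 (hroot a)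
  rw [Finset.card_univ, Polynomial.natDegree_map] at h4
  omega

variable {ι : Type} [Fintype ι] [DecidableEq ι] {Q : QuadraticForm F (ι → F)}

local notation "Vec" => (ι → F)
local notation "B" => QuadraticMap.polar Q

variable (hQ : (QuadraticMap.polarBilin Q).Nondegenerate)
include hQ

lemma gram_ne_zero {κ : Type} [Fintype κ] [DecidableEq κ] (b : Basis κ F Vec) :
    (gram (QuadraticMap.polarBilin Q) b).det ≠ 0 :=
  Forms.Disc.det_gram_ne_zero hQ b

variable [Fintype F] (h2 : (2 : F) ≠ 0)
include h2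

/-- The type of the whole space from the determinant. -/
theorem plus_iff_square {m : ℕ} (hm : Fintype.card ι = 2 * m) {κ : Type} [Fintype κ] [DecidableEq κ]
    (b : Basis κ F Vec) :
    IsPlusTypeOn (⇑Q) (⊤ : Submodule F Vec) ↔
      IsSquare ((-1 : F) ^ m * (gram (QuadraticMap.polarBilin Q) b).det) := by
  rw [← Forms.Disc.exists_lagrangian_iff h2 (QuadraticMap.polarBilin Q)
    ⟨fun x y => by simpa using QuadraticMap.polar_comm (⇑Q) x y⟩ hQ
    (by rw [Module.finrank_fintype_fun_eq_card, hm]) b]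
  constructor
  · rintro ⟨U, -, hU, hd⟩
    rw [finrank_top, Module.finrank_fintype_fun_eq_card] at hd
    exact ⟨U, by omega, fun x hx y hy => Forms.Max.Orth.polar_of_sing hU hx hy⟩
  · rintro ⟨U, hd, hU⟩
    refine ⟨U, le_top, fun x hx => ?_, by rw [finrank_top, Module.finrank_fintype_fun_eq_card, hd, hm]⟩
    have h : B x x = 0 := hU x hx x hx
    rw [QuadraticMap.polar_self, two_smul, ← two_mul] at h
    exact (mul_eq_zero.1 h).resolve_left h2

/-- The type of the whole space from the Gram matrix. -/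
theorem plus_iff_square_gram {m : ℕ} (hm : Fintype.card ι = 2 * m) :
    IsPlusTypeOn (⇑Q) (⊤ : Submodule F Vec) ↔
      IsSquare ((-1 : F) ^ m * (gramMatrix (QuadraticMap.polar (⇑Q))).det) := by
  rw [plus_iff_square hQ h2 hm (Pi.basisFun F ι)]
  have : gram (QuadraticMap.polarBilin Q) (Pi.basisFun F ι) = gramMatrix (QuadraticMap.polar (⇑Q)) := by
    ext i j; simp [Forms.Disc.gram, gramMatrix]
  rw [this]

omit hQ h2 [Fintype F] [DecidableEq ι] in
/-- The determinant of an orthogonal decomposition. -/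
lemma det_decomposition {t k : ℕ} {D : Fin t → Submodule F Vec}
    (hD : IsNondegenerateMDecomposition (QuadraticMap.polar (⇑Q)) k D) (b : ∀ i, Basis (Fin k) F (D i)) :
    ∃ c : Basis (Fin k × Fin t) F Vec, (gram (QuadraticMap.polarBilin Q) c).det =
      ∏ i, (Matrix.of fun a a' => B (b i a : Vec) (b i a' : Vec)).det := by
  classical
  let c := ((DirectSum.isInternal_submodule_of_iSupIndep_of_iSup_eq_top hD.decomp.indep
    hD.decomp.iSup_eq_top).collectedBasis b).reindex ((Equiv.sigmaEquivProd (Fin t) (Fin k)).trans (Equiv.prodComm _ _))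
  have hc : ∀ a i, c (a, i) = (b i a : Vec) := fun a i => by
    simp [c, DirectSum.IsInternal.collectedBasis_coe]
    rfl
  refine ⟨c, ?_⟩
  rw [← Matrix.det_blockDiagonal]
  congr 1
  ext ⟨a, i⟩ ⟨a', j⟩
  rw [Matrix.blockDiagonal_apply']
  show B (c (a, i)) (c (a', j)) = _
  rw [hc, hc]
  split_ifs with h
  · subst h; rfl
  · exact hD.orthogonal i j h _ (b i a).2 _ (b j a').2

omit h2 [Fintype F] in
lemma det_part_ne_zero {t k : ℕ} {D : Fin t → Submodule F Vec}
    (hD : IsNondegenerateMDecomposition (QuadraticMap.polar (⇑Q)) k D) {i : Fin t} (b : Basis (Fin k) F (D i)) :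
    (Matrix.of fun a a' => B (b a : Vec) (b a' : Vec)).det ≠ 0 := by
  have h := Forms.Disc.det_gram_ne_zero (nonDeg_of (hD.nondegenerate i)).restrict b
  convert h using 3
  ext a a'
  exact (polar_restrict (b a) (b a')).symm

/-- An even number of isometric parts. -/
theorem decomposition_plus_iff_square {t k m : ℕ} {D : Fin t → Submodule F Vec} (hm : Fintype.card ι = 2 * m)
    (hD : IsOrthogonalMDecomposition (⇑Q) k D) (ht : Even t) :
    IsPlusTypeOn (⇑Q) (⊤ : Submodule F Vec) ↔ IsSquare ((-1 : F) ^ m) := by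
  classical
  let i₀ : Fin t := ⟨0, by have := hD.decomp.decomp.two_le; omega⟩
  let b₀ : Basis (Fin k) F (D i₀) := finBasisOfFinrankEq F (D i₀) (hD.decomp.decomp.finrank_eq i₀)
  choose e he using fun i => hD.isometric i₀ i
  obtain ⟨c, hc⟩ := det_decomposition hD.decomp fun i => b₀.map (e i)
  set d := (Matrix.of fun a a' => B (b₀ a : Vec) (b₀ a' : Vec)).det with hd
  have hde : ∀ i, (Matrix.of fun a a' => B ((b₀.map (e i)) a : Vec) ((b₀.map (e i)) a' : Vec)).det = d :=
    fun i => by
      rw [hd]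
      congr 1
      ext a a'
      show B ((e i (b₀ a) : D i) : Vec) ((e i (b₀ a') : D i) : Vec) = B (b₀ a : Vec) (b₀ a' : Vec)
      simp only [QuadraticMap.polar, ← Submodule.coe_add, ← map_add, he]
  rw [Finset.prod_congr rfl (fun i _ => hde i), Finset.prod_const, Finset.card_univ, Fintype.card_fin] at hc
  rw [plus_iff_square hQ h2 hm c, hc]
  obtain ⟨s, rfl⟩ := ht
  have hd0 : d ≠ 0 := det_part_ne_zero hQ hD.decomp b₀
  rw [isSquare_mul_iff h2 (pow_ne_zero _ (neg_ne_zero.2 one_ne_zero)) (pow_ne_zero _ hd0)]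
  exact ⟨fun h => h.2 ⟨d ^ s, pow_add d s s⟩, fun h => iff_of_true h ⟨d ^ s, pow_add d s s⟩⟩

/-- Two halves are isometric according to the type. -/
theorem halves_iff {k : ℕ} {D : Fin 2 → Submodule F Vec}
    (hD : IsNondegenerateMDecomposition (QuadraticMap.polar (⇑Q)) k D) (hm : Fintype.card ι = 2 * k) :
    IsPlusTypeOn (⇑Q) (⊤ : Submodule F Vec) ↔
      (IsSquare ((-1 : F) ^ k) ↔ AreIsometricFor (⇑Q) (D 0) (D 1)) := by
  classical
  let b : ∀ i, Basis (Fin k) F (D i) := fun i => finBasisOfFinrankEq F (D i) (hD.decomp.finrank_eq i)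
  obtain ⟨c, hc⟩ := det_decomposition hD b
  rw [Fin.prod_univ_two] at hc
  set d₀ := (Matrix.of fun a a' => B (b 0 a : Vec) (b 0 a' : Vec)).det with hd₀
  set d₁ := (Matrix.of fun a a' => B (b 1 a : Vec) (b 1 a' : Vec)).det with hd₁
  have h0 : d₀ ≠ 0 := det_part_ne_zero hQ hD (b 0)
  have h1 : d₁ ≠ 0 := det_part_ne_zero hQ hD (b 1)
  have hiso : AreIsometricFor (⇑Q) (D 0) (D 1) ↔ IsSquare (d₀ * d₁) := by
    have hg : ∀ i, gram (QuadraticMap.polarBilin (Q.comp (D i).subtype)) (b i) =
        Matrix.of fun a a' => B (b i a : Vec) (b i a' : Vec) := fun i => by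
      ext a a'; exact polar_restrict (b i a) (b i a')
    constructor
    · rintro ⟨e, he⟩
      obtain ⟨x, hx, hdet⟩ := Forms.Disc.det_gram_change (QuadraticMap.polarBilin (Q.comp (D 1).subtype))
        ((b 0).map e) (b 1)
      have h : gram (QuadraticMap.polarBilin (Q.comp (D 1).subtype)) ((b 0).map e) =
          Matrix.of fun a a' => B (b 0 a : Vec) (b 0 a' : Vec) := by
        ext a a'
        refine (polar_restrict ((b 0).map e a) ((b 0).map e a')).trans ?_
        show B ((e (b 0 a) : D 1) : Vec) ((e (b 0 a') : D 1) : Vec) = B (b 0 a : Vec) (b 0 a' : Vec)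
        simp only [QuadraticMap.polar, ← Submodule.coe_add, ← map_add, he]
      rw [h, hg] at hdet
      exact ⟨x * d₀, by rw [hd₁, hdet]; ring⟩
    · intro hsq
      obtain ⟨e, he⟩ := Forms.Disc.exists_isometry h2 (QuadraticMap.polarBilin (Q.comp (D 0).subtype))
        ⟨fun x y => by simpa using QuadraticMap.polar_comm _ x y⟩ (nonDeg_of (hD.nondegenerate 0)).restrict
        (QuadraticMap.polarBilin (Q.comp (D 1).subtype))
        ⟨fun x y => by simpa using QuadraticMap.polar_comm _ x y⟩ (nonDeg_of (hD.nondegenerate 1)).restrict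
        (by rw [hD.decomp.finrank_eq, hD.decomp.finrank_eq]) (b 0) (b 1) (by rw [hg, hg]; exact hsq)
      refine ⟨e, fun w => ?_⟩
      have h : B ((e w : D 1) : Vec) ((e w : D 1) : Vec) = B (w : Vec) (w : Vec) :=
        (polar_restrict (e w) (e w)).symm.trans ((he w w).trans (polar_restrict w w))
      rw [QuadraticMap.polar_self, QuadraticMap.polar_self, two_smul, two_smul, ← two_mul, ← two_mul] at h
      exact mul_left_cancel₀ h2 h
  rw [hiso, plus_iff_square hQ h2 hm c, hc,
    isSquare_mul_iff h2 (pow_ne_zero _ (neg_ne_zero.2 one_ne_zero)) (mul_ne_zero h0 h1)]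

omit h2 in
/-- A form defined over the subfield of index two has plus type. -/
theorem plus_of_rational {m : ℕ} (hm : Fintype.card ι = 2 * m) {F₀ : Subfield F}
    (hcard : Fintype.card F = Nat.card F₀ ^ 2) (P : GL ι F) {ζ : F} (hζ : ζ ≠ 0)
    (hrat : IsQuadFormRationalStructure (fun v : ι → F => ζ * Q v) F₀ P) :
    IsPlusTypeOn (⇑Q) (⊤ : Submodule F Vec) := by
  classical
  haveI : Fintype F₀ := Fintype.ofFinite F₀
  let L₁ : (ι → F) →ₗ[F] (ι → F) := Matrix.toLin' (P : Matrix ι ι F)
  let Q₁ : QuadraticForm F (ι → F) := (ζ • Q).comp L₁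
  have hQ₁ : ∀ x, Q₁ x = ζ * Q ((P : Matrix ι ι F) *ᵥ x) := fun x => by simp [Q₁, L₁]
  have hpol : ∀ x y, QuadraticMap.polar Q₁ x y =
      ζ * B ((P : Matrix ι ι F) *ᵥ x) ((P : Matrix ι ι F) *ᵥ y) := fun x y => by
    simp only [QuadraticMap.polar, hQ₁, Matrix.mulVec_add]; ring
  let co : (ι → F₀) → (ι → F) := fun u i => (u i : F)
  have hco : ∀ u v, co (u + v) = co u + co v := fun u v => rfl
  have hmem : ∀ u, Q₁ (co u) ∈ F₀ := fun u => by rw [hQ₁]; exact hrat _ fun i => (u i).2
  have hco_smul : ∀ (a : F₀) u, co (a • u) = (a : F) • co u := fun a u => rfl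
  let Q₀ : QuadraticForm F₀ (ι → F₀) := QuadraticMap.ofPolar (fun u => ⟨Q₁ (co u), hmem u⟩)
    (fun a u => Subtype.ext (by
      show Q₁ (co (a • u)) = (a : F) * (a : F) * Q₁ (co u)
      rw [hco_smul, QuadraticMap.map_smul, smul_eq_mul]))
    (fun x y z => Subtype.ext (by
      have h := QuadraticMap.polar_add_left Q₁ (co x) (co y) (co z)
      simp only [QuadraticMap.polar, ← hco] at h
      simp only [QuadraticMap.polar, AddSubgroupClass.coe_sub, AddMemClass.coe_add]
      exact h))
    (fun a x y => Subtype.ext (by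
      have h := QuadraticMap.polar_smul_left Q₁ (a : F) (co x) (co y)
      simp only [QuadraticMap.polar, ← hco_smul, ← hco, smul_eq_mul] at h
      simp only [QuadraticMap.polar, AddSubgroupClass.coe_sub, smul_eq_mul, MulMemClass.coe_mul]
      exact h))
  have hQ₀ : ∀ u, ((Q₀ u : F₀) : F) = Q₁ (co u) := fun u => rfl
  have hnd : (QuadraticMap.polarBilin Q₀).Nondegenerate := by
    refine nondeg_of_forall _ fun x hx => ?_
    have h0 : ∀ j, QuadraticMap.polar Q₁ (co x) (Pi.single j 1) = 0 := fun j => by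
      have h := congrArg (fun a : F₀ => (a : F)) (hx (Pi.single j 1))
      simp only [QuadraticMap.polar, AddSubgroupClass.coe_sub, hQ₀, hco, ZeroMemClass.coe_zero] at h
      have e : co (Pi.single j 1) = Pi.single j 1 := by
        funext i; simp only [co, Pi.single_apply]; split_ifs <;> simp
      rw [e] at h
      exact h
    have h1 : ∀ y, QuadraticMap.polarBilin Q₁ (co x) y = 0 := fun y => by
      rw [pi_eq_sum_univ' y, map_sum]
      exact Finset.sum_eq_zero fun i _ => by
        rw [map_smul, QuadraticMap.polarBilin_apply_apply, h0, smul_zero]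
    have h3 : (P : Matrix ι ι F) *ᵥ co x = 0 := hQ.1 _ fun y => by
      have h := h1 (((P⁻¹ : GL ι F) : Matrix ι ι F) *ᵥ y)
      rw [QuadraticMap.polarBilin_apply_apply, hpol, Matrix.mulVec_mulVec y, Units.mul_inv,
        Matrix.one_mulVec] at h
      exact (mul_eq_zero.1 h).resolve_left hζ
    have h4 : co x = 0 := by
      have := congrArg (((P⁻¹ : GL ι F) : Matrix ι ι F) *ᵥ ·) h3
      simpa [Matrix.mulVec_mulVec] using this
    funext i
    exact Subtype.ext (congrFun h4 i)
  -- extension of an isometry with a model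
  have hext : ∀ {κ : Type} [Fintype κ] [DecidableEq κ] (e : (ι → F₀) ≃ₗ[F₀] (κ → F₀))
      (M₀ : QuadraticForm F₀ (κ → F₀)) (M : QuadraticForm F (κ → F)),
      (∀ y, M (fun a => (y a : F)) = (M₀ y : F)) → (∀ u, M₀ (e u) = Q₀ u) →
      ∃ L : (κ → F) ≃ₗ[F] (ι → F), ∀ y, ζ * Q (L y) = M y := by
    intro κ _ _ e M₀ M hM he
    let N : Matrix ι κ F := (LinearMap.toMatrix' e.symm.toLinearMap).map F₀.subtype
    let N' : Matrix κ ι F := (LinearMap.toMatrix' e.toLinearMap).map F₀.subtype
    have h1 : N * N' = 1 := by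
      rw [← Matrix.map_mul, ← LinearMap.toMatrix'_comp, LinearEquiv.symm_comp, LinearMap.toMatrix'_id,
        Matrix.map_one _ (map_zero _) (map_one _)]
    have h1' : N' * N = 1 := by
      rw [← Matrix.map_mul, ← LinearMap.toMatrix'_comp, LinearEquiv.comp_symm, LinearMap.toMatrix'_id,
        Matrix.map_one _ (map_zero _) (map_one _)]
    have hN : ∀ y : κ → F₀, N *ᵥ (fun a => (y a : F)) = co (e.symm y) := fun y => by
      funext i
      have h := RingHom.map_mulVec F₀.subtype (LinearMap.toMatrix' e.symm.toLinearMap) y i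
      rw [← Matrix.toLin'_apply, Matrix.toLin'_toMatrix'] at h
      exact h.symm
    let L₀ : (κ → F) ≃ₗ[F] (ι → F) := Matrix.toLin'OfInv h1' h1
    let L : (κ → F) ≃ₗ[F] (ι → F) := L₀.trans
      (Matrix.toLin'OfInv (show ((P⁻¹ : GL ι F) : Matrix ι ι F) * (P : Matrix ι ι F) = 1 from Units.inv_mul P)
        (Units.mul_inv P))
    refine ⟨L, fun y => ?_⟩
    have hL : ∀ z, L z = (P : Matrix ι ι F) *ᵥ (N *ᵥ z) := fun z => rfl
    let D : QuadraticForm F (κ → F) := Q₁.comp (Matrix.toLin' N) - M
    have hD : ∀ z, D z = ζ * Q (L z) - M z := fun z => by simp [D, hQ₁, hL]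
    have hD0 : ∀ y : κ → F₀, D (fun a => (y a : F)) = 0 := fun y => by
      rw [hD, hL, hN, ← hQ₁, ← hQ₀, ← he, e.apply_symm_apply, hM, sub_self]
    have hs : ∀ a : κ, (fun b => ((Pi.single a (1 : F₀) : κ → F₀) b : F)) = Pi.single a 1 := fun a => by
      funext b; simp only [Pi.single_apply]; split_ifs <;> simp
    have hpolD : QuadraticMap.polarBilin D = 0 := by
      refine LinearMap.ext_basis (Pi.basisFun F κ) (Pi.basisFun F κ) fun a b => ?_
      rw [QuadraticMap.polarBilin_apply_apply, LinearMap.zero_apply, LinearMap.zero_apply, Pi.basisFun_apply,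
        Pi.basisFun_apply, QuadraticMap.polar, ← hs a, ← hs b, hD0, hD0]
      have h := hD0 (Pi.single a 1 + Pi.single b 1)
      simp only [Pi.add_apply, AddMemClass.coe_add] at h
      rw [sub_zero, sub_zero]
      exact h
    have hadd : ∀ x z, D (x + z) = D x + D z := fun x z => by
      have h := congrArg (fun Bl => Bl x z) hpolD
      simp only [QuadraticMap.polarBilin_apply_apply, LinearMap.zero_apply, QuadraticMap.polar] at h
      linear_combination h
    let Dh : (κ → F) →+ F := { toFun := D, map_zero' := QuadraticMap.map_zero D, map_add' := hadd }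
    have : D y = 0 := by
      show Dh y = 0
      rw [pi_eq_sum_univ' y, map_sum]
      refine Finset.sum_eq_zero fun a _ => ?_
      show D _ = 0
      rw [QuadraticMap.map_smul, ← hs a, hD0, smul_zero]
    rw [hD, sub_eq_zero] at this
    exact this
  rcases QuadClass.classify_even m (V := ι → F₀) (by rw [Module.finrank_fintype_fun_eq_card, hm]) Q₀ hnd with
    ⟨e, he⟩ | ⟨hm1, ξ, e, hξ, he⟩
  · obtain ⟨L, hL⟩ := hext e (plusQ F₀ m) (plusQ F m) (fun y => by
      simp [plusQ_apply, Cfsg.quadFormPlus]) he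
    have h : PlusType (ζ • Q) := plusType_of_iso_plus L.symm fun x => by
      rw [← hL, L.apply_symm_apply]; rfl
    obtain ⟨U, hU, hd⟩ := h
    refine plusType_iff_top.1 ⟨U, fun u hu => ?_, hd⟩
    exact (mul_eq_zero.1 (hU u hu)).resolve_left hζ
  · obtain ⟨L, hL⟩ := hext e (minQ F₀ (m - 1) 1 ξ) (minQ F (m - 1) 1 (ξ : F)) (fun y => by
      simp [minQ_apply, plusQ_apply, Cfsg.quadFormPlus]) he
    obtain ⟨t, ht⟩ := exists_root_quadratic hcard ξ hξ
    let g : (Fin (m - 1) → F) × F →ₗ[F] ((Fin (m - 1) ⊕ Fin (m - 1)) ⊕ Fin 2 → F) :=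
      { toFun := fun z => Sum.elim (Sum.elim z.1 0) ![z.2 * t, z.2]
        map_add' := fun a b => by
          funext i; rcases i with (i | i) | i
          · simp
          · simp
          · fin_cases i <;> simp [add_mul]
        map_smul' := fun c a => by
          funext i; rcases i with (i | i) | i
          · simp
          · simp
          · fin_cases i <;> simp [mul_assoc] }
    have hg : Function.Injective g := fun a b h => Prod.ext
      (funext fun i => congrFun h (Sum.inl (Sum.inl i))) (congrFun h (Sum.inr 1))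
    refine plusType_iff_top.1 ⟨LinearMap.range (L.toLinearMap.comp g), ?_, ?_⟩
    · rintro _ ⟨z, rfl⟩
      refine (mul_eq_zero.1 ((hL (g z)).trans ?_)).resolve_left hζ
      rw [minQ_apply, plusQ_apply, Cfsg.quadFormPlus]
      simp only [g, LinearMap.coe_mk, AddHom.coe_mk, Function.comp_apply, Sum.elim_inl, Sum.elim_inr,
        Pi.zero_apply, mul_zero, Finset.sum_const_zero, zero_add, Matrix.cons_val_zero, Matrix.cons_val_one]
      linear_combination (z.2 ^ 2) * ht
    · rw [LinearMap.finrank_range_of_inj (f := L.toLinearMap.comp g) (L.injective.comp hg), Module.finrank_prod,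
        Module.finrank_self, Module.finrank_fintype_fun_eq_card, Module.finrank_fintype_fun_eq_card,
        Fintype.card_fin]
      omega

end Cfsg.Agent.Aschbacher.Ev
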