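/-
A non-degenerate quadratic form in even dimension as form data; invariant subspaces, decompositions, subfields.
-/
import Mathlib
import Cfsg.Agent.Aschbacher.Ev.Disc
import Cfsg.Agent.Aschbacher.Or.Base

set_option autoImplicit false
set_option linter.style.haveILetI false
set_option linter.unusedSectionVars false

namespace Cfsg.Agent.Aschbacher.Ev

open Module Matrix
open Cfsg.Geo

variable {F : Type*} [Field F] {ι : Type} [Fintype ι] [DecidableEq ι] {Q : QuadraticForm F (ι → F)}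

local notation "Vec" => (ι → F)
local notation "B" => QuadraticMap.polar Q

lemma polar_spec (Q : QuadraticForm F (ι → F)) :
    QuadraticMap.polar (⇑Q) = sesqForm (RingHom.id F) (gramMatrix (QuadraticMap.polar (⇑Q))) := by
  obtain ⟨S, hS⟩ := exists_sesqForm_of_bilinear (f := QuadraticMap.polar (⇑Q))
    { add_left := QuadraticMap.polar_add_left Q
      smul_left := fun c x v => by rw [QuadraticMap.polar_smul_left, smul_eq_mul]
      add_right := QuadraticMap.polar_add_right Q
      smul_right := fun c v x => by rw [QuadraticMap.polar_smul_right, smul_eq_mul] }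
  have : gramMatrix (QuadraticMap.polar (⇑Q)) = S := by
    ext a b
    rw [gramMatrix, hS, sesqForm_single]
  rw [this]
  exact hS

variable [Finite F] (hQ : (QuadraticMap.polarBilin Q).Nondegenerate)

lemma isUnit_gram (hQ : (QuadraticMap.polarBilin Q).Nondegenerate) :
    IsUnit (gramMatrix (QuadraticMap.polar (⇑Q))).det := by
  refine isUnit_det_of_nondegenerate (RingHom.id F) ?_
  rw [← polar_spec]
  intro v hv
  obtain ⟨x, hx⟩ := Forms.Max.Orth.exists_ne hQ hv
  exact ⟨⟨x, by rwa [QuadraticMap.polar_comm]⟩, ⟨x, hx⟩⟩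

/-- The polar form as form data. -/
noncomputable def evData (hQ : (QuadraticMap.polarBilin Q).Nondegenerate) : FormData ι F where
  τ := RingEquiv.refl F
  T := gramMatrix (QuadraticMap.polar (⇑Q))
  ε := 1
  invol _ := rfl
  isUnit := isUnit_gram hQ
  refl := by
    rw [show (gramMatrix (QuadraticMap.polar (⇑Q))).map (RingEquiv.refl F) =
      gramMatrix (QuadraticMap.polar (⇑Q)) from Matrix.map_id _, one_smul]
    ext a b
    rw [Matrix.transpose_apply, gramMatrix, gramMatrix, QuadraticMap.polar_comm]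

lemma evData_τ : (evData hQ).τ = RingEquiv.refl F := rfl

lemma evData_form : (evData hQ).form = QuadraticMap.polar (⇑Q) := by
  conv_rhs => rw [polar_spec Q]
  rfl

lemma evData_swap (u v : Vec) : (evData hQ).form v u = (evData hQ).form u v := by
  rw [evData_form]; exact QuadraticMap.polar_comm _ _ _

lemma evData_self (v : Vec) : (evData hQ).form v v = 2 * Q v := by
  rw [evData_form, QuadraticMap.polar_self, two_smul, two_mul]

lemma mem_evIso {g : GL ι F} :
    g ∈ Cfsg.isometryGroup F (⇑Q) ↔ ∀ v, Q ((g : Matrix ι ι F) *ᵥ v) = Q v :=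
  Forms.QuadStd.mem_isometry_iff _ g

lemma polar_of_mem {g : GL ι F} (hg : g ∈ Cfsg.isometryGroup F (⇑Q)) (u v : Vec) :
    B ((g : Matrix ι ι F) *ᵥ u) ((g : Matrix ι ι F) *ᵥ v) = B u v := by
  simp only [QuadraticMap.polar, ← Matrix.mulVec_add, mem_evIso.1 hg]

lemma form_of_mem {g : GL ι F} (hg : g ∈ Cfsg.isometryGroup F (⇑Q)) (u v : Vec) :
    (evData hQ).form ((g : Matrix ι ι F) *ᵥ u) ((g : Matrix ι ι F) *ᵥ v) = (evData hQ).form u v := by
  rw [evData_form]; exact polar_of_mem hg u v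

lemma evIso_le_sim : Cfsg.isometryGroup F (⇑Q) ≤ (evData hQ).sim := fun g hg =>
  ⟨1, fun u v => by rw [Units.val_one, one_mul]; exact form_of_mem hQ hg u v⟩

lemma scalars_le_ev_sim : scalars ι F ≤ (evData hQ).sim := by
  intro g hg
  obtain ⟨c, hc⟩ := (Cfsg.Geo.mem_scalars_iff g).1 hg
  refine ⟨c * c, fun u v => ?_⟩
  rw [hc, smul_mulVec', smul_mulVec', FormData.form_smul_left, FormData.form_smul_right, evData_τ,
    Units.val_mul, mul_assoc]
  rfl

lemma quad_eq_half (h2 : (2 : F) ≠ 0) (v : Vec) : Q v = (2 : F)⁻¹ * B v v := by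
  rw [QuadraticMap.polar_self, two_smul, ← two_mul, ← mul_assoc, inv_mul_cancel₀ h2, one_mul]

lemma omegaGL_le_iso : omegaGL (⇑Q) ≤ Cfsg.isometryGroup F (⇑Q) := by
  rintro _ ⟨x, -, rfl⟩
  exact x.2

/-- Isometries have determinant one on `Omega`. -/
lemma det_omegaGL {g : GL ι F} (hg : g ∈ omegaGL (⇑Q)) : (g : Matrix ι ι F).det = 1 := by
  have h : omegaGL (⇑Q) ≤ (Matrix.GeneralLinearGroup.det : GL ι F →* Fˣ).ker := by
    rintro _ ⟨x, hx, rfl⟩
    have h1 : Cfsg.Omega F (⇑Q) ≤
        ((Matrix.GeneralLinearGroup.det : GL ι F →* Fˣ).comp (Cfsg.isometryGroup F (⇑Q)).subtype).ker := by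
      rw [Cfsg.Omega]
      exact Abelianization.commutator_subset_ker _
    exact h1 hx
  exact congrArg Units.val (h hg)

/-! ### Kernels of the form on subspaces in characteristic two -/

/-- The zeros of the form in a subspace on which the polar form vanishes, in characteristic two. -/
def singKer (Q : QuadraticForm F (ι → F)) (W : Submodule F (ι → F))
    (hts : ∀ x ∈ W, ∀ y ∈ W, QuadraticMap.polar Q x y = 0) : Submodule F (ι → F) where
  carrier := {v | v ∈ W ∧ Q v = 0}
  add_mem' {u v} hu hv := ⟨add_mem hu.1 hv.1, by rw [qadd, hu.2, hv.2, hts u hu.1 v hv.1, add_zero, add_zero]⟩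
  zero_mem' := ⟨zero_mem _, QuadraticMap.map_zero Q⟩
  smul_mem' c v hv := ⟨W.smul_mem c hv.1, by rw [QuadraticMap.map_smul, hv.2, smul_zero]⟩

lemma finrank_le_singKer [Fintype F] (h2 : (2 : F) = 0) {W : Submodule F Vec}
    (hts : ∀ x ∈ W, ∀ y ∈ W, B x y = 0) : finrank F W ≤ finrank F (singKer Q W hts) + 1 := by
  classical
  by_cases hall : singKer Q W hts = W
  · rw [hall]; omega
  obtain ⟨u, hu, hQu⟩ : ∃ u ∈ W, Q u ≠ 0 := by
    by_contra h
    push Not at h
    exact hall (le_antisymm (fun v hv => hv.1) fun v hv => ⟨hv, h v hv⟩)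
  have hle : W ≤ singKer Q W hts ⊔ Submodule.span F {u} := by
    intro v hv
    obtain ⟨a, ha⟩ := exists_sq_eq h2 (Q v / Q u)
    have h : v + a • u ∈ singKer Q W hts := by
      refine ⟨add_mem hv (W.smul_mem a hu), ?_⟩
      rw [qadd, QuadraticMap.map_smul, QuadraticMap.polar_smul_right, hts v hv u hu, smul_zero, add_zero,
        smul_eq_mul, ← sq, ha, div_mul_cancel₀ _ hQu, ← two_mul, h2, zero_mul]
    have : v = (v + a • u) + (-a) • u := by rw [neg_smul, add_neg_cancel_right]
    rw [this]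
    exact Submodule.add_mem_sup h (Submodule.smul_mem _ _ (Submodule.mem_span_singleton_self u))
  have h1 := Submodule.finrank_mono hle
  have h3 := Submodule.finrank_sup_add_finrank_inf_eq (singKer Q W hts) (Submodule.span F {u})
  rw [finrank_span_singleton (show u ≠ 0 from fun h => hQu (by rw [h, QuadraticMap.map_zero]))] at h3
  omega

lemma singKer_invariant {W : Submodule F Vec} (hts : ∀ x ∈ W, ∀ y ∈ W, B x y = 0) {g : GL ι F}
    (hg : g ∈ Cfsg.isometryGroup F (⇑Q)) (hW : ∀ v ∈ W, (g : Matrix ι ι F) *ᵥ v ∈ W) :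
    ∀ v ∈ singKer Q W hts, (g : Matrix ι ι F) *ᵥ v ∈ singKer Q W hts := fun v hv =>
  ⟨hW v hv.1, by rw [mem_evIso.1 hg]; exact hv.2⟩

/-! ### Uniqueness of invariant quadratic forms -/

/-- Quadratic functions with one polar form, both invariant under an irreducible group, are equal in
characteristic two. -/
theorem eq_of_invariant [Fintype F] (h2 : (2 : F) = 0) (hn : 2 ≤ Fintype.card ι) {H : Subgroup (GL ι F)}
    (hirr : Irred H) {Q₁ Q₂ : (ι → F) → F} (hs₁ : ∀ (c : F) v, Q₁ (c • v) = c ^ 2 * Q₁ v)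
    (hs₂ : ∀ (c : F) v, Q₂ (c • v) = c ^ 2 * Q₂ v)
    (hp : ∀ u v, QuadraticMap.polar Q₁ u v = QuadraticMap.polar Q₂ u v)
    (h₁ : ∀ g ∈ H, ∀ v, Q₁ ((g : Matrix ι ι F) *ᵥ v) = Q₁ v)
    (h₂ : ∀ g ∈ H, ∀ v, Q₂ ((g : Matrix ι ι F) *ᵥ v) = Q₂ v) : ∀ v, Q₁ v = Q₂ v := by
  classical
  set Δ := fun v => Q₁ v - Q₂ v with hΔ
  have hadd : ∀ u v, Δ (u + v) = Δ u + Δ v := by
    intro u v
    have h := hp u v
    simp only [QuadraticMap.polar] at h
    simp only [hΔ]
    linear_combination h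
  have hsmul : ∀ (c : F) v, Δ (c • v) = c ^ 2 * Δ v := fun c v => by simp only [hΔ, hs₁, hs₂]; ring
  let W : Submodule F Vec :=
    { carrier := {v | Δ v = 0}
      add_mem' := fun {u v} (hu : Δ u = 0) (hv : Δ v = 0) => by
        show Δ (u + v) = 0
        rw [hadd, hu, hv, add_zero]
      zero_mem' := by
        show Δ 0 = 0
        simpa using hsmul 0 0
      smul_mem' := fun c v (hv : Δ v = 0) => by
        show Δ (c • v) = 0
        rw [hsmul, hv, mul_zero] }
  rcases irred_iff.1 hirr W (fun g hg v hv => by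
    show Δ _ = 0
    simp only [hΔ, h₁ g hg, h₂ g hg]
    exact hv) with h | h
  · exfalso
    haveI : Nontrivial ι := Fintype.one_lt_card_iff_nontrivial.1 (by omega)
    obtain ⟨i, j, hij⟩ := exists_pair_ne ι
    set u : Vec := Pi.single i 1 with hu
    set v : Vec := Pi.single j 1 with hv
    by_cases hu0 : Δ u = 0
    · have : u ∈ W := hu0
      rw [h, Submodule.mem_bot] at this
      exact (one_ne_zero : (1 : F) ≠ 0) (by simpa [hu] using congrFun this i)
    · obtain ⟨a, ha⟩ := exists_sq_eq h2 (Δ v / Δ u)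
      have : v + a • u ∈ W := by
        show Δ _ = 0
        rw [hadd, hsmul, ha, div_mul_cancel₀ _ hu0, ← two_mul, h2, zero_mul]
      rw [h, Submodule.mem_bot] at this
      exact (one_ne_zero : (1 : F) ≠ 0) (by simpa [hu, hv, hij.symm] using congrFun this j)
  · intro v
    have : v ∈ W := h ▸ Submodule.mem_top
    exact sub_eq_zero.1 this

include hQ in
/-- An invariant polarised form is the given one in characteristic two. -/
theorem quad_eq_of_polarised [Fintype F] (h2 : (2 : F) = 0) (hn : 2 ≤ Fintype.card ι) {H : Subgroup (GL ι F)}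
    (hH : H ≤ Cfsg.isometryGroup F (⇑Q)) (hirr : Irred H) {Q₁ : (ι → F) → F}
    (h : IsPolarised (evData hQ) Q₁) (hH₁ : H ≤ Cfsg.Geo.quadSimilarityGroup Q₁) : ∀ v, Q₁ v = Q v := by
  haveI : Nonempty ι := Fintype.card_pos_iff.1 (by omega)
  have hp : ∀ u v, QuadraticMap.polar Q₁ u v = B u v := fun u v => by rw [h.2, evData_form]
  refine eq_of_invariant h2 hn hirr h.1.smul (fun c v => by rw [QuadraticMap.map_smul, smul_eq_mul, sq]) hp
    (fun g hg v => ?_) (fun g hg => mem_evIso.1 (hH hg))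
  obtain ⟨c, hc⟩ := hH₁ hg
  have hc1 : (c : F) = 1 := by
    obtain ⟨u, hu⟩ := _root_.exists_ne (0 : Vec)
    obtain ⟨x, hx⟩ := Forms.Max.Orth.exists_ne hQ hu
    have e := polar_of_mem (hH hg) u x
    rw [← hp, ← hp, QuadraticMap.polar, ← Matrix.mulVec_add, hc, hc, hc, ← mul_sub, ← mul_sub] at e
    exact mul_right_cancel₀ (b := QuadraticMap.polar Q₁ u x) (by rw [hp]; exact hx)
      (by rw [one_mul]; exact e)
  rw [hc, hc1, one_mul]

/-! ### Reducible groups -/

/-- An alternating non-degenerate subspace has even dimension. -/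
lemma even_finrank_of_alternating (h2 : (2 : F) = 0) {W : Submodule F Vec}
    (hW : NonDeg Q W) (hQ : (QuadraticMap.polarBilin Q).Nondegenerate) : Even (finrank F W) := by
  induction hn : finrank F W using Nat.strong_induction_on generalizing W with
  | _ n ih =>
    by_cases h0 : W = ⊥
    · rw [h0, finrank_bot] at hn
      exact hn ▸ Even.zero
    obtain ⟨r, hr, hr0⟩ := Submodule.exists_mem_ne_zero_of_ne_bot h0
    obtain ⟨s, hs, hrs⟩ := hW r hr hr0
    have hself : ∀ x : Vec, B x x = 0 := fun x => by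
      rw [QuadraticMap.polar_self, two_smul, ← two_mul, h2, zero_mul]
    set P : Submodule F Vec := Submodule.span F {r} ⊔ Submodule.span F {s} with hP
    have hrP : r ∈ P := Submodule.mem_sup_left (Submodule.mem_span_singleton_self r)
    have hsP : s ∈ P := Submodule.mem_sup_right (Submodule.mem_span_singleton_self s)
    have hPn : NonDeg Q P := by
      intro v hv hv0
      obtain ⟨a, ha, b, hb, rfl⟩ := Submodule.mem_sup.1 hv
      obtain ⟨x, rfl⟩ := Submodule.mem_span_singleton.1 ha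
      obtain ⟨y, rfl⟩ := Submodule.mem_span_singleton.1 hb
      by_cases hx : x = 0
      · refine ⟨r, hrP, ?_⟩
        have hy : y ≠ 0 := fun h => hv0 (by rw [hx, h, zero_smul, zero_smul, add_zero])
        rw [hx, zero_smul, zero_add, QuadraticMap.polar_smul_left, QuadraticMap.polar_comm, smul_eq_mul]
        exact mul_ne_zero hy hrs
      · refine ⟨s, hsP, ?_⟩
        rw [QuadraticMap.polar_add_left, QuadraticMap.polar_smul_left, QuadraticMap.polar_smul_left, hself,
          smul_zero, add_zero, smul_eq_mul]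
        exact mul_ne_zero hx hrs
    have hPd : finrank F P = 2 := by
      have h := Submodule.finrank_sup_add_finrank_inf_eq (Submodule.span F {r}) (Submodule.span F {s})
      have hs0 : s ≠ 0 := fun h => hrs (by rw [h, QuadraticMap.polar_zero_right])
      have h3 : Submodule.span F {r} ⊓ Submodule.span F {s} = ⊥ := by
        rw [eq_bot_iff]
        rintro v ⟨hv1, hv2⟩
        obtain ⟨x, rfl⟩ := Submodule.mem_span_singleton.1 hv1
        obtain ⟨y, hy⟩ := Submodule.mem_span_singleton.1 hv2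
        have e := congrArg (fun z => B r z) hy
        simp only [QuadraticMap.polar_smul_right, hself, smul_zero, smul_eq_mul, mul_zero, mul_eq_zero] at e
        rw [Submodule.mem_bot, ← hy, e.resolve_right hrs, zero_smul]
      rw [h3, finrank_bot, add_zero, finrank_span_singleton hr0, finrank_span_singleton hs0] at h
      rw [hP, h]
    set W' := Forms.Max.Orth.perp Q P ⊓ W with hW'
    have hPW : P ≤ W := sup_le ((Submodule.span_singleton_le_iff_mem _ _).2 hr)
      ((Submodule.span_singleton_le_iff_mem _ _).2 hs)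
    have hsplit : P ⊔ W' = W := by
      rw [hW', ← sup_inf_assoc_of_le _ hPW, sup_perp hQ hPn, top_inf_eq]
    have ho : ∀ x ∈ P, ∀ y ∈ W', B x y = 0 := fun x hx y hy => Forms.Max.Orth.mem_perp.1 hy.1 x hx
    have hW'n : NonDeg Q W' := by
      intro v hv hv0
      obtain ⟨z, hz, hvz⟩ := hW v hv.2 hv0
      rw [← hsplit] at hz
      obtain ⟨p, hp, w, hw, rfl⟩ := Submodule.mem_sup.1 hz
      refine ⟨w, hw, ?_⟩
      rwa [QuadraticMap.polar_add_right, QuadraticMap.polar_comm (⇑Q) v p, ho p hp v hv, zero_add] at hvz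
    have hd := finrank_sup_orth hPn ho
    rw [hsplit, hPd, hn] at hd
    obtain ⟨a, ha⟩ := ih (finrank F W') (by omega) hW'n rfl
    exact ⟨a + 1, by omega⟩

variable [Fintype F] {H : Subgroup (GL ι F)}

include hQ in
/-- A reducible group of isometries. -/
theorem reducible_ev [Nonempty ι] (hH : H ≤ Cfsg.isometryGroup F (⇑Q)) (hred : ¬ Irred H) :
    (∃ W : Submodule F Vec, W ≠ ⊥ ∧ IsTotallySingularQuad (⇑Q) W ∧ H ≤ subspaceStabilizer W) ∨
    ((2 : F) = 0 ∧ ∃ v : Vec, Q v ≠ 0 ∧ H ≤ subspaceStabilizer (Submodule.span F {v})) ∨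
    (∃ W : Submodule F Vec, W ≠ ⊥ ∧ NonDeg Q W ∧ 2 * finrank F W ≤ Fintype.card ι ∧
      (Odd (finrank F W) → (2 : F) ≠ 0) ∧ H ≤ subspaceStabilizer W) := by
  classical
  set D := evData hQ
  obtain ⟨W, h0, h1, hle⟩ := exists_le_subspaceStabilizer hred
  have hW : ∀ g ∈ H, ∀ v ∈ W, (g : Matrix ι ι F) *ᵥ v ∈ W := fun g hg v hv =>
    (mem_subspaceStabilizer.1 (hle hg) v).1 hv
  have hP : ∀ g ∈ H, ∀ v ∈ Forms.Max.Orth.perp Q W, (g : Matrix ι ι F) *ᵥ v ∈ Forms.Max.Orth.perp Q W := by
    intro g hg v hv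
    refine Forms.Max.Orth.mem_perp.2 fun w hw => ?_
    have hw' := hW _ (inv_mem hg) w hw
    have := polar_of_mem (hH hg) (((g⁻¹ : GL ι F) : Matrix ι ι F) *ᵥ w) v
    rw [Matrix.mulVec_mulVec, Units.mul_inv, Matrix.one_mulVec] at this
    rw [this]
    exact Forms.Max.Orth.mem_perp.1 hv _ hw'
  have hstab : ∀ X : Submodule F Vec, (∀ g ∈ H, ∀ v ∈ X, (g : Matrix ι ι F) *ᵥ v ∈ X) →
      H ≤ subspaceStabilizer X := fun X hX g hg => mem_subspaceStabilizer_of_forall (hX g hg)
  by_cases hrad : W ⊓ Forms.Max.Orth.perp Q W = ⊥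
  swap
  · set R := W ⊓ Forms.Max.Orth.perp Q W
    have hR : ∀ x ∈ R, ∀ y ∈ R, B x y = 0 := fun x hx y hy => Forms.Max.Orth.mem_perp.1 hy.2 x hx.1
    have hRi : ∀ g ∈ H, ∀ v ∈ R, (g : Matrix ι ι F) *ᵥ v ∈ R := fun g hg v hv =>
      ⟨hW g hg v hv.1, hP g hg v hv.2⟩
    by_cases h2 : (2 : F) = 0
    swap
    · exact Or.inl ⟨R, hrad, fun x hx => by rw [quad_eq_half h2, hR x hx x hx, mul_zero], hstab R hRi⟩
    by_cases hk : singKer Q R hR = ⊥
    swap
    · exact Or.inl ⟨_, hk, fun x hx => hx.2,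
        hstab _ fun g hg => singKer_invariant hR (hH hg) (hRi g hg)⟩
    obtain ⟨v, hv, hv0⟩ := Submodule.exists_mem_ne_zero_of_ne_bot hrad
    have hQv : Q v ≠ 0 := fun h => hv0 (by
      have : v ∈ singKer Q R hR := ⟨hv, h⟩
      rwa [hk, Submodule.mem_bot] at this)
    have hd := finrank_le_singKer h2 hR
    rw [hk, finrank_bot, zero_add] at hd
    have hspan : Submodule.span F {v} = R := Submodule.eq_of_le_of_finrank_le
      ((Submodule.span_singleton_le_iff_mem _ _).2 hv) (by rw [finrank_span_singleton hv0]; exact hd)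
    exact Or.inr (Or.inl ⟨h2, v, hQv, hspan ▸ hstab R hRi⟩)
  have hWn : NonDeg Q W := by
    intro r hr hr0
    by_contra hall
    push Not at hall
    have : r ∈ W ⊓ Forms.Max.Orth.perp Q W :=
      ⟨hr, Forms.Max.Orth.mem_perp.2 fun w hw => by rw [QuadraticMap.polar_comm]; exact hall w hw⟩
    rw [hrad, Submodule.mem_bot] at this
    exact hr0 this
  have hsum := Forms.Max.Orth.finrank_perp hQ W
  have hodd : ∀ X : Submodule F Vec, NonDeg Q X → Odd (finrank F X) → (2 : F) ≠ 0 := fun X hX hod h2 =>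
    Nat.not_even_iff_odd.2 hod (even_finrank_of_alternating h2 hX hQ)
  rcases le_or_gt (2 * finrank F W) (Fintype.card ι) with h | h
  · exact Or.inr (Or.inr ⟨W, h0, hWn, h, hodd W hWn, hle⟩)
  · have hne : Forms.Max.Orth.perp Q W ≠ ⊥ := fun hb => by
      rw [hb, finrank_bot, zero_add] at hsum
      exact h1 (Submodule.eq_top_of_finrank_eq (by rw [hsum, Module.finrank_fintype_fun_eq_card]))
    exact Or.inr (Or.inr ⟨_, hne, nonDeg_perp hQ hWn, by omega, hodd _ (nonDeg_perp hQ hWn), hstab _ hP⟩)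

/-! ### Subfield groups -/

/-- `H` lies in a subfield group whose structure carries a multiple of the form. -/
def InEvSubfield (Q : QuadraticForm F (ι → F)) (H : Subgroup (GL ι F)) : Prop :=
  ∃ (F₀ : Subfield F) (r : ℕ) (P : GL ι F) (ζ : F), r.Prime ∧ Fintype.card F = Nat.card F₀ ^ r ∧ ζ ≠ 0 ∧
    IsQuadFormRationalStructure (fun v : ι → F => ζ * Q v) F₀ P ∧ H ≤ subfieldSubgroup F₀ P

lemma subfieldSubgroup_coords {F₀ : Subfield F} {P g : GL ι F} (hg : g ∈ subfieldSubgroup F₀ P) :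
    ∃ (c : F) (A : Matrix ι ι F), c ≠ 0 ∧ (∀ i j, A i j ∈ F₀) ∧
      (g : Matrix ι ι F) * (P : Matrix ι ι F) = (P : Matrix ι ι F) * (c • A) := by
  obtain ⟨x, hx, rfl⟩ := Subgroup.mem_map.1 hg
  obtain ⟨y, ⟨A, rfl⟩, z, hz, rfl⟩ := Subgroup.mem_sup_of_normal_right.1 hx
  obtain ⟨c, hc⟩ := (Cfsg.Geo.mem_scalars_iff z).1 hz
  refine ⟨(c : F), (A : Matrix ι ι F₀).map F₀.subtype, c.ne_zero, fun i j => ((A : Matrix ι ι F₀) i j).2, ?_⟩
  show (P : Matrix ι ι F) * ((A : Matrix ι ι F₀).map F₀.subtype * (z : Matrix ι ι F)) *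
    ((P⁻¹ : GL ι F) : Matrix ι ι F) * (P : Matrix ι ι F) = _
  rw [mul_assoc _ ((P⁻¹ : GL ι F) : Matrix ι ι F), Units.inv_mul, mul_one, hc, Matrix.mul_smul, mul_one]

include hQ in
/-- A structure rational for the polar form is rational for the quadratic form. -/
theorem inEvSubfield_of_formRational (hn : 2 ≤ Fintype.card ι) (hH : H ≤ Cfsg.isometryGroup F (⇑Q))
    (hirr : Irred H) {F₁ : Subfield F} {r : ℕ} {P : GL ι F} {ζ : F} (hr : r.Prime)
    (hcard : Fintype.card F = Nat.card F₁ ^ r) (hζ : ζ ≠ 0)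
    (hrat : IsFormRationalStructure (QuadraticMap.polar (⇑Q)) F₁ ζ P) (hle : H ≤ subfieldSubgroup F₁ P) :
    InEvSubfield Q H := by
  classical
  refine ⟨F₁, r, P, ζ, hr, hcard, hζ, ?_, hle⟩
  by_cases h2 : (2 : F) = 0
  swap
  · intro u hu
    show ζ * Q _ ∈ F₁
    rw [quad_eq_half h2, mul_left_comm]
    exact mul_mem (inv_mem (natCast_mem F₁ 2)) (hrat u u hu hu)
  haveI : CharP F 2 := CharTwo.of_one_ne_zero_of_two_eq_zero one_ne_zero h2
  -- vectors over the subfield
  let co : (ι → F₁) → (ι → F) := fun u i => (u i : F)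
  have hcoF : ∀ u i, co u i ∈ F₁ := fun u i => (u i).2
  let R : (ι → F) → F := fun u => ζ * Q ((P : Matrix ι ι F) *ᵥ u)
  -- the groups act by matrices over the subfield
  have hact : ∀ g ∈ H, ∃ A : Matrix ι ι F₁, ∀ u : ι → F₁,
      (g : Matrix ι ι F) *ᵥ ((P : Matrix ι ι F) *ᵥ co u) = (P : Matrix ι ι F) *ᵥ co (A *ᵥ u) := by
    intro g hg
    obtain ⟨c, A, hc, hA, hgA⟩ := subfieldSubgroup_coords (hle hg)
    let A₁ : Matrix ι ι F₁ := Matrix.of fun i j => ⟨A i j, hA i j⟩
    have hA₁ : ∀ u : ι → F₁, A *ᵥ co u = co (A₁ *ᵥ u) := fun u => by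
      funext i
      simp [co, Matrix.mulVec, dotProduct, A₁]
    have hgu : ∀ u : ι → F₁,
        (g : Matrix ι ι F) *ᵥ ((P : Matrix ι ι F) *ᵥ co u) = c • ((P : Matrix ι ι F) *ᵥ co (A₁ *ᵥ u)) := by
      intro u
      rw [Matrix.mulVec_mulVec, hgA, Matrix.mul_smul, Matrix.smul_mulVec, ← Matrix.mulVec_mulVec, hA₁]
    haveI : Nonempty ι := Fintype.card_pos_iff.1 (by omega)
    obtain ⟨u, v, huv⟩ : ∃ u v : ι → F₁, B ((P : Matrix ι ι F) *ᵥ co u) ((P : Matrix ι ι F) *ᵥ co v) ≠ 0 := by
      by_contra hall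
      push Not at hall
      have hs : ∀ i : ι, (Pi.single i (1 : F) : ι → F) = co (Pi.single i 1) := fun i => by
        funext j; simp only [co, Pi.single_apply]; split_ifs <;> simp
      have h0 : (P : Matrix ι ι F)ᵀ * gramMatrix (QuadraticMap.polar (⇑Q)) * (P : Matrix ι ι F) = 0 := by
        ext i j
        have h := hall (Pi.single i 1) (Pi.single j 1)
        rw [← hs, ← hs, polar_spec Q, sesqForm_mulVec, sesqForm_single] at h
        rw [Matrix.zero_apply, ← h]
        congr 3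
      have h1 := congrArg Matrix.det h0
      rw [Matrix.det_mul, Matrix.det_mul, Matrix.det_transpose, Matrix.det_zero] at h1
      exact mul_ne_zero (mul_ne_zero (Matrix.GeneralLinearGroup.det P).ne_zero (isUnit_gram hQ).ne_zero)
        (Matrix.GeneralLinearGroup.det P).ne_zero h1
    have e := polar_of_mem (hH hg) ((P : Matrix ι ι F) *ᵥ co u) ((P : Matrix ι ι F) *ᵥ co v)
    rw [hgu, hgu, QuadraticMap.polar_smul_left, QuadraticMap.polar_smul_right, smul_eq_mul, smul_eq_mul] at e
    have e' : c ^ 2 * (ζ * B ((P : Matrix ι ι F) *ᵥ co (A₁ *ᵥ u)) ((P : Matrix ι ι F) *ᵥ co (A₁ *ᵥ v))) =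
        ζ * B ((P : Matrix ι ι F) *ᵥ co u) ((P : Matrix ι ι F) *ᵥ co v) := by rw [← e]; ring
    have hne : ζ * B ((P : Matrix ι ι F) *ᵥ co (A₁ *ᵥ u)) ((P : Matrix ι ι F) *ᵥ co (A₁ *ᵥ v)) ≠ 0 := fun h => by
      rw [h, mul_zero] at e'
      exact mul_ne_zero hζ huv e'.symm
    have hc2 : c ^ 2 ∈ F₁ := by
      rw [(eq_div_iff hne).2 e']
      exact div_mem (hrat _ _ (hcoF u) (hcoF v)) (hrat _ _ (hcoF _) (hcoF _))
    have hcF : c ∈ F₁ := by
      haveI : Fintype F₁ := Fintype.ofFinite _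
      obtain ⟨d, hd⟩ := exists_sq_eq (F := F₁) (Subtype.ext h2) ⟨c ^ 2, hc2⟩
      have hd' : (d : F) ^ 2 = c ^ 2 := congrArg Subtype.val hd
      rw [← CharTwo.sq_inj.1 hd']
      exact d.2
    refine ⟨(⟨c, hcF⟩ : F₁) • A₁, fun w => ?_⟩
    rw [hgu, Matrix.smul_mulVec, ← Matrix.mulVec_smul]
    rfl
  -- the vectors where the multiple is rational
  have hRadd : ∀ u v, R (u + v) = R u + R v +
      ζ * B ((P : Matrix ι ι F) *ᵥ u) ((P : Matrix ι ι F) *ᵥ v) := fun u v => by
    simp only [R, Matrix.mulVec_add, qadd]; ring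
  have hRsmul : ∀ (a : F) u, R (a • u) = a * a * R u := fun a u => by
    simp only [R, Matrix.mulVec_smul, QuadraticMap.map_smul, smul_eq_mul]; ring
  let U : Submodule F₁ (ι → F₁) :=
    { carrier := {u | R (co u) ∈ F₁}
      add_mem' := fun {u v} hu hv => by
        show R (co u + co v) ∈ F₁
        rw [hRadd]
        exact add_mem (add_mem hu hv) (hrat _ _ (hcoF u) (hcoF v))
      zero_mem' := by
        show R (0 : ι → F) ∈ F₁
        simp [R]
      smul_mem' := fun a u hu => by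
        show R ((a : F) • co u) ∈ F₁
        rw [hRsmul]
        exact mul_mem (mul_mem a.2 a.2) hu }
  have hUinv : ∀ g ∈ H, ∀ A : Matrix ι ι F₁, (∀ u : ι → F₁, (g : Matrix ι ι F) *ᵥ ((P : Matrix ι ι F) *ᵥ co u) =
      (P : Matrix ι ι F) *ᵥ co (A *ᵥ u)) → ∀ u, R (co (A *ᵥ u)) = R (co u) := fun g hg A hA u => by
    simp only [R, ← hA, mem_evIso.1 (hH hg)]
  let W : Submodule F Vec := Submodule.span F ((fun u => (P : Matrix ι ι F) *ᵥ co u) '' (U : Set (ι → F₁)))
  have hW : ∀ g ∈ H, ∀ v ∈ W, (g : Matrix ι ι F) *ᵥ v ∈ W := by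
    intro g hg v hv
    obtain ⟨A, hA⟩ := hact g hg
    induction hv using Submodule.span_induction with
    | mem x hx =>
      obtain ⟨u, hu, rfl⟩ := hx
      exact Submodule.subset_span ⟨A *ᵥ u, by show R _ ∈ F₁; rw [hUinv g hg A hA]; exact hu, (hA u).symm⟩
    | zero => rw [Matrix.mulVec_zero]; exact zero_mem _
    | add x y _ _ hx hy => rw [Matrix.mulVec_add]; exact add_mem hx hy
    | smul a x _ hx => rw [Matrix.mulVec_smul]; exact W.smul_mem a hx
  suffices hU : U = ⊤ by
    intro u hu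
    show ζ * Q _ ∈ F₁
    have : (fun i => (⟨u i, hu i⟩ : F₁)) ∈ U := hU ▸ Submodule.mem_top
    exact this
  rcases irred_iff.1 hirr W hW with hbot | htop
  · exfalso
    have hU0 : U = ⊥ := by
      rw [eq_bot_iff]
      intro u hu
      have h : (P : Matrix ι ι F) *ᵥ co u ∈ W := Submodule.subset_span ⟨u, hu, rfl⟩
      rw [hbot, Submodule.mem_bot] at h
      have h' : co u = 0 := by
        have := congrArg (((P⁻¹ : GL ι F) : Matrix ι ι F) *ᵥ ·) h
        simpa [Matrix.mulVec_mulVec] using this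
      rw [Submodule.mem_bot]
      funext i
      exact Subtype.ext (congrFun h' i)
    have htriv : ∀ g ∈ H, ∀ v : Vec, (g : Matrix ι ι F) *ᵥ v = v := by
      intro g hg
      obtain ⟨A, hA⟩ := hact g hg
      have hAu : ∀ u, A *ᵥ u = u := fun u => by
        have hm : A *ᵥ u + u ∈ U := by
          show R (co (A *ᵥ u) + co u) ∈ F₁
          rw [hRadd, hUinv g hg A hA, CharTwo.add_self_eq_zero, zero_add]
          exact hrat _ _ (hcoF _) (hcoF _)
        rw [hU0, Submodule.mem_bot] at hm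
        funext i
        have hi : ((A *ᵥ u) i : F) + (u i : F) = 0 := congrArg Subtype.val (congrFun hm i)
        exact Subtype.ext (CharTwo.add_eq_zero.1 hi)
      have hPg : (g : Matrix ι ι F) * (P : Matrix ι ι F) = (P : Matrix ι ι F) := by
        ext i j
        have h := hA (Pi.single j 1)
        rw [hAu] at h
        have hs : co (Pi.single j 1) = Pi.single j 1 := by
          funext l; simp only [co, Pi.single_apply]; split_ifs <;> simp
        rw [hs, Matrix.mulVec_mulVec, Matrix.mulVec_single_one, Matrix.mulVec_single_one] at h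
        exact congrFun h i
      intro v
      have : (g : Matrix ι ι F) = 1 := by
        rw [← mul_one (g : Matrix ι ι F), ← Units.mul_inv P, ← mul_assoc, hPg, Units.mul_inv]
      rw [this, Matrix.one_mulVec]
    obtain ⟨i⟩ : Nonempty ι := Fintype.card_pos_iff.1 (by omega)
    have hne : (Pi.single i (1 : F) : Vec) ≠ 0 := fun h => by simpa using congrFun h i
    have h := hirr.eq_top (W := Submodule.span F {(Pi.single i (1 : F) : Vec)})
      (fun g hg v hv => by rw [htriv g hg]; exact hv) (Submodule.mem_span_singleton_self _) hne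
    have h1 := finrank_span_singleton (K := F) hne
    rw [h, finrank_top, Module.finrank_fintype_fun_eq_card] at h1
    omega
  · apply Submodule.eq_top_of_finrank_eq
    refine le_antisymm (Submodule.finrank_le U) ?_
    let b := Module.finBasis F₁ U
    have hle : W ≤ Submodule.span F (Set.range fun j => (P : Matrix ι ι F) *ᵥ co ((b j : U) : ι → F₁)) := by
      refine Submodule.span_le.2 ?_
      rintro _ ⟨u, hu, rfl⟩
      have h := congrArg (fun x : U => (x : ι → F₁)) (b.sum_repr ⟨u, hu⟩)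
      simp only [Submodule.coe_sum, Submodule.coe_smul] at h
      generalize b.repr ⟨u, hu⟩ = cf at h
      have h' : (P : Matrix ι ι F) *ᵥ co u =
          ∑ j, ((cf j : F₁) : F) • ((P : Matrix ι ι F) *ᵥ co ((b j : U) : ι → F₁)) := by
        rw [← h]
        simp only [← Matrix.mulVec_smul, ← Matrix.mulVec_sum]
        congr 1
        funext i
        simp [co, Finset.sum_apply]
      rw [SetLike.mem_coe]
      show (P : Matrix ι ι F) *ᵥ co u ∈ _
      rw [h']
      exact Submodule.sum_mem _ fun j _ => Submodule.smul_mem _ _ (Submodule.subset_span ⟨j, rfl⟩)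
    have h1 := Submodule.finrank_mono hle
    rw [htop, finrank_top, Module.finrank_fintype_fun_eq_card] at h1
    rw [Module.finrank_fintype_fun_eq_card]
    refine h1.trans ((finrank_range_le_card _).trans ?_)
    rw [Fintype.card_fin]

include hQ in
/-- A realisable absolutely irreducible normal subgroup gives a subfield group. -/
theorem inEvSubfield_of_realisable (hn : 2 ≤ Fintype.card ι) (hH : H ≤ Cfsg.isometryGroup F (⇑Q))
    (hirr : Irred H) {P₀ : Subgroup (GL ι F)} (habs : ActsAbsolutelyIrreducibly (matrixSet P₀))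
    (hPH : P₀ ≤ H) (hnorm : ∀ g ∈ H, ∀ x ∈ P₀, g * x * g⁻¹ ∈ P₀)
    {F₀ : Subfield F} (hne : F₀ ≠ ⊤) (hreal : RealisableOver F₀ (matrixSet P₀)) : InEvSubfield Q H := by
  haveI : Nonempty ι := Fintype.card_pos_iff.1 (by omega)
  have hfix : Fixes (evData hQ).τ.toRingHom P₀ (evData hQ).T :=
    (fixesForm_iff _ P₀ (evData hQ).T).1 (by
      rintro _ ⟨s, hs, rfl⟩ u v
      exact form_of_mem hQ (hH (hPH hs)) u v)
  obtain ⟨F₁, r, P, ζ, hr, hcard, hζ, hrat, hle⟩ :=
    (evData hQ).exists_subfield_member habs hnorm hfix hne hreal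
  rw [evData_form] at hrat
  exact inEvSubfield_of_formRational hQ hn hH hirr hr hcard hζ hrat hle

/-! ### Decompositions -/

include hQ in
/-- An irreducible group fixing an orthogonal decomposition makes the parts isometric. -/
theorem isometric_of_irred {t k : ℕ} {E : Fin t → Submodule F Vec}
    (hE : IsNondegenerateMDecomposition (QuadraticMap.polar (⇑Q)) k E)
    (hH : H ≤ Cfsg.isometryGroup F (⇑Q)) (hirr : Irred H) (hle : H ≤ decompositionStabilizer E) :
    IsOrthogonalMDecomposition (⇑Q) k E := by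
  classical
  choose π hπ using fun g : H => hle g.2
  have ht : 2 ≤ t := hE.decomp.two_le
  set i₀ : Fin t := ⟨0, by omega⟩
  have hne : ∀ i, E i ≠ ⊥ := fun i h => by
    have := hE.decomp.finrank_eq i
    rw [h, finrank_bot] at this
    have := hE.decomp.pos
    omega
  have htrans : ∀ j, ∃ g : H, π g i₀ = j := by
    let S : Set (Fin t) := {j | ∃ g : H, π g i₀ = j}
    let W : Submodule F Vec := ⨆ j ∈ S, E j
    have hW : ∀ g ∈ H, ∀ v ∈ W, (g : Matrix ι ι F) *ᵥ v ∈ W := by
      intro g hg v hv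
      have hle' : W ≤ W.comap (Matrix.toLin' (g : Matrix ι ι F)) := by
        refine iSup₂_le fun j hj w hw => ?_
        obtain ⟨g', rfl⟩ := hj
        refine Submodule.mem_comap.2 ?_
        have hmem : Matrix.toLin' (g : Matrix ι ι F) w ∈ E (π ⟨g, hg⟩ (π g' i₀)) := by
          rw [← hπ ⟨g, hg⟩]; exact Submodule.mem_map_of_mem hw
        refine Submodule.mem_iSup_of_mem (π ⟨g, hg⟩ (π g' i₀)) (Submodule.mem_iSup_of_mem ⟨⟨g, hg⟩ * g', ?_⟩ hmem)
        by_contra hne'
        have h1 := hπ (⟨g, hg⟩ * g') i₀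
        rw [show (((⟨g, hg⟩ * g' : H) : GL ι F) : Matrix ι ι F) =
          (g : Matrix ι ι F) * ((g' : GL ι F) : Matrix ι ι F) from Units.val_mul _ _,
          Matrix.toLin'_mul, Submodule.map_comp, hπ g' i₀, hπ ⟨g, hg⟩] at h1
        have hd := hE.decomp.indep.pairwiseDisjoint hne'
        rw [Function.onFun, ← h1, disjoint_self] at hd
        exact hne _ hd
      exact hle' hv
    intro j
    by_contra hj
    obtain ⟨v, hv, hv0⟩ := Submodule.exists_mem_ne_zero_of_ne_bot (hne (π 1 i₀))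
    have htop : W = ⊤ :=
      hirr.eq_top hW (Submodule.mem_iSup_of_mem (π 1 i₀) (Submodule.mem_iSup_of_mem ⟨1, rfl⟩ hv)) hv0
    have hd := hE.decomp.indep j
    have hsub : W ≤ ⨆ l, ⨆ (_ : l ≠ j), E l := iSup₂_le fun l hl =>
      le_iSup₂_of_le l (fun e => hj (e ▸ hl)) le_rfl
    rw [htop, top_le_iff] at hsub
    rw [hsub, disjoint_top] at hd
    exact hne j hd
  refine ⟨hE, fun i j => ?_⟩
  obtain ⟨g₁, rfl⟩ := htrans i
  obtain ⟨g₂, rfl⟩ := htrans j
  let e : Vec ≃ₗ[F] Vec :=
    Matrix.GeneralLinearGroup.toLin ((g₂ * g₁⁻¹ : H) : GL ι F) |>.toLinearEquiv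
  have he : ∀ v, e v = (((g₂ * g₁⁻¹ : H) : GL ι F) : Matrix ι ι F) *ᵥ v := fun v => rfl
  have hEe : (E (π g₁ i₀)).map e.toLinearMap = E (π g₂ i₀) := by
    rw [← hπ g₁ i₀, ← hπ g₂ i₀, ← Submodule.map_comp]
    congr 1
    refine LinearMap.ext fun v => ?_
    simp only [LinearMap.comp_apply, LinearEquiv.coe_coe, he, Matrix.toLin'_apply, Matrix.mulVec_mulVec,
      ← Units.val_mul]
    rw [← Subgroup.coe_mul, inv_mul_cancel_right]
  refine ⟨e.ofSubmodules _ _ hEe, fun w => ?_⟩
  rw [LinearEquiv.ofSubmodules_apply, he]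
  exact mem_evIso.1 (hH (g₂ * g₁⁻¹ : H).2) _

omit [Fintype F] in
/-- Lines need odd characteristic. -/
lemma two_ne_zero_of_lines {t : ℕ} {E : Fin t → Submodule F Vec}
    (hE : IsNondegenerateMDecomposition (QuadraticMap.polar (⇑Q)) 1 E) : (2 : F) ≠ 0 := by
  intro h2
  let i : Fin t := ⟨0, by have := hE.decomp.two_le; omega⟩
  obtain ⟨v, hv0, hspan⟩ := finrank_eq_one_iff'.1 (hE.decomp.finrank_eq i)
  obtain ⟨x, hx, hxv⟩ := (hE.nondegenerate i v v.2 fun h => hv0 (Subtype.ext h)).2
  obtain ⟨c, hc⟩ := hspan ⟨x, hx⟩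
  have hc' : c • (v : Vec) = x := congrArg Subtype.val hc
  rw [← hc', QuadraticMap.polar_smul_right, QuadraticMap.polar_self, two_smul, ← two_mul, h2, zero_mul,
    smul_zero] at hxv
  exact hxv rfl

include hQ in
/-- A decomposition into lines over a field which is not prime puts `H` in a subfield group. -/
theorem inEvSubfield_of_lines (hn : 2 ≤ Fintype.card ι) (hH : H ≤ Cfsg.isometryGroup F (⇑Q))
    (hirr : Irred H) {t : ℕ} {E : Fin t → Submodule F Vec} (hE : IsOrthogonalMDecomposition (⇑Q) 1 E)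
    (hle : H ≤ decompositionStabilizer E) (hp : ¬ (Fintype.card F).Prime) : InEvSubfield Q H := by
  classical
  haveI : Nonempty ι := Fintype.card_pos_iff.1 (by omega)
  have h2 := two_ne_zero_of_lines hE.decomp
  have ht : t = Fintype.card ι := by
    have := card_eq_of_decomposition hE.decomp.decomp
    omega
  subst ht
  let e : ι ≃ Fin (Fintype.card ι) := Fintype.equivFin ι
  set i₀ := e (Classical.arbitrary ι)
  obtain ⟨v0, hv00, hspan⟩ := finrank_eq_one_iff'.1 (hE.decomp.decomp.finrank_eq i₀)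
  choose θ hθ using fun j => hE.isometric i₀ j
  let v : Fin (Fintype.card ι) → Vec := fun j => (θ j v0 : Vec)
  have hvE : ∀ j, v j ∈ E j := fun j => (θ j v0).2
  have hQv : ∀ j, Q (v j) = Q (v0 : Vec) := fun j => hθ j v0
  have hQ0 : Q (v0 : Vec) ≠ 0 := by
    intro h
    obtain ⟨x, hx, hxv⟩ := (hE.decomp.nondegenerate i₀ v0 v0.2 fun h => hv00 (Subtype.ext h)).2
    obtain ⟨c, hc⟩ := hspan ⟨x, hx⟩
    have hc' : c • (v0 : Vec) = x := congrArg Subtype.val hc
    rw [← hc', QuadraticMap.polar_smul_right, QuadraticMap.polar_self, h, smul_zero, smul_zero] at hxv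
    exact hxv rfl
  have hline : ∀ j, ∀ x ∈ E j, ∃ c : F, x = c • v j := by
    intro j x hx
    obtain ⟨c, hc⟩ := hspan ((θ j).symm ⟨x, hx⟩)
    refine ⟨c, ?_⟩
    have h := congrArg (fun z => (θ j z : Vec)) hc
    simp only [map_smul, LinearEquiv.apply_symm_apply, Submodule.coe_smul] at h
    exact h.symm
  have hli : LinearIndependent F v := hE.decomp.decomp.indep.linearIndependent E hvE fun j h =>
    hQ0 (by rw [← hQv j, h, QuadraticMap.map_zero])
  set Pm : Matrix ι ι F := Matrix.of fun x i => v (e i) x with hPm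
  have hPu : IsUnit Pm := Matrix.linearIndependent_cols_iff_isUnit.1 (hli.comp e e.injective)
  set P : GL ι F := hPu.unit with hP
  have hsigned : ∀ h ∈ H, h ∈ subfieldSubgroup ((⊥ : Subfield F)) P := by
    intro h hh
    obtain ⟨π, hπ⟩ := hle hh
    have hc : ∀ j, ∃ c : F, (c = 1 ∨ c = -1) ∧ (h : Matrix ι ι F) *ᵥ v j = c • v (π j) := by
      intro j
      obtain ⟨c, hc⟩ := hline _ _ (show (h : Matrix ι ι F) *ᵥ v j ∈ E (π j) by
        rw [← hπ j, ← Matrix.toLin'_apply]; exact Submodule.mem_map_of_mem (hvE j))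
      refine ⟨c, ?_, hc⟩
      have h1 := mem_evIso.1 (hH hh) (v j)
      rw [hc, QuadraticMap.map_smul, smul_eq_mul, hQv, hQv, ← sq] at h1
      exact sq_eq_one_iff.1 ((mul_eq_right₀ hQ0).1 h1)
    choose c hc1 hc2 using hc
    refine mem_subfieldSubgroup_of_mul_eq
      (Matrix.of fun i j => if e i = π (e j) then c (e j) else 0) (fun i j => ?_) ?_
    · simp only [Matrix.of_apply]
      split_ifs
      · rcases hc1 (e j) with h' | h' <;> rw [h']
        · exact one_mem _
        · exact neg_mem (one_mem _)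
      · exact zero_mem _
    · ext x j
      show ((h : Matrix ι ι F) *ᵥ v (e j)) x = _
      rw [hc2, Matrix.mul_apply, Finset.sum_eq_single (e.symm (π (e j))) ?_ (by simp)]
      · simp [hP, hPm, mul_comm]
      · intro l _ hl
        rw [Matrix.of_apply, if_neg (fun h' => hl (by rw [← h', Equiv.symm_apply_apply])), mul_zero]
  obtain ⟨F₁, r, hle', hr, hcard, -⟩ := exists_prime_index_subfield (⊥ : Subfield F) (fun htop => hp (by
    haveI : Fact (ringChar F).Prime := ⟨CharP.char_is_prime F _⟩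
    have hcard : Nat.card (⊥ : Subfield F) = ringChar F := Subfield.card_bot F _
    rw [htop, Nat.card_congr Subfield.topEquiv.toEquiv, Nat.card_eq_fintype_card] at hcard
    rw [hcard]
    exact CharP.char_is_prime F _))
  have hle1 : H ≤ subfieldSubgroup F₁ P := fun h hh => by
    obtain ⟨x, hx, rfl⟩ := hsigned h hh
    refine Subgroup.mem_map.2 ⟨x, SetLike.le_def.1 (sup_le_sup_right ?_ _) hx, rfl⟩
    rintro _ ⟨x₀, rfl⟩
    exact ⟨Matrix.GeneralLinearGroup.map (Subfield.inclusion hle') x₀, Units.ext (by ext i j; rfl)⟩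
  refine inEvSubfield_of_formRational hQ hn hH hirr hr hcard (ζ := (2 * Q (v0 : Vec))⁻¹)
    (inv_ne_zero (mul_ne_zero h2 hQ0)) (fun u w hu hw => ?_) hle1
  rw [polar_spec Q, sesqForm_mulVec, show (P : Matrix ι ι F).map (RingHom.id F) = (P : Matrix ι ι F) from
    Matrix.map_id _, show (P : Matrix ι ι F)ᵀ * gramMatrix (QuadraticMap.polar (⇑Q)) * (P : Matrix ι ι F) =
      (2 * Q (v0 : Vec)) • 1 by
    ext i j
    rw [show (P : Matrix ι ι F) = Pm from rfl]
    have e1 : (Pmᵀ * gramMatrix (QuadraticMap.polar (⇑Q)) * Pm) i j = (evData hQ).form (v (e i)) (v (e j)) := by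
      rw [mul_assoc]; rfl
    rw [e1]
    by_cases hij : i = j
    · subst hij; rw [evData_self, hQv]; simp
    · rw [evData_form, hE.decomp.orthogonal _ _ (fun h' => hij (e.injective h')) _ (hvE _) _ (hvE _)]
      simp [hij]]
  rw [sesqForm_smul, ← mul_assoc, inv_mul_cancel₀ (mul_ne_zero h2 hQ0), one_mul]
  show u ⬝ᵥ (1 : Matrix ι ι F) *ᵥ (RingHom.id F ∘ w) ∈ F₁
  rw [Matrix.one_mulVec]
  exact sum_mem fun i _ => mul_mem (hu i) (hw i)

include hQ in
/-- A pair of complementary totally isotropic subspaces is a pair of singular ones. -/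
theorem singular_of_pair (hn : 4 ≤ Fintype.card ι) (hH : H ≤ Cfsg.isometryGroup F (⇑Q)) (hirr : Irred H)
    {k : ℕ} {E : Fin 2 → Submodule F Vec} (hE : IsMDecomposition k E)
    (hts : ∀ i, IsTotallySingularFor (QuadraticMap.polar (⇑Q)) (E i)) (hle : H ≤ decompositionStabilizer E) :
    ∀ i, IsTotallySingularQuad (⇑Q) (E i) := by
  classical
  have hk : Fintype.card ι = 2 * k := card_eq_of_decomposition hE
  by_cases h2 : (2 : F) = 0
  swap
  · intro i x hx
    rw [quad_eq_half h2, hts i x hx x hx, mul_zero]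
  let S : Fin 2 → Submodule F Vec := fun i => singKer Q (E i) fun x hx y hy => hts i x hx y hy
  have hS : ∀ g ∈ H, ∀ v ∈ S 0 ⊔ S 1, (g : Matrix ι ι F) *ᵥ v ∈ S 0 ⊔ S 1 := by
    intro g hg v hv
    obtain ⟨π, hπ⟩ := hle hg
    have hstep : ∀ i, ∀ x ∈ S i, (g : Matrix ι ι F) *ᵥ x ∈ S (π i) := fun i x hx =>
      ⟨by rw [← hπ i, ← Matrix.toLin'_apply]; exact Submodule.mem_map_of_mem hx.1,
        by rw [mem_evIso.1 (hH hg)]; exact hx.2⟩
    have hmem : ∀ j : Fin 2, S j ≤ S 0 ⊔ S 1 := fun j => by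
      fin_cases j
      · exact le_sup_left
      · exact le_sup_right
    obtain ⟨a, ha, b, hb, rfl⟩ := Submodule.mem_sup.1 hv
    rw [Matrix.mulVec_add]
    exact add_mem (hmem _ (hstep 0 a ha)) (hmem _ (hstep 1 b hb))
  have hpos : ∀ i, finrank F (E i) ≤ finrank F (S i) + 1 := fun i => finrank_le_singKer h2 _
  have htop : S 0 ⊔ S 1 = ⊤ := by
    refine (irred_iff.1 hirr _ hS).resolve_left fun h => ?_
    have h0 : S 0 = ⊥ := le_bot_iff.1 (h ▸ le_sup_left)
    have := hpos 0
    rw [hE.finrank_eq, h0, finrank_bot] at this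
    omega
  have hsum := Submodule.finrank_add_le_finrank_add_finrank (S 0) (S 1)
  rw [htop, finrank_top, Module.finrank_fintype_fun_eq_card] at hsum
  have hle' : ∀ i, finrank F (S i) ≤ k := fun i =>
    (Submodule.finrank_mono (show S i ≤ E i from fun x hx => hx.1)).trans (hE.finrank_eq i).le
  intro i x hx
  have hS' : S i = E i := by
    refine Submodule.eq_of_le_of_finrank_le (fun x hx => hx.1) ?_
    have h0 := hle' 0
    have h1 := hle' 1
    rw [hE.finrank_eq]
    fin_cases i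
    · show k ≤ finrank F (S 0)
      omega
    · show k ≤ finrank F (S 1)
      omega
  rw [← hS'] at hx
  exact hx.2

end Cfsg.Agent.Aschbacher.Ev
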