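/-
A minimal normal subgroup which is abelian modulo scalars, for a quadratic form in even dimension.
-/
import Mathlib
import Cfsg.Agent.Aschbacher.Ev.Base
import Cfsg.Agent.Aschbacher.Factors
import Cfsg.Agent.Aschbacher.Sp.Abelian
import Cfsg.Agent.Aschbacher.Sp.Tensor
import Cfsg.Agent.Lib.Forms.Disc

set_option autoImplicit false
set_option linter.style.haveILetI false
set_option linter.unusedSectionVars false

namespace Cfsg.Agent.Aschbacher.Ev

open Module Matrix
open Cfsg.Geo

variable {F : Type*} [Field F] [Fintype F]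

/-- The determinant of an invertible skew matrix is a square in odd characteristic. -/
lemma isSquare_det_of_skew (h2 : (2 : F) ≠ 0) {κ : Type} [Fintype κ] [DecidableEq κ] {M : Matrix κ κ F}
    (h : Mᵀ = -M) (hM : IsUnit M.det) : IsSquare M.det := by
  classical
  have hA : (Matrix.toBilin' M).IsAlt := fun v => by
    rw [Matrix.toBilin'_apply']
    exact (isSymplecticForm_sesqForm h (fun i => diag_zero_of_skew h2 h i) hM).alternating v
  have hB := LinearMap.BilinForm.nondegenerate_toBilin'_iff_det_ne_zero.2 hM.ne_zero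
  obtain ⟨m, hm⟩ := Forms.Bases.even_finrank_of_alt (Matrix.toBilin' M) hA hB
  obtain ⟨b, hef, hee, hff⟩ := Forms.Bases.exists_sympBasis (Matrix.toBilin' M) hA hB hm
  obtain ⟨d, hd, hdet⟩ := Forms.Disc.det_gram_change (Matrix.toBilin' M) b (Pi.basisFun F κ)
  have h1 : Forms.Disc.gram (Matrix.toBilin' M) (Pi.basisFun F κ) = M := by
    ext i j; simp [Forms.Disc.gram, Matrix.toBilin'_single]
  have h3 : Forms.Disc.gram (Matrix.toBilin' M) b = (Matrix.J (Fin m) F)ᵀ := by
    ext i j
    have hswap : ∀ x y, Matrix.toBilin' M x y = -Matrix.toBilin' M y x := fun x y =>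
      (hA.neg_eq y x).symm
    rcases i with i | i <;> rcases j with j | j
    · simp [Forms.Disc.gram, hee, Matrix.J]
    · simp only [Forms.Disc.gram, Matrix.of_apply, hef, Matrix.J, Matrix.transpose_apply,
        Matrix.fromBlocks_apply₂₁, Matrix.one_apply]
      exact if_congr eq_comm rfl rfl
    · simp [Forms.Disc.gram, hswap (b (Sum.inr i)), hef, Matrix.J, Matrix.one_apply, eq_comm]
    · simp [Forms.Disc.gram, hff, Matrix.J]
  rw [h1, h3, Matrix.det_transpose, SymplecticGroup.det_eq_one (SymplecticGroup.J_mem (Fin m) F), mul_one] at hdet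
  exact ⟨d, hdet⟩

variable {ι : Type} [Fintype ι] [DecidableEq ι] {Q : QuadraticForm F (ι → F)}
  (hQ : (QuadraticMap.polarBilin Q).Nondegenerate)

lemma ev_gram_isometry {g : GL ι F} (hg : g ∈ Cfsg.isometryGroup F (⇑Q)) :
    (g : Matrix ι ι F)ᵀ * gramMatrix (QuadraticMap.polar (⇑Q)) * (g : Matrix ι ι F) =
      gramMatrix (QuadraticMap.polar (⇑Q)) := by
  apply sesqForm_inj (RingHom.id F)
  intro x y
  have h := polar_of_mem hg x y
  rw [polar_spec Q, sesqForm_mulVec,
    show ((g : Matrix ι ι F).map (RingHom.id F)) = (g : Matrix ι ι F) from Matrix.map_id _] at h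
  exact h

include hQ in
/-- Such a group makes the dimension a power of two, and in dimension eight the type is plus. -/
theorem abelian_ev (hn : 2 ≤ Fintype.card ι) (heven : Even (Fintype.card ι)) {H N : Subgroup (GL ι F)}
    (hH : H ≤ Cfsg.isometryGroup F (⇑Q)) (hdet : ∀ g ∈ H, (g : Matrix ι ι F).det = 1)
    (hZN : scalars ι F ≤ N) (hns : ¬ N ≤ scalars ι F) (hNH : N ≤ H ⊔ scalars ι F)
    (hnorm : ∀ g ∈ H, ∀ x ∈ N, g * x * g⁻¹ ∈ N)
    (htop : Algebra.adjoin F (matrixSet N) = ⊤)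
    (hcomm : ∀ x ∈ N, ∀ y ∈ N, x * y * x⁻¹ * y⁻¹ ∈ scalars ι F)
    (hmin : ∀ M : Subgroup (GL ι F), scalars ι F ≤ M → M ≤ N →
      (∀ g ∈ H, ∀ x ∈ M, g * x * g⁻¹ ∈ M) → M = scalars ι F ∨ M = N) :
    ∃ k, Fintype.card ι = 2 ^ k ∧
      (Fintype.card ι = 8 → IsPlusTypeOn (⇑Q) (⊤ : Submodule F (ι → F))) := by
  classical
  haveI : Nonempty ι := Fintype.card_pos_iff.1 (by omega)
  set Z := scalars ι F with hZ
  set D := evData hQ with hD
  obtain ⟨r, R, hd, hRN, -, hpow⟩ := exists_symplecticData_of_minimal hn hZN hns hnorm htop hcomm hmin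
  obtain ⟨k, hk1, hnk, -⟩ := hd.exists_m
  rcases hd.prime.eq_two_or_odd' with rfl | hodd
  swap
  · exfalso
    rw [hnk] at heven
    exact (Nat.not_even_iff_odd.2 hodd.pow) heven
  refine ⟨k, hnk, fun h8 => ?_⟩
  have h2 : (2 : F) ≠ 0 := hd.two_ne rfl
  set I := Cfsg.isometryGroup F (⇑Q) with hI
  have hscalI : ∀ c : Fˣ, scalarUnit ι F c ∈ I → c = 1 ∨ c = -1 := by
    intro c hc
    obtain ⟨v, hv⟩ := exists_ne (0 : ι → F)
    obtain ⟨x, hx⟩ := Forms.Max.Orth.exists_ne hQ hv
    have h1 := polar_of_mem hc v x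
    rw [scalarUnit_coe, smul_mulVec', smul_mulVec', QuadraticMap.polar_smul_left,
      QuadraticMap.polar_smul_right, smul_smul, smul_eq_mul] at h1
    rcases mul_self_eq_one_iff.1 ((mul_eq_right₀ hx).1 h1) with h | h
    · exact Or.inl (Units.ext h)
    · exact Or.inr (Units.ext h)
  have hsplit : ∀ x ∈ N, ∃ h, h ∈ N ∧ h ∈ H ∧ ∃ z ∈ Z, x = h * z := by
    intro x hx
    obtain ⟨h, hh, z, hz, rfl⟩ := Subgroup.mem_sup_of_normal_right.1 (hNH hx)
    refine ⟨h, ?_, hh, z, hz, rfl⟩
    simpa using mul_mem hx (inv_mem (hZN hz))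
  have hsq : ∀ h, h ∈ N → h ∈ H → h * h = 1 ∨ ((h : Matrix ι ι F) * (h : Matrix ι ι F) = -1) := by
    intro h hhN hhH
    obtain ⟨c, hc⟩ := mem_scalars_iff_scalarUnit.1 (hpow h hhN)
    have hcI : scalarUnit ι F c ∈ I := by rw [hc]; exact pow_mem (hH hhH) 2
    rcases hscalI c hcI with rfl | rfl
    · left; rw [← sq, ← hc, map_one]
    · right
      rw [← Units.val_mul, ← sq, ← hc, scalarUnit_coe]
      simp
  obtain ⟨x₁, hx₁, y₁, hy₁, hne⟩ : ∃ x ∈ R, ∃ y ∈ R, y * x ≠ x * y := by
    by_contra hall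
    push Not at hall
    have habs := absIrred_of_adjoin_eq_top hd.adjoin_top
    have hbot : Algebra.adjoin F (matrixSet R) ≤ (⊥ : Subalgebra F (Matrix ι ι F)) := by
      refine Algebra.adjoin_le ?_
      rintro _ ⟨x, hx, rfl⟩
      obtain ⟨c, hc⟩ := habs.2 (x : Matrix ι ι F) (by
        rintro _ ⟨y, hy, rfl⟩
        exact congrArg Units.val (hall y hy x hx))
      rw [SetLike.mem_coe, Algebra.mem_bot]
      exact ⟨c, (Algebra.algebraMap_eq_smul_one c).trans hc.symm⟩
    rw [hd.adjoin_top, top_le_iff] at hbot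
    have h1 : Module.finrank F (⊥ : Subalgebra F (Matrix ι ι F)) = 1 := Subalgebra.finrank_bot
    rw [hbot] at h1
    have h3 : Module.finrank F (Matrix ι ι F) = 1 := by
      rw [← h1]
      exact (Subalgebra.topEquiv.toLinearEquiv.finrank_eq).symm
    rw [Module.finrank_matrix, Module.finrank_self, mul_one] at h3
    have := Nat.eq_one_of_mul_eq_one_right h3
    omega
  obtain ⟨h, hhN, hhH, z, hz, rfl⟩ := hsplit x₁ (hRN hx₁)
  obtain ⟨g, hgN, hgH, w, hw, rfl⟩ := hsplit y₁ (hRN hy₁)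
  have hne' : g * h ≠ h * g := by
    intro e
    apply hne
    calc g * w * (h * z) = g * (w * h) * z := by group
      _ = g * (h * w) * z := by rw [scalars_comm hw h]
      _ = (g * h) * (w * z) := by group
      _ = (h * g) * (z * w) := by rw [e, scalars_comm hw z]
      _ = h * (g * z) * w := by group
      _ = h * (z * g) * w := by rw [← scalars_comm hz g]
      _ = h * z * (g * w) := by group
  obtain ⟨u, huH, hu⟩ : ∃ u ∈ H, (u : Matrix ι ι F) * (u : Matrix ι ι F) = -1 := by
    rcases hsq h hhN hhH with hh | hh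
    swap
    · exact ⟨h, hhH, hh⟩
    rcases hsq g hgN hgH with hg | hg
    swap
    · exact ⟨g, hgH, hg⟩
    rcases hsq (h * g) (mul_mem hhN hgN) (mul_mem hhH hgH) with hhg | hhg
    swap
    · exact ⟨h * g, mul_mem hhH hgH, hhg⟩
    exfalso
    apply hne'
    calc g * h = (h * h) * (g * h) * (g * g) := by rw [hh, hg, one_mul, mul_one]
      _ = h * (h * g * (h * g)) * g := by group
      _ = h * g := by rw [hhg, mul_one]
  set T := gramMatrix (QuadraticMap.polar (⇑Q)) with hT
  set U := (u : Matrix ι ι F) with hU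
  have hiso : Uᵀ * T * U = T := by
    have h1 := ev_gram_isometry (hH huH)
    exact h1
  have hTs : Tᵀ = T := by ext a b; exact QuadraticMap.polar_comm _ _ _
  have hskew : (T * U)ᵀ = -(T * U) := by
    have h1 : Uᵀ * T * (U * U) = T * U := by rw [← Matrix.mul_assoc, hiso]
    rw [hu, Matrix.mul_neg, Matrix.mul_one] at h1
    rw [Matrix.transpose_mul, hTs, ← h1, neg_neg]
  have hTu : IsUnit T.det := isUnit_gram hQ
  have hdetU : U.det = 1 := hdet u huH
  have hs := isSquare_det_of_skew h2 hskew (by rw [Matrix.det_mul, hdetU, mul_one]; exact hTu)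
  rw [Matrix.det_mul, hdetU, mul_one] at hs
  rw [plus_iff_square_gram hQ h2 (m := 4) h8, show (-1 : F) ^ 4 = 1 by norm_num, one_mul]
  exact hs

end Cfsg.Agent.Aschbacher.Ev
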