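/-
Fields of matrices closed under the adjoint of a quadratic form in even dimension.
-/
import Mathlib
import Cfsg.Agent.Aschbacher.Ev.Base
import Cfsg.Agent.Aschbacher.Or.Lists.Main

set_option autoImplicit false
set_option linter.style.haveILetI false
set_option linter.unusedSectionVars false

namespace Cfsg.Agent.Aschbacher.Ev

open Module Matrix
open Cfsg.Geo

variable {F : Type*} [Field F] [Fintype F] {ι : Type} [Fintype ι] [DecidableEq ι]
  {Q : QuadraticForm F (ι → F)}

local notation "Vec" => (ι → F)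
local notation "B" => QuadraticMap.polar Q

/-- The orbit `K v` as a subspace. -/
def orbit (K : Subalgebra F (Matrix ι ι F)) (v : ι → F) : Submodule F (ι → F) :=
  (Subalgebra.toSubmodule K).map
    ({ toFun := fun k => k *ᵥ v
       map_add' := fun a b => Matrix.add_mulVec a b v
       map_smul' := fun c a => Matrix.smul_mulVec c a v } : Matrix ι ι F →ₗ[F] (ι → F))

/-- `W` is stable under `K`. -/
def KInv (K : Subalgebra F (Matrix ι ι F)) (W : Submodule F (ι → F)) : Prop :=
  ∀ k ∈ K, ∀ w ∈ W, k *ᵥ w ∈ W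

section orbit

variable {K : Subalgebra F (Matrix ι ι F)}

lemma mem_orbit {v x : Vec} : x ∈ orbit K v ↔ ∃ k ∈ K, k *ᵥ v = x := Iff.rfl

lemma self_mem_orbit (v : Vec) : v ∈ orbit K v := ⟨1, one_mem K, Matrix.one_mulVec v⟩

lemma kInv_orbit (v : Vec) : KInv K (orbit K v) := by
  rintro k hk _ ⟨l, hl, rfl⟩
  exact ⟨k * l, K.mul_mem hk hl, (Matrix.mulVec_mulVec v k l).symm⟩

lemma orbit_le {W : Submodule F Vec} (hW : KInv K W) {v : Vec} (hv : v ∈ W) : orbit K v ≤ W := by
  rintro _ ⟨k, hk, rfl⟩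
  exact hW k hk v hv

lemma KInv.sup {W W' : Submodule F Vec} (h : KInv K W) (h' : KInv K W') : KInv K (W ⊔ W') := by
  intro k hk x hx
  obtain ⟨a, ha, b, hb, rfl⟩ := Submodule.mem_sup.1 hx
  rw [Matrix.mulVec_add]
  exact Submodule.add_mem_sup (h k hk a ha) (h' k hk b hb)

lemma KInv.inf {W W' : Submodule F Vec} (h : KInv K W) (h' : KInv K W') : KInv K (W ⊓ W') :=
  fun k hk x hx => ⟨h k hk x hx.1, h' k hk x hx.2⟩

lemma mulVec_eq_zero_of_field {r : ℕ} (hK : IsFieldSubalgebra r K) {k : Matrix ι ι F} (hk : k ∈ K) {v : Vec}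
    (h : k *ᵥ v = 0) (hv : v ≠ 0) : k = 0 := by
  by_contra hk0
  obtain ⟨y, hy, hky⟩ := hK.inv k hk hk0
  apply hv
  rw [← Matrix.one_mulVec v, ← hky, hK.comm k hk y hy, ← Matrix.mulVec_mulVec, h, Matrix.mulVec_zero]

lemma finrank_orbit {r : ℕ} (hK : IsFieldSubalgebra r K) {v : Vec} (hv : v ≠ 0) :
    finrank F (orbit K v) = r := by
  let L : Subalgebra.toSubmodule K →ₗ[F] (ι → F) :=
    { toFun := fun k => (k : Matrix ι ι F) *ᵥ v
      map_add' := fun a b => Matrix.add_mulVec _ _ _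
      map_smul' := fun c a => Matrix.smul_mulVec c _ _ }
  have hL : Function.Injective L := fun a b h => by
    have h' : ((a : Matrix ι ι F) - (b : Matrix ι ι F)) *ᵥ v = 0 := by
      rw [Matrix.sub_mulVec, sub_eq_zero]; exact h
    exact Subtype.ext (sub_eq_zero.1 (mulVec_eq_zero_of_field hK (K.sub_mem a.2 b.2) h' hv))
  have e : orbit K v = LinearMap.range L := by
    ext x
    constructor
    · rintro ⟨k, hk, rfl⟩; exact ⟨⟨k, hk⟩, rfl⟩
    · rintro ⟨k, rfl⟩; exact ⟨k, k.2, rfl⟩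
  rw [e, LinearMap.finrank_range_of_inj hL, Subalgebra.finrank_toSubmodule, hK.finrank_eq]

variable (hQ : (QuadraticMap.polarBilin Q).Nondegenerate)
include hQ

lemma polar_mulVec_left (k : Matrix ι ι F) (u v : Vec) : B (k *ᵥ u) v = B u ((evData hQ).adj k *ᵥ v) := by
  rw [← evData_form hQ]; exact (evData hQ).form_mulVec_left k u v

lemma adj_eq_of_forall {x y : Matrix ι ι F} (h : ∀ u v, B (x *ᵥ u) v = B u (y *ᵥ v)) :
    (evData hQ).adj x = y := ((evData hQ).eq_adj fun u v => by rw [evData_form]; exact h u v).symm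

lemma isSelfAdjointFor_iff :
    IsSelfAdjointFor (QuadraticMap.polar (⇑Q)) K ↔ ∀ k ∈ K, (evData hQ).adj k = k :=
  ⟨fun h k hk => adj_eq_of_forall hQ (h k hk), fun h k hk u v => by rw [polar_mulVec_left hQ, h k hk]⟩

lemma KInv.perp {W : Submodule F Vec} (h : KInv K W) (hadj : ∀ k ∈ K, (evData hQ).adj k ∈ K) :
    KInv K (Forms.Max.Orth.perp Q W) := by
  haveI : Finite F := inferInstance
  intro k hk x hx
  refine Forms.Max.Orth.mem_perp.2 fun w hw => ?_
  rw [QuadraticMap.polar_comm, polar_mulVec_left hQ, QuadraticMap.polar_comm]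
  exact Forms.Max.Orth.mem_perp.1 hx _ (h _ (hadj k hk) w hw)

end orbit

section

variable [Nonempty ι] (hQ : (QuadraticMap.polarBilin Q).Nondegenerate) {H : Subgroup (GL ι F)}

/-- A field of degree two, closed under adjoints but not fixed by them, acting by similarities. -/
def UnitaryField (Q : QuadraticForm F (ι → F)) (K : Subalgebra F (Matrix ι ι F)) : Prop :=
  IsFieldSubalgebra 2 K ∧ IsAdjointClosedFor (QuadraticMap.polar (⇑Q)) K ∧
    ¬ IsSelfAdjointFor (QuadraticMap.polar (⇑Q)) K ∧ ∀ k ∈ K, ∃ c : F, ∀ v : ι → F, Q (k *ᵥ v) = c * Q v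

include hQ

lemma adj_smul' (c : F) (x : Matrix ι ι F) : (evData hQ).adj (c • x) = c • (evData hQ).adj x := by
  rw [FormData.adj_smul]; rfl

lemma adj_scalar' (c : F) : (evData hQ).adj (c • (1 : Matrix ι ι F)) = c • 1 := by
  rw [adj_smul', FormData.adj_one]

/-- A field with no self-adjoint element but the scalars is unitary of degree two. -/
theorem unitaryField_of_fixed_scalar (hn : 2 ≤ Fintype.card ι) (hH : H ≤ Cfsg.isometryGroup F (⇑Q))
    (hirr : Irred H) (Z : Subalgebra F (Matrix ι ι F)) (hcomm : ∀ x ∈ Z, ∀ y ∈ Z, x * y = y * x)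
    (hinv : ∀ x ∈ Z, x ≠ 0 → ∃ y ∈ Z, x * y = 1) (hadj : ∀ x ∈ Z, (evData hQ).adj x ∈ Z)
    (hconj : ∀ g ∈ H, ∀ x ∈ Z, conjMat g x ∈ Z) (hns : ∃ z₀ ∈ Z, ∀ c : F, z₀ ≠ c • 1)
    (hfix : ∀ z ∈ Z, (evData hQ).adj z = z → ∃ c : F, z = c • 1) : UnitaryField Q Z := by
  classical
  obtain ⟨z₀, hz₀, hz₀ns⟩ := hns
  set D := evData hQ with hD
  set y := z₀ - D.adj z₀ with hy
  have hyne : y ≠ 0 := fun h => by
    obtain ⟨c, hc⟩ := hfix z₀ hz₀ (sub_eq_zero.1 h).symm
    exact hz₀ns c hc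
  have hyZ : y ∈ Z := sub_mem hz₀ (hadj _ hz₀)
  have hσy : D.adj y = -y := by rw [hy, FormData.adj_sub, FormData.adj_adj, neg_sub]
  obtain ⟨w, hwZ, hyw⟩ := hinv y hyZ hyne
  have hspan : ∀ z ∈ Z, z ∈ Submodule.span F {1, z₀} := by
    intro z hz
    have hzd : z - D.adj z ∈ Z := sub_mem hz (hadj z hz)
    set k := (z - D.adj z) * w with hk
    have hkZ : k ∈ Z := mul_mem hzd hwZ
    have hky : k * y = z - D.adj z := by rw [hk, mul_assoc, hcomm w hwZ y hyZ, hyw, mul_one]
    have hσk : D.adj k = k := by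
      have h : D.adj k * y = k * y := by
        have e := congrArg D.adj hky
        rw [FormData.adj_mul, hσy, FormData.adj_sub, FormData.adj_adj, neg_mul,
          hcomm y hyZ _ (hadj k hkZ)] at e
        rw [hky, ← neg_sub (D.adj z) z, ← e, neg_neg]
      have e := congrArg (· * w) h
      simpa [mul_assoc, hyw] using e
    obtain ⟨c, hc⟩ := hfix k hkZ hσk
    have hrest : D.adj (z - c • z₀) = z - c • z₀ := by
      rw [hc, Matrix.smul_mul, one_mul, hy, smul_sub] at hky
      rw [FormData.adj_sub, adj_smul' hQ, sub_eq_sub_iff_sub_eq_sub, ← neg_sub z (D.adj z), ← hky, neg_sub]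
    obtain ⟨d, hd⟩ := hfix _ (sub_mem hz (Subalgebra.smul_mem _ hz₀ c)) hrest
    rw [Submodule.mem_span_pair]
    exact ⟨d, c, by rw [← hd, sub_add_cancel]⟩
  have hli : LinearIndependent F ![(1 : Matrix ι ι F), z₀] := by
    rw [LinearIndependent.pair_iff]
    intro a b hab
    have hb : b = 0 := by
      by_contra hb
      apply hz₀ns (-(b⁻¹ * a))
      have := congrArg (fun x => b⁻¹ • x) hab
      simp only [smul_add, smul_smul, inv_mul_cancel₀ hb, one_smul, smul_zero] at this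
      rw [neg_smul]
      exact eq_neg_of_add_eq_zero_right this
    refine ⟨?_, hb⟩
    rw [hb, zero_smul, add_zero] at hab
    exact (smul_eq_zero.1 hab).resolve_right one_ne_zero
  have hdim : finrank F Z = 2 := by
    have hle : Subalgebra.toSubmodule Z = Submodule.span F (Set.range ![(1 : Matrix ι ι F), z₀]) := by
      rw [Matrix.range_cons, Matrix.range_cons, Matrix.range_empty, Set.union_empty, Set.singleton_union]
      refine le_antisymm hspan (Submodule.span_le.2 ?_)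
      intro x hx
      rcases hx with rfl | rfl
      · exact one_mem Z
      · exact hz₀
    rw [← Subalgebra.finrank_toSubmodule, hle, finrank_span_eq_card hli, Fintype.card_fin]
  refine ⟨⟨hcomm, hinv, hdim⟩, fun k hk => ⟨D.adj k, hadj k hk, fun u v => polar_mulVec_left hQ k u v⟩, ?_, ?_⟩
  · intro hsa
    exact hyne (sub_eq_zero.2 ((isSelfAdjointFor_iff hQ).1 hsa z₀ hz₀).symm)
  intro k hk
  have hkk : D.adj k * k ∈ Z := mul_mem (hadj k hk) hk
  obtain ⟨c, hc⟩ := hfix _ hkk (by rw [FormData.adj_mul, FormData.adj_adj])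
  refine ⟨c, fun v => ?_⟩
  have hB : ∀ u v : Vec, B (k *ᵥ u) (k *ᵥ v) = c * B u v := fun u v => by
    rw [polar_mulVec_left hQ, Matrix.mulVec_mulVec, hc, smul_mulVec', QuadraticMap.polar_smul_right,
      smul_eq_mul]
  by_cases h2 : (2 : F) = 0
  swap
  · rw [quad_eq_half h2, quad_eq_half h2 v, hB, mul_left_comm]
  haveI : CharP F 2 := CharTwo.of_one_ne_zero_of_two_eq_zero one_ne_zero h2
  obtain ⟨s, hs⟩ := hfix (z₀ + D.adj z₀) (add_mem hz₀ (hadj _ hz₀)) (by
    rw [FormData.adj_add, FormData.adj_adj, add_comm])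
  have hs0 : s ≠ 0 := by
    rintro rfl
    rw [zero_smul] at hs
    obtain ⟨d, hd⟩ := hfix z₀ hz₀ (by
      rw [eq_neg_of_add_eq_zero_right hs]
      ext i j
      rw [Matrix.neg_apply, CharTwo.neg_eq])
    exact hz₀ns d hd
  set a := s⁻¹ • z₀ with ha
  have haZ : a ∈ Z := Subalgebra.smul_mem _ hz₀ _
  have hσa : D.adj a = 1 - a := by
    rw [eq_sub_iff_add_eq, ha, adj_smul' hQ, ← smul_add, add_comm, hs, smul_smul, inv_mul_cancel₀ hs0,
      one_smul]
  have hself : ∀ x : Vec, B x x = 0 := fun x => by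
    rw [QuadraticMap.polar_self, two_smul, ← two_mul, h2, zero_mul]
  have hQa : ∀ x : Vec, B (a *ᵥ x) x = Q x := by
    refine eq_of_invariant h2 hn hirr (fun t x => ?_) (fun t x => by rw [QuadraticMap.map_smul, smul_eq_mul, sq])
      (fun u v => ?_) (fun g hg x => ?_) (fun g hg => mem_evIso.1 (hH hg))
    · rw [Matrix.mulVec_smul, QuadraticMap.polar_smul_left, QuadraticMap.polar_smul_right, smul_eq_mul,
        smul_eq_mul, ← mul_assoc, sq]
    · show B (a *ᵥ (u + v)) (u + v) - B (a *ᵥ u) u - B (a *ᵥ v) v = B u v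
      rw [Matrix.mulVec_add, QuadraticMap.polar_add_left, QuadraticMap.polar_add_right,
        QuadraticMap.polar_add_right, QuadraticMap.polar_comm (⇑Q) (a *ᵥ v) u]
      rw [polar_mulVec_left hQ a u v, ← hD, hσa, Matrix.sub_mulVec, Matrix.one_mulVec,
        QuadraticMap.polar_sub_right]
      ring
    · show B (a *ᵥ ((g : Matrix ι ι F) *ᵥ x)) ((g : Matrix ι ι F) *ᵥ x) = B (a *ᵥ x) x
      set a' := conjMat g⁻¹ a with ha'
      have ha'Z : a' ∈ Z := hconj _ (inv_mem hg) a haZ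
      have hσa' : D.adj a' = 1 - a' := by
        rw [ha', D.adj_conjMat (evIso_le_sim hQ (hH (inv_mem hg))), hσa, map_sub, map_one]
      obtain ⟨d, hd⟩ := hfix (a' - a) (sub_mem ha'Z haZ) (by
        rw [FormData.adj_sub, hσa', hσa]
        ext i j
        simp only [Matrix.sub_apply, Matrix.add_apply, CharTwo.sub_eq_add]
        linear_combination ((1 : Matrix ι ι F) i j) * h2)
      have e : a *ᵥ ((g : Matrix ι ι F) *ᵥ x) = (g : Matrix ι ι F) *ᵥ (a' *ᵥ x) := by
        rw [ha', ← conjMat_mulVec g]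
        congr 1
        simp [conjMat_apply, mul_assoc]
      rw [e, polar_of_mem (hH hg), show a' = a + d • 1 by rw [← hd, add_sub_cancel], Matrix.add_mulVec,
        smul_mulVec', QuadraticMap.polar_add_left, QuadraticMap.polar_smul_left, hself, smul_zero, add_zero]
  rw [← hQa (k *ᵥ v), ← hQa v, Matrix.mulVec_mulVec, hcomm a haZ k hk, ← Matrix.mulVec_mulVec, hB]

/-- A field normalised by `H` gives a self-adjoint field of prime degree or a unitary one of degree two. -/
theorem field_cases (hn : 2 ≤ Fintype.card ι) (hH : H ≤ Cfsg.isometryGroup F (⇑Q)) (hirr : Irred H)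
    (h : (evData hQ).HasField H) :
    (∃ (r : ℕ) (K : Subalgebra F (Matrix ι ι F)), r.Prime ∧ r ∣ Fintype.card ι ∧ IsFieldSubalgebra r K ∧
      IsSelfAdjointFor (QuadraticMap.polar (⇑Q)) K ∧ H ≤ subalgebraNormalizer K) ∨
    (∃ K : Subalgebra F (Matrix ι ι F), UnitaryField Q K ∧ H ≤ subalgebraNormalizer K) := by
  classical
  obtain ⟨Z, hcomm, hinv, hadj, hconj, hns⟩ := h
  set D := evData hQ with hD
  by_cases hfix : ∀ z ∈ Z, D.adj z = z → ∃ c : F, z = c • 1
  · exact Or.inr ⟨Z, unitaryField_of_fixed_scalar hQ hn hH hirr Z hcomm hinv hadj hconj hns hfix,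
      fun g hg => mem_subalgebraNormalizer (hconj g hg)⟩
  push Not at hfix
  obtain ⟨z₁, hz₁, hσz₁, hz₁ns⟩ := hfix
  let Z' : Subalgebra F (Matrix ι ι F) :=
    { carrier := {z | z ∈ Z ∧ D.adj z = z}
      mul_mem' := fun {a b} ha hb => ⟨mul_mem ha.1 hb.1, by
        rw [FormData.adj_mul, ha.2, hb.2]; exact hcomm b hb.1 a ha.1⟩
      add_mem' := fun {a b} ha hb => ⟨add_mem ha.1 hb.1, by rw [FormData.adj_add, ha.2, hb.2]⟩
      algebraMap_mem' := fun c => ⟨Z.algebraMap_mem c, by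
        rw [Algebra.algebraMap_eq_smul_one]; exact adj_scalar' hQ c⟩ }
  have hinv' : ∀ x ∈ Z', x ≠ 0 → ∃ y ∈ Z', x * y = 1 := by
    intro x hx hx0
    obtain ⟨y, hy, hxy⟩ := hinv x hx.1 hx0
    refine ⟨y, ⟨hy, ?_⟩, hxy⟩
    have e := congrArg D.adj hxy
    rw [FormData.adj_mul, FormData.adj_one, hx.2] at e
    calc D.adj y = D.adj y * (x * y) := by rw [hxy, mul_one]
      _ = D.adj y * x * y := (mul_assoc _ _ _).symm
      _ = y := by rw [e, one_mul]
  obtain ⟨r, K, hr, hK, hKZ, hmem⟩ :=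
    exists_prime_subfield Z' (fun x hx y hy => hcomm x hx.1 y hy.1) hinv' (z₀ := z₁) ⟨hz₁, hσz₁⟩ hz₁ns
  refine Or.inl ⟨r, K, hr, dvd_card_of_field hr hK, hK, (isSelfAdjointFor_iff hQ).2 fun k hk => (hKZ hk).2,
    fun g hg => mem_subalgebraNormalizer fun y hy => ?_⟩
  rw [hmem] at hy ⊢
  refine ⟨⟨hconj g hg y hy.1.1, ?_⟩, by rw [← map_pow, hy.2]⟩
  rw [D.adj_conjMat (evIso_le_sim hQ (hH hg)), hy.1.2]

/-- In characteristic two a self-adjoint field of degree `r` needs `2r` to divide the dimension. -/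
theorem two_mul_dvd_card (h2 : (2 : F) = 0) {r : ℕ} {K : Subalgebra F (Matrix ι ι F)}
    (hK : IsFieldSubalgebra r K) (hsa : IsSelfAdjointFor (QuadraticMap.polar (⇑Q)) K) :
    2 * r ∣ Fintype.card ι := by
  classical
  set D := evData hQ
  have hadj : ∀ k ∈ K, D.adj k = k := (isSelfAdjointFor_iff hQ).1 hsa
  haveI : CharP F 2 := CharTwo.of_one_ne_zero_of_two_eq_zero one_ne_zero h2
  have hself : ∀ x : Vec, B x x = 0 := fun x => by
    rw [QuadraticMap.polar_self, two_smul, ← two_mul, h2, zero_mul]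
  -- every element is a square
  have hsqrt : ∀ k ∈ K, ∃ l ∈ K, l * l = k := by
    intro k hk
    let f : K → K := fun x => x * x
    have hf : Function.Injective f := by
      intro a b hab
      have h : ((a : Matrix ι ι F) - b) * ((a : Matrix ι ι F) - b) = 0 := by
        have hab' : (a : Matrix ι ι F) * a = (b : Matrix ι ι F) * b := congrArg Subtype.val hab
        rw [sub_mul, mul_sub, mul_sub, hK.comm (b : Matrix ι ι F) b.2 a a.2, hab']
        ext i j
        simp only [Matrix.sub_apply, Matrix.add_apply, Matrix.zero_apply, CharTwo.sub_eq_add]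
        linear_combination (((b : Matrix ι ι F) * b) i j + ((a : Matrix ι ι F) * b) i j) * h2
      by_contra hne
      obtain ⟨y, hy, hy1⟩ := hK.inv _ (sub_mem a.2 b.2) fun h0 => hne (Subtype.ext (sub_eq_zero.1 h0))
      have e := congrArg (· * y) h
      simp only [mul_assoc, hy1, mul_one, zero_mul] at e
      exact hne (Subtype.ext (sub_eq_zero.1 e))
    obtain ⟨l, hl⟩ := (Finite.injective_iff_surjective.1 hf) ⟨k, hk⟩
    exact ⟨l, l.2, congrArg Subtype.val hl⟩
  have hiso : ∀ v : Vec, ∀ x ∈ orbit K v, ∀ y ∈ orbit K v, B x y = 0 := by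
    rintro v _ ⟨k, hk, rfl⟩ _ ⟨m, hm, rfl⟩
    obtain ⟨l, hl, hll⟩ := hsqrt (m * k) (mul_mem hm hk)
    show B (k *ᵥ v) (m *ᵥ v) = 0
    rw [QuadraticMap.polar_comm, polar_mulVec_left hQ, hadj m hm, Matrix.mulVec_mulVec, ← hll,
      ← Matrix.mulVec_mulVec, ← hadj l hl, ← polar_mulVec_left hQ, hadj l hl, hself]
  suffices h : ∀ W : Submodule F Vec, KInv K W → NonDeg Q W → 2 * r ∣ finrank F W by
    have := h ⊤ (fun _ _ _ _ => trivial) (nonDeg_top hQ)
    rwa [finrank_top, Module.finrank_fintype_fun_eq_card] at this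
  intro W
  induction hn : finrank F W using Nat.strong_induction_on generalizing W with
  | _ n ih =>
    intro hWK hW
    by_cases h0 : W = ⊥
    · rw [h0, finrank_bot] at hn; rw [← hn]; exact dvd_zero _
    obtain ⟨v, hv, hv0⟩ := Submodule.exists_mem_ne_zero_of_ne_bot h0
    obtain ⟨u, hu, hvu⟩ := hW v hv hv0
    have hu0 : u ≠ 0 := fun h => hvu (by rw [h, QuadraticMap.polar_zero_right])
    set S := orbit K v ⊔ orbit K u with hS
    have hpair : ∀ a b : Vec, B a b ≠ 0 → ∀ k ∈ K, k ≠ 0 → ∀ z ∈ orbit K a,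
        ∃ y ∈ orbit K b, B (k *ᵥ a + 0) y ≠ 0 := by
      intro a b hab k hk hk0 z _
      obtain ⟨k', hk', hkk⟩ := hK.inv k hk hk0
      refine ⟨k' *ᵥ b, ⟨k', hk', rfl⟩, ?_⟩
      rw [add_zero, QuadraticMap.polar_comm, polar_mulVec_left hQ, hadj k' hk', Matrix.mulVec_mulVec,
        hK.comm k' hk' k hk, hkk, Matrix.one_mulVec, QuadraticMap.polar_comm]
      exact hab
    have hSn : NonDeg Q S := by
      intro x hx hx0
      obtain ⟨a, ha, b, hb, rfl⟩ := Submodule.mem_sup.1 hx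
      obtain ⟨k, hk, rfl⟩ := ha
      obtain ⟨l, hl, rfl⟩ := hb
      by_cases hk0 : k = 0
      · have hl0 : l ≠ 0 := fun h => hx0 (by simp [hk0, h])
        obtain ⟨y, hy, hne⟩ := hpair u v (by rwa [QuadraticMap.polar_comm]) l hl hl0 u (self_mem_orbit u)
        refine ⟨y, Submodule.mem_sup_left hy, ?_⟩
        simpa [hk0] using hne
      · obtain ⟨y, hy, hne⟩ := hpair v u hvu k hk hk0 v (self_mem_orbit v)
        refine ⟨y, Submodule.mem_sup_right hy, ?_⟩
        show B (k *ᵥ v + l *ᵥ u) y ≠ 0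
        have hly : B (l *ᵥ u) y = 0 := hiso u (l *ᵥ u) ⟨l, hl, rfl⟩ y hy
        rw [QuadraticMap.polar_add_left, hly, add_zero]
        simpa using hne
    have hdS : finrank F S = 2 * r := by
      have h := Submodule.finrank_sup_add_finrank_inf_eq (orbit K v) (orbit K u)
      have h0' : orbit K v ⊓ orbit K u = ⊥ := by
        rw [eq_bot_iff]
        intro x hx
        by_contra hx0
        obtain ⟨y, hy, hxy⟩ := hSn x (Submodule.mem_sup_left hx.1) hx0
        obtain ⟨a, ha, b, hb, rfl⟩ := Submodule.mem_sup.1 hy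
        exact hxy (by rw [QuadraticMap.polar_add_right, hiso v x hx.1 a ha, hiso u x hx.2 b hb, add_zero])
      rw [h0', finrank_bot, add_zero, finrank_orbit hK hv0, finrank_orbit hK hu0, ← hS] at h
      omega
    have hSW : S ≤ W := sup_le (orbit_le hWK hv) (orbit_le hWK hu)
    set W' := Forms.Max.Orth.perp Q S ⊓ W with hW'
    have hsplit : S ⊔ W' = W := by
      rw [hW', ← sup_inf_assoc_of_le _ hSW, sup_perp hQ hSn, top_inf_eq]
    have ho : ∀ x ∈ S, ∀ y ∈ W', B x y = 0 := fun x hx y hy => Forms.Max.Orth.mem_perp.1 hy.1 x hx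
    have hW'n : NonDeg Q W' := by
      intro x hx hx0
      obtain ⟨z, hz, hxz⟩ := hW x hx.2 hx0
      rw [← hsplit] at hz
      obtain ⟨p, hp, w, hw, rfl⟩ := Submodule.mem_sup.1 hz
      refine ⟨w, hw, ?_⟩
      rwa [QuadraticMap.polar_add_right, QuadraticMap.polar_comm (⇑Q) x p, ho p hp x hx, zero_add] at hxz
    have hd := finrank_sup_orth hSn ho
    rw [hsplit, hdS, hn] at hd
    have hr0 : 0 < r := hK.finrank_eq ▸ Module.finrank_pos
    rw [hd]
    exact dvd_add dvd_rfl (ih _ (by omega) W' rfl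
      ((KInv.perp hQ ((kInv_orbit v).sup (kInv_orbit u)) fun k hk => by rw [hadj k hk]; exact hk).inf hWK) hW'n)

/-- A unitary field in twice an odd dimension forces minus type. -/
theorem not_plus_of_unitary {K : Subalgebra F (Matrix ι ι F)} (hU : UnitaryField Q K) {m : ℕ}
    (hm : Fintype.card ι = 2 * m) (hodd : Odd m) : ¬ IsPlusTypeOn (⇑Q) (⊤ : Submodule F Vec) := by
  classical
  obtain ⟨hK, hadjc, hnsa, hsim⟩ := hU
  set D := evData hQ with hD
  have hadj : ∀ k ∈ K, D.adj k ∈ K := fun k hk => by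
    obtain ⟨k', hk', h⟩ := hadjc k hk
    rwa [adj_eq_of_forall hQ h]
  choose! N hN using hsim
  obtain ⟨v₀, hv₀⟩ : ∃ v : Vec, Q v ≠ 0 := by
    by_contra hall
    push Not at hall
    obtain ⟨u, hu⟩ := _root_.exists_ne (0 : Vec)
    obtain ⟨x, hx⟩ := Forms.Max.Orth.exists_ne hQ hu
    exact hx (by simp [QuadraticMap.polar, hall])
  -- multipliers
  have hBN : ∀ k ∈ K, ∀ u v : Vec, B (k *ᵥ u) (k *ᵥ v) = N k * B u v := fun k hk u v => by
    simp only [QuadraticMap.polar, ← Matrix.mulVec_add, hN k hk]; ring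
  have hkk : ∀ k ∈ K, D.adj k * k = N k • 1 := fun k hk => Matrix.ext_iff_mulVec.2 fun u => by
    refine (evData hQ).eq_of_forall_left fun w => ?_
    rw [evData_form, ← Matrix.mulVec_mulVec, hD, ← polar_mulVec_left hQ, hBN k hk, smul_mulVec',
      QuadraticMap.polar_smul_right, smul_eq_mul]
  have hN0 : ∀ k ∈ K, k ≠ 0 → N k ≠ 0 := by
    intro k hk hk0 h
    obtain ⟨y, hy, hky⟩ := hK.inv k hk hk0
    have e := hkk k hk
    rw [h, zero_smul] at e
    have := congrArg (· * y) e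
    simp only [mul_assoc, hky, mul_one, zero_mul] at this
    exact hk0 (D.adj_injective (this.trans D.adj_zero.symm))
  obtain ⟨m₀, hm₀, hm₀t⟩ : ∃ x ∈ K, x + D.adj x ≠ 0 := by
    by_contra hall
    push Not at hall
    have h1 := hall 1 (one_mem K)
    rw [FormData.adj_one] at h1
    refine hnsa ((isSelfAdjointFor_iff hQ).2 fun k hk => ?_)
    have h := hall k hk
    have h2 : (2 : F) = 0 := by
      have := congrFun (congrFun h1 (Classical.arbitrary ι)) (Classical.arbitrary ι)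
      simpa [one_add_one_eq_two] using this
    rw [eq_neg_of_add_eq_zero_right h]
    ext i j
    rw [Matrix.neg_apply, neg_eq_iff_add_eq_zero, ← two_mul, h2, zero_mul]
  have htr : ∀ k ∈ K, ∃ t : F, k + D.adj k = t • 1 := fun k hk => ⟨N (k + 1) - N k - 1, by
    have e := hkk (k + 1) (add_mem hk (one_mem K))
    rw [FormData.adj_add, FormData.adj_one, add_mul, mul_add, mul_one, one_mul, hkk k hk] at e
    rw [sub_smul, sub_smul, one_smul, ← e]; abel⟩
  -- the lines over K
  have hline : ∀ v : Vec, Q v ≠ 0 → NonDeg Q (orbit K v) ∧ finrank F (orbit K v) = 2 * 1 ∧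
      ¬ IsPlusTypeOn (⇑Q) (orbit K v) := by
    intro v hv
    have hv0 : v ≠ 0 := fun h => hv (by rw [h, QuadraticMap.map_zero])
    refine ⟨?_, by rw [finrank_orbit hK hv0], ?_⟩
    · rintro _ ⟨k, hk, rfl⟩ hk0
      have hk0' : k ≠ 0 := fun h => hk0 (by simp [h])
      refine ⟨(k * m₀) *ᵥ v, ⟨k * m₀, K.mul_mem hk hm₀, rfl⟩, ?_⟩
      show B (k *ᵥ v) ((k * m₀) *ᵥ v) ≠ 0
      rw [← Matrix.mulVec_mulVec, hBN k hk]
      refine mul_ne_zero (hN0 k hk hk0') fun hz => ?_
      obtain ⟨t, ht⟩ := htr m₀ hm₀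
      apply hm₀t
      have e : B v (m₀ *ᵥ v) + B v (D.adj m₀ *ᵥ v) = t * B v v := by
        rw [← QuadraticMap.polar_add_right, ← Matrix.add_mulVec, ht, smul_mulVec', QuadraticMap.polar_smul_right,
          smul_eq_mul]
      rw [hD, ← polar_mulVec_left hQ, QuadraticMap.polar_comm (⇑Q) (m₀ *ᵥ v), hz, add_zero,
        QuadraticMap.polar_self, two_smul, ← two_mul, eq_comm, ← mul_assoc, mul_eq_zero] at e
      rcases mul_eq_zero.1 (e.resolve_right hv) with ht0 | h2
      · rw [ht, ht0, zero_smul]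
      · -- characteristic two: the trace is read off from the multiplier
        have e2 := hN (m₀ + 1) (add_mem hm₀ (one_mem K)) v
        rw [Matrix.add_mulVec, Matrix.one_mulVec, qadd, hN m₀ hm₀, QuadraticMap.polar_comm, hz, add_zero] at e2
        have e3 : N (m₀ + 1) = N m₀ + 1 := mul_right_cancel₀ hv (by rw [← e2]; ring)
        have e4 := hkk (m₀ + 1) (add_mem hm₀ (one_mem K))
        rw [FormData.adj_add, FormData.adj_one, add_mul, mul_add, mul_one, one_mul, hkk m₀ hm₀, e3, add_smul,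
          one_smul, add_assoc, add_right_inj, ← add_assoc, add_eq_right, add_comm] at e4
        exact e4
    · rintro ⟨U, hUW, hU, hd⟩
      rw [finrank_orbit hK hv0] at hd
      obtain ⟨x, hx, hx0⟩ := Submodule.exists_mem_ne_zero_of_ne_bot (p := U) fun h => by
        rw [h, finrank_bot] at hd; omega
      obtain ⟨k, hk, rfl⟩ := hUW hx
      have h := hU _ hx
      change Q (k *ᵥ v) = 0 at h
      rw [hN k hk] at h
      exact mul_ne_zero (hN0 k hk fun h0 => hx0 (by simp [h0])) hv h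
  -- every value is a multiplier
  have hNsurj : ∀ c : F, c ≠ 0 → ∃ k ∈ K, N k = c := by
    intro c hc
    have hF : IsField K :=
      { exists_pair_ne := ⟨0, 1, zero_ne_one⟩
        mul_comm := fun a b => Subtype.ext (hK.comm a a.2 b b.2)
        mul_inv_cancel := fun {a} ha => by
          obtain ⟨y, hy, h⟩ := hK.inv a a.2 fun h => ha (Subtype.ext h)
          exact ⟨⟨y, hy⟩, Subtype.ext h⟩ }
    letI : Field K := hF.toField
    haveI : Finite K := inferInstance
    let σ : K →+* K :=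
      { toFun := fun x => ⟨D.adj x, hadj x x.2⟩
        map_one' := Subtype.ext D.adj_one
        map_mul' := fun x y => Subtype.ext (by
          show D.adj ((x : Matrix ι ι F) * y) = D.adj x * D.adj y
          rw [D.adj_mul]
          exact hK.comm _ (hadj y y.2) _ (hadj x x.2))
        map_zero' := Subtype.ext D.adj_zero
        map_add' := fun x y => Subtype.ext (D.adj_add _ _) }
    obtain ⟨z, hz, hzne⟩ : ∃ z ∈ K, D.adj z ≠ z := by
      by_contra hall
      push Not at hall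
      exact hnsa ((isSelfAdjointFor_iff hQ).2 hall)
    obtain ⟨a, ha⟩ := exists_mul_map_eq σ (fun x => Subtype.ext (D.adj_adj _)) (a₀ := ⟨z, hz⟩)
      (fun h => hzne (congrArg Subtype.val h)) (l := ⟨c • 1, Subalgebra.smul_mem _ (one_mem K) c⟩)
      (Subtype.ext (adj_scalar' hQ c))
      (fun h => hc (by
        have := congrFun (congrFun (congrArg Subtype.val h) (Classical.arbitrary ι)) (Classical.arbitrary ι)
        simpa using this))
    refine ⟨a, a.2, ?_⟩
    have e : (a : Matrix ι ι F) * D.adj a = c • 1 := congrArg Subtype.val ha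
    rw [hK.comm _ a.2 _ (hadj a a.2), hkk a a.2] at e
    exact smul_left_injective F one_ne_zero e
  have hiso : ∀ v w : Vec, Q v ≠ 0 → Q w ≠ 0 → AreIsometricFor (⇑Q) (orbit K v) (orbit K w) := by
    intro v w hv hw
    obtain ⟨k₀, hk₀, hNk⟩ := hNsurj (Q v / Q w) (div_ne_zero hv hw)
    have hv' : Q (k₀ *ᵥ w) = Q v := by rw [hN k₀ hk₀, hNk, div_mul_cancel₀ _ hw]
    have hw0 : k₀ *ᵥ w ≠ 0 := fun h => hv (by rw [← hv', h, QuadraticMap.map_zero])
    have hv0 : v ≠ 0 := fun h => hv (by rw [h, QuadraticMap.map_zero])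
    let L : ∀ x : Vec, Subalgebra.toSubmodule K →ₗ[F] orbit K x := fun x =>
      { toFun := fun k => ⟨(k : Matrix ι ι F) *ᵥ x, ⟨k, k.2, rfl⟩⟩
        map_add' := fun a b => Subtype.ext (Matrix.add_mulVec _ _ _)
        map_smul' := fun c a => Subtype.ext (Matrix.smul_mulVec c _ _) }
    have hL : ∀ x : Vec, x ≠ 0 → Function.Bijective (L x) := fun x hx =>
      ⟨fun a b h => by
        have h' : ((a : Matrix ι ι F) - (b : Matrix ι ι F)) *ᵥ x = 0 := by
          rw [Matrix.sub_mulVec, sub_eq_zero]; exact congrArg Subtype.val h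
        exact Subtype.ext (sub_eq_zero.1 (mulVec_eq_zero_of_field hK (sub_mem a.2 b.2) h' hx)),
      fun y => by
        obtain ⟨k, hk, hky⟩ := y.2
        exact ⟨⟨k, hk⟩, Subtype.ext hky⟩⟩
    have hwo : orbit K (k₀ *ᵥ w) = orbit K w := by
      refine Submodule.eq_of_le_of_finrank_le (orbit_le (kInv_orbit w) ⟨k₀, hk₀, rfl⟩) ?_
      rw [finrank_orbit hK (fun h => hw (by rw [h, QuadraticMap.map_zero])), finrank_orbit hK hw0]
    rw [← hwo]
    refine ⟨(LinearEquiv.ofBijective (L v) (hL v hv0)).symm.trans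
      (LinearEquiv.ofBijective (L (k₀ *ᵥ w)) (hL _ hw0)), fun x => ?_⟩
    obtain ⟨k, rfl⟩ := (hL v hv0).2 x
    rw [LinearEquiv.trans_apply, LinearEquiv.ofBijective_symm_apply_apply]
    show Q ((k : Matrix ι ι F) *ᵥ (k₀ *ᵥ w)) = Q ((k : Matrix ι ι F) *ᵥ v)
    rw [hN _ k.2, hN _ k.2, hv']
  have hval : ∀ W : Submodule F Vec, NonDeg Q W → W ≠ ⊥ → ∃ v ∈ W, Q v ≠ 0 := by
    intro W hW h0
    by_contra hall
    push Not at hall
    obtain ⟨r, hr, hr0⟩ := Submodule.exists_mem_ne_zero_of_ne_bot h0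
    obtain ⟨s, hs, hrs⟩ := hW r hr hr0
    exact hrs (Forms.Max.Orth.polar_of_sing hall hr hs)
  have hperpK : ∀ {W : Submodule F Vec}, KInv K W → KInv K (Forms.Max.Orth.perp Q W) := fun h =>
    KInv.perp hQ h hadj
  have hsplit : ∀ (S W : Submodule F Vec), NonDeg Q S → NonDeg Q W → S ≤ W →
      S ⊔ (Forms.Max.Orth.perp Q S ⊓ W) = W ∧ NonDeg Q (Forms.Max.Orth.perp Q S ⊓ W) ∧
      finrank F W = finrank F S + finrank F ↥(Forms.Max.Orth.perp Q S ⊓ W) := by
    intro S W hS hW hle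
    have h1 : S ⊔ (Forms.Max.Orth.perp Q S ⊓ W) = W := by
      rw [← sup_inf_assoc_of_le _ hle, sup_perp hQ hS, top_inf_eq]
    have ho : ∀ x ∈ S, ∀ y ∈ Forms.Max.Orth.perp Q S ⊓ W, B x y = 0 :=
      fun x hx y hy => Forms.Max.Orth.mem_perp.1 hy.1 x hx
    refine ⟨h1, fun x hx hx0 => ?_, ?_⟩
    · obtain ⟨z, hz, hxz⟩ := hW x hx.2 hx0
      rw [← h1] at hz
      obtain ⟨p, hp, w, hw, rfl⟩ := Submodule.mem_sup.1 hz
      refine ⟨w, hw, ?_⟩
      rwa [QuadraticMap.polar_add_right, QuadraticMap.polar_comm (⇑Q) x p, ho p hp x hx, zero_add] at hxz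
    · conv_lhs => rw [← h1]
      exact finrank_sup_orth hS ho
  have heven : ∀ (i : ℕ) (W : Submodule F Vec), KInv K W → NonDeg Q W → finrank F W = 4 * i →
      IsPlusTypeOn (⇑Q) W := by
    intro i
    induction i with
    | zero =>
      intro W _ _ hd
      rw [Submodule.finrank_eq_zero.1 hd]
      exact isPlusTypeOn_bot
    | succ i ih =>
      intro W hWK hW hd
      obtain ⟨v, hv, hQv⟩ := hval W hW fun h => by rw [h, finrank_bot] at hd; omega
      obtain ⟨hn1, hd1, -⟩ := hline v hQv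
      obtain ⟨-, hn', hd'⟩ := hsplit _ W hn1 hW (orbit_le hWK hv)
      set W₁ := Forms.Max.Orth.perp Q (orbit K v) ⊓ W with hW₁
      obtain ⟨w, hw, hQw⟩ := hval W₁ hn' fun h => by
        rw [h, finrank_bot] at hd'; omega
      obtain ⟨hn2, hd2, -⟩ := hline w hQw
      have ho : ∀ x ∈ orbit K v, ∀ y ∈ orbit K w, B x y = 0 := fun x hx y hy =>
        Forms.Max.Orth.mem_perp.1 ((orbit_le ((hperpK (kInv_orbit v)).inf hWK) hw) hy).1 x hx
      set S := orbit K v ⊔ orbit K w with hS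
      have hSn : NonDeg Q S := hn1.sup hn2 ho
      have hSd : finrank F S = 4 := by rw [hS, finrank_sup_orth hn1 ho, hd1, hd2]
      obtain ⟨h1, hn3, hd3⟩ := hsplit S W hSn hW (sup_le (orbit_le hWK hv) (orbit_le hWK hw.2))
      rw [← h1]
      exact plus_sup_plus hSn (fun x hx y hy => Forms.Max.Orth.mem_perp.1 hy.1 x hx)
        (plus_sup_isometric hn1 ho (hiso v w hQv hQw) hd1)
        (ih _ ((hperpK ((kInv_orbit v).sup (kInv_orbit w))).inf hWK) hn3 (by omega))
  intro hplus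
  obtain ⟨hn1, hd1, hnp⟩ := hline v₀ hv₀
  obtain ⟨j, hj⟩ := hodd
  have hd := Forms.Max.Orth.finrank_perp hQ (orbit K v₀)
  have hYn := nonDeg_perp hQ hn1
  have hY := heven j _ (hperpK (kInv_orbit v₀)) hYn (by omega)
  have h := plus_perp hQ hplus hYn hY
  rw [Forms.Max.Orth.perp_perp hQ] at h
  exact hnp h

end

end Cfsg.Agent.Aschbacher.Ev
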