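/-
A self-adjoint field of odd degree `r` in dimension `2r` gives a singular pair or a unitary field.
-/
import Mathlib
import Cfsg.Agent.Aschbacher.Ev.Field

set_option autoImplicit false
set_option linter.style.haveILetI false
set_option linter.unusedSectionVars false

namespace Cfsg.Agent.Aschbacher.Ev

open Module Matrix
open Cfsg.Geo

variable {F : Type*} [Field F] [Fintype F] {ι : Type} [Fintype ι] [DecidableEq ι]

/-- The subfield of degree `s` of a field of matrices of degree divisible by `s`. -/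
lemma exists_subfield_of_dvd [Nonempty ι] (Z : Subalgebra F (Matrix ι ι F))
    (hcomm : ∀ x ∈ Z, ∀ y ∈ Z, x * y = y * x) (hinv : ∀ x ∈ Z, x ≠ 0 → ∃ y ∈ Z, x * y = 1) {s : ℕ}
    (hs : s ≠ 0) (hdvd : s ∣ finrank F Z) :
    ∃ K : Subalgebra F (Matrix ι ι F), IsFieldSubalgebra s K ∧
      ∀ x, x ∈ K ↔ x ∈ Z ∧ x ^ (Fintype.card F ^ s) = x := by
  classical
  have hF : IsField Z :=
    { exists_pair_ne := ⟨0, 1, zero_ne_one⟩
      mul_comm := fun a b => Subtype.ext (hcomm a a.2 b b.2)
      mul_inv_cancel := fun {a} ha => by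
        obtain ⟨y, hy, h⟩ := hinv a a.2 fun h => ha (Subtype.ext h)
        exact ⟨⟨y, hy⟩, Subtype.ext h⟩ }
  letI : Field Z := hF.toField
  haveI : Finite Z := inferInstance
  haveI : Module.Finite F Z := Module.Finite.of_finite
  set d := finrank F Z with hd
  set σ := FiniteField.frobeniusAlgEquivOfAlgebraic F Z ^ s with hσ
  let K0 := IntermediateField.fixedField (Subgroup.zpowers σ)
  have hmem : ∀ x : Z, x ∈ K0 ↔ x ^ (Fintype.card F ^ s) = x := by
    intro x
    have hsx : σ x = x ^ (Fintype.card F ^ s) := by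
      rw [hσ, AlgEquiv.coe_pow, FiniteField.coe_frobeniusAlgEquivOfAlgebraic_iterate]
    rw [IntermediateField.mem_fixedField_iff, ← hsx]
    constructor
    · exact fun h => h σ (Subgroup.mem_zpowers σ)
    · intro h τ hτ
      have hle : Subgroup.zpowers σ ≤ MulAction.stabilizer _ x :=
        Subgroup.zpowers_le.2 (MulAction.mem_stabilizer_iff.2 h)
      exact MulAction.mem_stabilizer_iff.1 (hle hτ)
  have hfin : finrank F K0 = s := by
    have h1 : finrank K0 Z = orderOf σ := by
      rw [IntermediateField.finrank_fixedField_eq_card, Nat.card_zpowers]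
    have h2 : orderOf σ = d / s := by
      rw [hσ, orderOf_pow' _ hs, FiniteField.orderOf_frobeniusAlgEquivOfAlgebraic, ← hd,
        Nat.gcd_eq_right hdvd]
    have h3 := Module.finrank_mul_finrank F K0 Z
    rw [h1, h2, ← hd] at h3
    have h4 : s * (d / s) = d := Nat.mul_div_cancel' hdvd
    have hd0 : 0 < d := Module.finrank_pos
    have h5 : 0 < d / s := Nat.div_pos (Nat.le_of_dvd hd0 hdvd) (Nat.pos_of_ne_zero hs)
    exact Nat.eq_of_mul_eq_mul_right h5 (h3.trans h4.symm)
  refine ⟨K0.toSubalgebra.map Z.val, ⟨?_, ?_, ?_⟩, ?_⟩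
  · rintro x ⟨a, -, rfl⟩ y ⟨b, -, rfl⟩
    exact hcomm a a.2 b b.2
  · rintro x ⟨a, ha, rfl⟩ hx0
    have ha0 : a ≠ 0 := fun h => hx0 (by simp [h])
    refine ⟨Z.val a⁻¹, ⟨a⁻¹, K0.inv_mem ha, rfl⟩, ?_⟩
    exact (congrArg Subtype.val (mul_inv_cancel₀ ha0) : _)
  · rw [← hfin]
    exact (Subalgebra.equivMapOfInjective _ _ Subtype.val_injective).toLinearEquiv.finrank_eq.symm
  · intro x
    constructor
    · rintro ⟨a, ha, rfl⟩
      refine ⟨a.2, ?_⟩
      rw [← map_pow]
      exact congrArg _ ((hmem a).1 ha)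
    · rintro ⟨hx, hxq⟩
      exact ⟨⟨x, hx⟩, (hmem _).2 (Subtype.ext hxq), rfl⟩

/-- In a field of matrices the elements fixed by the Frobenius are scalars. -/
lemma scalar_of_pow_card [Nonempty ι] {r : ℕ} {K : Subalgebra F (Matrix ι ι F)} (hK : IsFieldSubalgebra r K)
    {z : Matrix ι ι F} (hz : z ∈ K) (hq : z ^ Fintype.card F = z) : ∃ c : F, z = c • 1 := by
  classical
  have hF : IsField K :=
    { exists_pair_ne := ⟨0, 1, zero_ne_one⟩
      mul_comm := fun a b => Subtype.ext (hK.comm a a.2 b b.2)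
      mul_inv_cancel := fun {a} ha => by
        obtain ⟨y, hy, h⟩ := hK.inv a a.2 fun h => ha (Subtype.ext h)
        exact ⟨⟨y, hy⟩, Subtype.ext h⟩ }
  letI : Field K := hF.toField
  by_contra hns
  push Not at hns
  have hne : (⟨z, hz⟩ : K) ∉ Finset.univ.image (algebraMap F K) := by
    intro h
    obtain ⟨c, -, hc⟩ := Finset.mem_image.1 h
    apply hns c
    have := congrArg Subtype.val hc
    rw [← Algebra.algebraMap_eq_smul_one]
    exact this.symm
  have hone := Fintype.one_lt_card (α := F)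
  have hp := FiniteField.X_pow_card_sub_X_ne_zero K hone
  have h1 := Polynomial.card_le_degree_of_subset_roots
    (Z := insert (⟨z, hz⟩ : K) (Finset.univ.image (algebraMap F K)))
    (p := (Polynomial.X ^ Fintype.card F - Polynomial.X : Polynomial K)) fun x hx => by
      refine (Polynomial.mem_roots hp).2 ?_
      rw [Polynomial.IsRoot.def, Polynomial.eval_sub, Polynomial.eval_pow, Polynomial.eval_X, sub_eq_zero]
      rcases Finset.mem_insert.1 hx with rfl | hx
      · exact Subtype.ext (by simpa using hq)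
      · obtain ⟨c, -, rfl⟩ := Finset.mem_image.1 hx
        rw [← map_pow, FiniteField.pow_card]
  rw [Finset.card_insert_of_notMem hne,
    Finset.card_image_of_injective _ (algebraMap F K).injective, Finset.card_univ,
    FiniteField.X_pow_card_sub_X_natDegree_eq K hone] at h1
  omega

variable {Q : QuadraticForm F (ι → F)}

local notation "Vec" => (ι → F)
local notation "B" => QuadraticMap.polar Q

variable [Nonempty ι] (hQ : (QuadraticMap.polarBilin Q).Nondegenerate)

section basis

variable {r : ℕ} {K : Subalgebra F (Matrix ι ι F)} (hK : IsFieldSubalgebra r K)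

lemma eq_of_agree {v w : Vec} (htop : orbit K v ⊔ orbit K w = ⊤) {x y : Matrix ι ι F}
    (hx : ∀ k ∈ K, x * k = k * x) (hy : ∀ k ∈ K, y * k = k * y) (hv : x *ᵥ v = y *ᵥ v)
    (hw : x *ᵥ w = y *ᵥ w) : x = y := by
  refine Matrix.ext_iff_mulVec.2 fun u => ?_
  have hu : u ∈ orbit K v ⊔ orbit K w := htop ▸ Submodule.mem_top
  obtain ⟨a, ⟨k, hk, rfl⟩, b, ⟨l, hl, rfl⟩, rfl⟩ := Submodule.mem_sup.1 hu
  show x *ᵥ (k *ᵥ v + l *ᵥ w) = y *ᵥ (k *ᵥ v + l *ᵥ w)
  rw [Matrix.mulVec_add, Matrix.mulVec_add, Matrix.mulVec_mulVec v, Matrix.mulVec_mulVec w,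
    Matrix.mulVec_mulVec v, Matrix.mulVec_mulVec w, hx k hk, hx l hl, hy k hk, hy l hl,
    ← Matrix.mulVec_mulVec, ← Matrix.mulVec_mulVec, ← Matrix.mulVec_mulVec, ← Matrix.mulVec_mulVec, hv, hw]

include hK

lemma exists_commuting {v w : Vec} (htop : orbit K v ⊔ orbit K w = ⊤) (hcard : Fintype.card ι = 2 * r)
    (p q : Vec) :
    ∃ s : Matrix ι ι F, (∀ k ∈ K, s * k = k * s) ∧ s *ᵥ v = p ∧ s *ᵥ w = q := by
  let E : K × K →ₗ[F] Vec :=
    { toFun := fun x => (x.1 : Matrix ι ι F) *ᵥ v + (x.2 : Matrix ι ι F) *ᵥ w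
      map_add' := fun a b => by
        simp only [Prod.fst_add, Prod.snd_add, AddMemClass.coe_add, Matrix.add_mulVec]; abel
      map_smul' := fun c a => by
        simp only [Prod.smul_fst, Prod.smul_snd, SetLike.val_smul, Matrix.smul_mulVec, RingHom.id_apply, smul_add] }
  let T : K × K →ₗ[F] Vec :=
    { toFun := fun x => (x.1 : Matrix ι ι F) *ᵥ p + (x.2 : Matrix ι ι F) *ᵥ q
      map_add' := fun a b => by
        simp only [Prod.fst_add, Prod.snd_add, AddMemClass.coe_add, Matrix.add_mulVec]; abel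
      map_smul' := fun c a => by
        simp only [Prod.smul_fst, Prod.smul_snd, SetLike.val_smul, Matrix.smul_mulVec, RingHom.id_apply, smul_add] }
  have hsurj : Function.Surjective E := fun u => by
    have hu : u ∈ orbit K v ⊔ orbit K w := htop ▸ Submodule.mem_top
    obtain ⟨a, ⟨k, hk, rfl⟩, b, ⟨l, hl, rfl⟩, rfl⟩ := Submodule.mem_sup.1 hu
    exact ⟨(⟨k, hk⟩, ⟨l, hl⟩), rfl⟩
  have hdim : finrank F (K × K) = finrank F Vec := by
    rw [Module.finrank_prod, hK.finrank_eq, Module.finrank_fintype_fun_eq_card, hcard, two_mul]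
  let e : (K × K) ≃ₗ[F] Vec := LinearEquiv.ofBijective E
    ⟨(LinearMap.injective_iff_surjective_of_finrank_eq_finrank hdim).2 hsurj, hsurj⟩
  set s := LinearMap.toMatrix' (T.comp e.symm.toLinearMap) with hs
  have hsE : ∀ x, s *ᵥ E x = T x := fun x => by
    rw [hs, ← Matrix.toLin'_apply, Matrix.toLin'_toMatrix', LinearMap.comp_apply]
    congr 1
    exact e.symm_apply_apply x
  refine ⟨s, fun k hk => Matrix.ext_iff_mulVec.2 fun u => ?_, ?_, ?_⟩
  · obtain ⟨x, rfl⟩ := hsurj u
    have h1 : k *ᵥ E x = E ((⟨k, hk⟩ : K) * x.1, (⟨k, hk⟩ : K) * x.2) := by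
      simp [E, Matrix.mulVec_add, Matrix.mulVec_mulVec]
    rw [← Matrix.mulVec_mulVec, ← Matrix.mulVec_mulVec, h1, hsE, hsE]
    simp [T, Matrix.mulVec_add, Matrix.mulVec_mulVec]
  · have h := hsE (1, 0)
    simpa [E, T] using h
  · have h := hsE (0, 1)
    simpa [E, T] using h

include hQ in
lemma exists_riesz (hadj : ∀ k ∈ K, (evData hQ).adj k = k) {a b : Vec}
    (hab : ∃ x ∈ K, B (x *ᵥ a) b ≠ 0) (φ : K →ₗ[F] F) :
    ∃ y ∈ K, ∀ x : K, φ x = B (((x : Matrix ι ι F) * y) *ᵥ a) b := by
  classical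
  let L : K →ₗ[F] Module.Dual F K :=
    { toFun := fun y =>
        { toFun := fun x => B (((x : Matrix ι ι F) * (y : Matrix ι ι F)) *ᵥ a) b
          map_add' := fun x x' => by
            rw [AddMemClass.coe_add, add_mul, Matrix.add_mulVec, QuadraticMap.polar_add_left]
          map_smul' := fun c x => by
            rw [SetLike.val_smul, Matrix.smul_mul, Matrix.smul_mulVec, QuadraticMap.polar_smul_left]
            rfl }
      map_add' := fun y y' => by
        ext x
        show B (((x : Matrix ι ι F) * ((y + y' : K) : Matrix ι ι F)) *ᵥ a) b = _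
        rw [AddMemClass.coe_add, mul_add, Matrix.add_mulVec, QuadraticMap.polar_add_left]
        rfl
      map_smul' := fun c y => by
        ext x
        show B (((x : Matrix ι ι F) * ((c • y : K) : Matrix ι ι F)) *ᵥ a) b = _
        rw [SetLike.val_smul, Matrix.mul_smul, Matrix.smul_mulVec, QuadraticMap.polar_smul_left]
        rfl }
  have hinj : Function.Injective L := by
    rw [← LinearMap.ker_eq_bot, LinearMap.ker_eq_bot']
    intro y hy
    by_contra hy0
    obtain ⟨x₀, hx₀, hne⟩ := hab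
    obtain ⟨z, hz, hyz⟩ := hK.inv y y.2 fun h => hy0 (Subtype.ext h)
    have h := LinearMap.congr_fun hy ⟨x₀ * z, mul_mem hx₀ hz⟩
    change B ((x₀ * z * (y : Matrix ι ι F)) *ᵥ a) b = 0 at h
    rw [mul_assoc, hK.comm z hz y y.2, hyz, mul_one] at h
    exact hne h
  obtain ⟨y, hy⟩ := ((LinearMap.injective_iff_surjective_of_finrank_eq_finrank
    (Subspace.dual_finrank_eq (K := F) (V := K)).symm).1 hinj) φ
  exact ⟨y, y.2, fun x => by rw [← hy]; rfl⟩

end basis

variable {H : Subgroup (GL ι F)}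

include hQ

/-- From an element whose algebra over `K` is moved by the adjoint. -/
theorem pair_or_unitary_of_element (hn : 2 ≤ Fintype.card ι) (hH : H ≤ Cfsg.isometryGroup F (⇑Q))
    (hirr : Irred H) {r : ℕ} {K : Subalgebra F (Matrix ι ι F)} (hr : Odd r)
    (hcard : Fintype.card ι = 2 * r) (hK : IsFieldSubalgebra r K) (hadjK : ∀ k ∈ K, (evData hQ).adj k = k)
    (hconjK : ∀ g ∈ H, ∀ k ∈ K, conjMat g k ∈ K) (s : Matrix ι ι F) (hsK : ∀ k ∈ K, s * k = k * s)
    {t c : Matrix ι ι F} (ht : t ∈ K) (hc : c ∈ K) (hs2 : s * s = t + c * s) {d : F}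
    (hadjs : (evData hQ).adj s = d • 1 - s) (hne : (2 : F) • s - d • 1 ≠ 0)
    (hconjs : ∀ g ∈ H, ∃ x ∈ K, ∃ y ∈ K, conjMat g s = x + y * s) :
    (evData hQ).HasSingularPair H ∨
      ∃ K' : Subalgebra F (Matrix ι ι F), UnitaryField Q K' ∧ H ≤ subalgebraNormalizer K' := by
  classical
  set D := evData hQ with hD
  let A : Subalgebra F (Matrix ι ι F) :=
    { carrier := {z | ∃ k ∈ K, ∃ l ∈ K, z = k + l * s}
      mul_mem' := by
        rintro _ _ ⟨k, hk, l, hl, rfl⟩ ⟨k', hk', l', hl', rfl⟩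
        refine ⟨k * k' + l * l' * t, add_mem (mul_mem hk hk') (mul_mem (mul_mem hl hl') ht),
          k * l' + l * k' + l * l' * c, add_mem (add_mem (mul_mem hk hl') (mul_mem hl hk'))
            (mul_mem (mul_mem hl hl') hc), ?_⟩
        have e1 : l * s * k' = l * k' * s := by rw [mul_assoc, hsK k' hk', ← mul_assoc]
        have e2 : l * s * (l' * s) = l * l' * (t + c * s) := by
          rw [← mul_assoc, mul_assoc l s l', hsK l' hl', ← mul_assoc, mul_assoc, hs2]
        rw [add_mul, mul_add, mul_add, e1, e2]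
        simp only [mul_add, add_mul, ← mul_assoc]
        abel
      add_mem' := by
        rintro _ _ ⟨k, hk, l, hl, rfl⟩ ⟨k', hk', l', hl', rfl⟩
        exact ⟨k + k', add_mem hk hk', l + l', add_mem hl hl', by rw [add_mul]; abel⟩
      algebraMap_mem' := fun a => ⟨algebraMap F _ a, K.algebraMap_mem a, 0, zero_mem _, by simp⟩ }
  have hKA : ∀ k ∈ K, k ∈ A := fun k hk => ⟨k, hk, 0, zero_mem _, by simp⟩
  have hcommA : ∀ x ∈ A, ∀ y ∈ A, x * y = y * x := by
    have hs' : ∀ k ∈ K, Commute s k := fun k hk => hsK k hk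
    rintro _ ⟨k, hk, l, hl, rfl⟩ _ ⟨k', hk', l', hl', rfl⟩
    have hkk : ∀ a ∈ K, ∀ b ∈ K, Commute a b := fun a ha b hb => hK.comm a ha b hb
    exact (((hkk k hk k' hk').add_right ((hkk k hk l' hl').mul_right (hs' k hk).symm)).add_left
      (((hkk l hl k' hk').mul_left (hs' k' hk')).add_right
        (((hkk l hl l' hl').mul_left (hs' l' hl')).mul_right
          ((hs' l hl).symm.mul_left (Commute.refl s))))).eq
  have hadjA : ∀ x ∈ A, D.adj x ∈ A := by
    rintro _ ⟨k, hk, l, hl, rfl⟩
    refine ⟨k + d • l, add_mem hk (K.smul_mem hl d), -l, neg_mem hl, ?_⟩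
    rw [FormData.adj_add, FormData.adj_mul, hadjK k hk, hadjK l hl, hadjs, sub_mul, Matrix.smul_mul, one_mul,
      hsK l hl, neg_mul]
    abel
  have hfixA : ∀ x ∈ A, D.adj x = x → x ∈ K := by
    rintro _ ⟨k, hk, l, hl, rfl⟩ he
    rw [FormData.adj_add, FormData.adj_mul, hadjK k hk, hadjK l hl, add_right_inj, hadjs, sub_mul,
      Matrix.smul_mul, one_mul, hsK l hl] at he
    by_cases hl0 : l = 0
    · simpa [hl0] using hk
    exfalso
    apply hne
    obtain ⟨y, hy, hly⟩ := hK.inv l hl hl0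
    have h0 : l * ((2 : F) • s - d • 1) = 0 := by
      rw [mul_sub, Matrix.mul_smul, Matrix.mul_smul, mul_one, two_smul]
      rw [sub_eq_iff_eq_add] at he
      rw [he, sub_self]
    have := congrArg (y * ·) h0
    simpa [← mul_assoc, hK.comm y hy l hl, hly] using this
  have hconjA : ∀ g ∈ H, ∀ x ∈ A, conjMat g x ∈ A := by
    rintro g hg _ ⟨k, hk, l, hl, rfl⟩
    obtain ⟨x, hx, y, hy, hxy⟩ := hconjs g hg
    refine ⟨conjMat g k + conjMat g l * x, add_mem (hconjK g hg k hk) (mul_mem (hconjK g hg l hl) hx),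
      conjMat g l * y, mul_mem (hconjK g hg l hl) hy, ?_⟩
    rw [map_add, map_mul, hxy, mul_add, ← mul_assoc]
    abel
  have hsA : s ∈ A := ⟨0, zero_mem _, 1, one_mem K, by simp⟩
  have hsnotK : s ∉ K := by
    intro h
    apply hne
    have e := hadjK s h
    rw [hadjs, sub_eq_iff_eq_add] at e
    rw [e, two_smul, sub_self]
  have hred : ∀ z ∈ A, ∀ k : ℕ, z ^ k = 0 → z = 0 := fun z hz =>
    subCentre_reduced A hirr hconjA z (mem_subCentre.2 ⟨hz, fun a ha => (hcommA z hz a ha).symm⟩)
  by_cases hid : ∀ e ∈ A, e * e = e → e = 0 ∨ e = 1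
  · -- a field of degree `2r`
    have hinvA : ∀ x ∈ A, x ≠ 0 → ∃ y ∈ A, x * y = 1 := fun x hx hx0 =>
      exists_inv_of_no_idempotent A hred hid hx hx0
    have hdimA : finrank F A = 2 * r := by
      let L : K × K →ₗ[F] A :=
        { toFun := fun p => ⟨(p.1 : Matrix ι ι F) + (p.2 : Matrix ι ι F) * s, _, p.1.2, _, p.2.2, rfl⟩
          map_add' := fun a b => Subtype.ext (by
            simp only [Prod.fst_add, Prod.snd_add, AddMemClass.coe_add, add_mul]; abel)
          map_smul' := fun a b => Subtype.ext (by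
            simp only [Prod.smul_fst, Prod.smul_snd, SetLike.val_smul, RingHom.id_apply, Matrix.smul_mul,
              smul_add]) }
      have hbij : Function.Bijective L := by
        refine ⟨?_, ?_⟩
        · rw [← LinearMap.ker_eq_bot, LinearMap.ker_eq_bot']
          rintro ⟨k, l⟩ hkl
          have h : (k : Matrix ι ι F) + (l : Matrix ι ι F) * s = 0 := congrArg Subtype.val hkl
          by_cases hl0 : (l : Matrix ι ι F) = 0
          · rw [hl0, zero_mul, add_zero] at h
            exact Prod.ext (Subtype.ext h) (Subtype.ext hl0)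
          · exfalso
            apply hsnotK
            obtain ⟨y, hy, hly⟩ := hK.inv l l.2 hl0
            have e := congrArg (y * ·) h
            simp only [mul_add, ← mul_assoc, hK.comm y hy l l.2, hly, one_mul, mul_zero] at e
            rw [eq_neg_of_add_eq_zero_right e]
            exact neg_mem (mul_mem hy k.2)
        · rintro ⟨_, k, hk, l, hl, rfl⟩
          exact ⟨(⟨k, hk⟩, ⟨l, hl⟩), rfl⟩
      rw [← (LinearEquiv.ofBijective L hbij).finrank_eq, Module.finrank_prod, hK.finrank_eq, two_mul]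
    obtain ⟨K₂, hK₂, hmem⟩ := exists_subfield_of_dvd A hcommA hinvA two_ne_zero (hdimA ▸ dvd_mul_right 2 r)
    have hadjpow : ∀ (x : Matrix ι ι F) (m : ℕ), D.adj (x ^ m) = D.adj x ^ m := fun x m => by
      induction m with
      | zero => rw [pow_zero, pow_zero, FormData.adj_one]
      | succ m ih => rw [pow_succ, FormData.adj_mul, ih, ← pow_succ']
    have hKpow : ∀ k ∈ K, k ^ (Fintype.card F ^ r) = k := by
      intro k hk
      have hF : IsField K :=
        { exists_pair_ne := ⟨0, 1, zero_ne_one⟩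
          mul_comm := fun a b => Subtype.ext (hK.comm a a.2 b b.2)
          mul_inv_cancel := fun {a} ha => by
            obtain ⟨y, hy, h⟩ := hK.inv a a.2 fun h => ha (Subtype.ext h)
            exact ⟨⟨y, hy⟩, Subtype.ext h⟩ }
      letI : Field K := hF.toField
      haveI : Fintype K := Fintype.ofFinite K
      have hcK : Fintype.card K = Fintype.card F ^ r := by
        rw [Module.card_eq_pow_finrank (K := F) (V := K), hK.finrank_eq]
      have h := FiniteField.pow_card (⟨k, hk⟩ : K)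
      rw [hcK] at h
      simpa using congrArg Subtype.val h
    refine Or.inr ⟨K₂, ?_, fun g hg => mem_subalgebraNormalizer fun y hy => ?_⟩
    · refine unitaryField_of_fixed_scalar hQ hn hH hirr K₂ hK₂.comm hK₂.inv (fun x hx => ?_)
        (fun g hg y hy => ?_) ?_ (fun z hz hσ => ?_)
      · rw [hmem] at hx ⊢
        exact ⟨hadjA x hx.1, by rw [← hadjpow, hx.2]⟩
      · rw [hmem] at hy ⊢
        exact ⟨hconjA g hg y hy.1, by rw [← map_pow, hy.2]⟩
      · by_contra hall
        push Not at hall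
        have hle : Subalgebra.toSubmodule K₂ ≤ Submodule.span F {(1 : Matrix ι ι F)} := fun z hz => by
          obtain ⟨c, rfl⟩ := hall z hz
          exact Submodule.smul_mem _ _ (Submodule.mem_span_singleton_self _)
        have h1 := Submodule.finrank_mono hle
        rw [finrank_span_singleton one_ne_zero, Subalgebra.finrank_toSubmodule, hK₂.finrank_eq] at h1
        omega
      · rw [hmem] at hz
        have hzK := hfixA z hz.1 hσ
        obtain ⟨i, hi⟩ := hr
        have hit : ∀ j : ℕ, z ^ (Fintype.card F ^ (2 * j)) = z := fun j => by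
          induction j with
          | zero => simp
          | succ j ih => rw [Nat.mul_succ, pow_add, pow_mul, ih, hz.2]
        refine scalar_of_pow_card hK hzK ?_
        conv_rhs => rw [← hKpow z hzK, hi, pow_add, pow_one, pow_mul, hit]
    · rw [hmem] at hy ⊢
      exact ⟨hconjA g hg y hy.1, by rw [← map_pow, hy.2]⟩
  · -- an idempotent exchanged with its complement
    push Not at hid
    obtain ⟨e, he, hee, he0, he1⟩ := hid
    have hKid : ∀ x ∈ K, x * x = x → x = 0 ∨ x = 1 := by
      intro x hx hxx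
      by_cases hx0 : x = 0
      · exact Or.inl hx0
      obtain ⟨y, hy, hxy⟩ := hK.inv x hx hx0
      refine Or.inr ?_
      calc x = x * x * y := by rw [mul_assoc, hxy, mul_one]
        _ = 1 := by rw [hxx, hxy]
    have hadje : ∀ f ∈ A, f * f = f → f ≠ 0 → f ≠ 1 → D.adj f = 1 - f := by
      intro f hf hff hf0 hf1
      have hfa := hadjA f hf
      have hfff : D.adj f * D.adj f = D.adj f := by rw [← FormData.adj_mul, hff]
      have hp : D.adj (f * D.adj f) = f * D.adj f := by rw [FormData.adj_mul, FormData.adj_adj]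
      have hpp : f * D.adj f * (f * D.adj f) = f * D.adj f := by
        rw [mul_assoc, ← mul_assoc (D.adj f), hcommA _ hfa f hf, mul_assoc f, hfff, ← mul_assoc, hff]
      rcases hKid _ (hfixA _ (mul_mem hf hfa) hp) hpp with h0 | h1
      swap
      · exfalso
        apply hf1
        have e := congrArg (f * ·) h1
        simp only [← mul_assoc, hff, mul_one] at e
        exact e.symm.trans h1
      have h0' : D.adj f * f = 0 := by rw [hcommA _ hfa f hf]; exact h0
      have hss : (f + D.adj f) * (f + D.adj f) = f + D.adj f := by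
        rw [add_mul, mul_add, mul_add, hff, hfff, h0, h0']; abel
      rcases hKid _ (hfixA _ (add_mem hf hfa) (by rw [FormData.adj_add, FormData.adj_adj, add_comm])) hss
        with h2 | h2
      · exfalso
        apply hf0
        have e := congrArg (f * ·) h2
        simpa [mul_add, hff, h0] using e
      · rw [eq_sub_iff_add_eq, add_comm]; exact h2
    have hσe := hadje e he hee he0 he1
    have hmove : ∀ g ∈ H, conjMat g e = e ∨ conjMat g e = 1 - e := by
      intro g hg
      set f := conjMat g e with hf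
      have hfA : f ∈ A := hconjA g hg e he
      have hff : f * f = f := by rw [hf, ← map_mul, hee]
      have hσf : D.adj f = 1 - f := by
        rw [hf, D.adj_conjMat (evIso_le_sim hQ (hH hg)), hσe, map_sub, map_one]
      have hfe : f * e * (f * e) = f * e := by
        rw [mul_assoc, ← mul_assoc e, hcommA e he f hfA, mul_assoc f e e, hee, ← mul_assoc, hff]
      by_cases hfe0 : f * e = 0
      · right
        have hef : e * f = 0 := by rw [hcommA e he f hfA]; exact hfe0
        have hss : (f + e) * (f + e) = f + e := by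
          rw [add_mul, mul_add, mul_add, hff, hee, hfe0, hef]; abel
        by_contra hne'
        have hne0 : f + e ≠ 0 := fun h => by
          apply he0
          have e' := congrArg (e * ·) h
          simpa [mul_add, hee, hef] using e'
        have hne1 : f + e ≠ 1 := fun h => hne' (eq_sub_of_add_eq h)
        have h := hadje _ (add_mem hfA he) hss hne0 hne1
        rw [FormData.adj_add, hσf, hσe] at h
        have h' : (1 : Matrix ι ι F) = 0 := by
          calc (1 : Matrix ι ι F) = (1 - f) + (1 - e) - (1 - (f + e)) := by abel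
            _ = 0 := by rw [h, sub_self]
        exact one_ne_zero h'
      · left
        have hne1 : f * e ≠ 1 := fun h => he1 (by
          have e' := congrArg (· * e) h
          simp only [mul_assoc, hee, one_mul] at e'
          exact e'.symm.trans h)
        have h := hadje _ (mul_mem hfA he) hfe hfe0 hne1
        rw [FormData.adj_mul, hσe, hσf, sub_mul, mul_sub, mul_sub, one_mul, one_mul, mul_one,
          hcommA e he f hfA] at h
        have h2 : f + e = f * e + f * e := by
          calc f + e = f * e + f * e + ((1 - f * e) - (1 - f - (e - f * e))) := by abel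
            _ = _ := by rw [h, sub_self, add_zero]
        have h3 := congrArg (· * e) h2
        simp only [add_mul, mul_assoc, hee] at h3
        have h4 : f * e = e := (add_left_cancel h3).symm
        rw [h4] at h2
        exact add_right_cancel h2
    have hmul : e * (1 - e) = 0 := by rw [mul_sub, mul_one, hee, sub_self]
    have hmul' : (1 - e) * e = 0 := by rw [sub_mul, one_mul, hee, sub_self]
    set E : Fin 2 → Submodule F Vec := ![LinearMap.range (Matrix.toLin' e), LinearMap.range (Matrix.toLin' (1 - e))]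
      with hE
    have hts : ∀ i, ∀ x ∈ E i, ∀ y ∈ E i, B x y = 0 := by
      have key : ∀ f g : Matrix ι ι F, D.adj f = g → g * f = 0 → ∀ u v, B (f *ᵥ u) (f *ᵥ v) = 0 :=
        fun f g hfg hgf u v => by
          rw [polar_mulVec_left hQ, ← hD, hfg, Matrix.mulVec_mulVec, hgf, Matrix.zero_mulVec,
            QuadraticMap.polar_zero_right]
      intro i
      fin_cases i
      · rintro _ ⟨u, rfl⟩ _ ⟨v, rfl⟩
        rw [Matrix.toLin'_apply, Matrix.toLin'_apply]
        exact key e _ hσe hmul' u v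
      · rintro _ ⟨u, rfl⟩ _ ⟨v, rfl⟩
        rw [Matrix.toLin'_apply, Matrix.toLin'_apply]
        exact key (1 - e) e (by rw [FormData.adj_sub, FormData.adj_one, hσe, sub_sub_cancel]) hmul u v
    have hdle : ∀ i, 2 * finrank F (E i) ≤ Fintype.card ι := fun i => by
      have h := Submodule.finrank_mono (show E i ≤ Forms.Max.Orth.perp Q (E i) from
        fun x hx => Forms.Max.Orth.mem_perp.2 fun y hy => hts i y hy x hx)
      have h' := Forms.Max.Orth.finrank_perp hQ (E i)
      omega
    have hsup : E 0 ⊔ E 1 = ⊤ := by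
      rw [eq_top_iff]
      intro x _
      rw [show x = Matrix.toLin' e x + Matrix.toLin' (1 - e) x by
        rw [Matrix.toLin'_apply, Matrix.toLin'_apply, ← Matrix.add_mulVec, add_sub_cancel, Matrix.one_mulVec]]
      exact Submodule.add_mem_sup ⟨x, rfl⟩ ⟨x, rfl⟩
    have hinf : E 0 ⊓ E 1 = ⊥ := by
      rw [eq_bot_iff]
      rintro x ⟨⟨u, hu⟩, ⟨v, hv⟩⟩
      have h1 : e *ᵥ x = x := by rw [← hu, Matrix.toLin'_apply, Matrix.mulVec_mulVec, hee]
      rw [Submodule.mem_bot, ← h1, ← hv, Matrix.toLin'_apply, Matrix.mulVec_mulVec, hmul, Matrix.zero_mulVec]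
    have hdim : ∀ i, finrank F (E i) = r := by
      have h := Submodule.finrank_sup_add_finrank_inf_eq (E 0) (E 1)
      rw [hsup, hinf, finrank_bot, finrank_top, Module.finrank_fintype_fun_eq_card, add_zero] at h
      have h0 := hdle 0
      have h1 := hdle 1
      intro i
      fin_cases i
      · show finrank F (E 0) = r; omega
      · show finrank F (E 1) = r; omega
    refine Or.inl ⟨r, E, e, ⟨le_rfl, ?_, hdim, ?_, ?_⟩,
      fun i x hx y hy => by rw [evData_form]; exact hts i x hx y hy, fun g hg => ?_, hσe, hmove⟩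
    · obtain ⟨i, hi⟩ := hr; omega
    · rw [iSupIndep_pair (i := (0 : Fin 2)) (j := 1) (by decide) (by intro k; fin_cases k <;> simp)]
      exact disjoint_iff.2 hinf
    · rw [eq_top_iff, ← hsup]
      exact sup_le (le_iSup E 0) (le_iSup E 1)
    · have hrange : ∀ f : Matrix ι ι F, (LinearMap.range (Matrix.toLin' f)).map
          (Matrix.toLin' (g : Matrix ι ι F)) = LinearMap.range (Matrix.toLin' (conjMat g f)) := fun f => by
        apply le_antisymm
        · rintro _ ⟨_, ⟨u, rfl⟩, rfl⟩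
          refine ⟨(g : Matrix ι ι F) *ᵥ u, ?_⟩
          simp only [Matrix.toLin'_apply]
          exact conjMat_mulVec g f u
        · rintro _ ⟨u, rfl⟩
          refine ⟨f *ᵥ (((g⁻¹ : GL ι F) : Matrix ι ι F) *ᵥ u), ⟨_, Matrix.toLin'_apply f _⟩, ?_⟩
          simp only [Matrix.toLin'_apply]
          rw [← conjMat_mulVec, Matrix.mulVec_mulVec u, Units.mul_inv, Matrix.one_mulVec]
      rcases hmove g hg with h | h
      · refine ⟨1, fun i => ?_⟩
        fin_cases i
        · show (LinearMap.range (Matrix.toLin' e)).map _ = _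
          rw [hrange, h]; rfl
        · show (LinearMap.range (Matrix.toLin' (1 - e))).map _ = _
          rw [hrange, map_sub, map_one, h]; rfl
      · refine ⟨Equiv.swap 0 1, fun i => ?_⟩
        fin_cases i
        · show (LinearMap.range (Matrix.toLin' e)).map _ = _
          rw [hrange, h]; rfl
        · show (LinearMap.range (Matrix.toLin' (1 - e))).map _ = _
          rw [hrange, map_sub, map_one, h, sub_sub_cancel]; rfl

/-- A self-adjoint field of odd degree `r` in dimension `2r`. -/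
theorem pair_or_unitary (hH : H ≤ Cfsg.isometryGroup F (⇑Q)) (hirr : Irred H) {r : ℕ}
    {K : Subalgebra F (Matrix ι ι F)} (hr : Odd r) (hcard : Fintype.card ι = 2 * r)
    (hK : IsFieldSubalgebra r K) (hsa : IsSelfAdjointFor (QuadraticMap.polar (⇑Q)) K)
    (hle : H ≤ subalgebraNormalizer K) :
    (evData hQ).HasSingularPair H ∨
      ∃ K' : Subalgebra F (Matrix ι ι F), UnitaryField Q K' ∧ H ≤ subalgebraNormalizer K' := by
  classical
  set D := evData hQ with hD
  have hn : 2 ≤ Fintype.card ι := by obtain ⟨i, hi⟩ := hr; omega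
  have hadjK : ∀ k ∈ K, D.adj k = k := (isSelfAdjointFor_iff hQ).1 hsa
  have hconjK : ∀ g ∈ H, ∀ k ∈ K, conjMat g k ∈ K := fun g hg k hk => (hle hg k).1 hk
  have hBK : ∀ k ∈ K, ∀ a b : Vec, B (k *ᵥ a) b = B a (k *ᵥ b) := fun k hk a b => hsa k hk a b
  have hBKK : ∀ k ∈ K, ∀ l ∈ K, ∀ a b : Vec, B (k *ᵥ a) (l *ᵥ b) = B ((k * l) *ᵥ a) b := by
    intro k hk l hl a b
    rw [← hBK l hl, Matrix.mulVec_mulVec, hK.comm l hl k hk]
  have hconjcomm : ∀ g ∈ H, ∀ {x : Matrix ι ι F}, (∀ k ∈ K, x * k = k * x) →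
      ∀ k ∈ K, conjMat g x * k = k * conjMat g x := by
    intro g hg x hx k hk
    obtain ⟨k', hk', rfl⟩ : ∃ k' ∈ K, conjMat g k' = k :=
      ⟨conjMat g⁻¹ k, hconjK _ (inv_mem hg) k hk, by simp [conjMat_apply, mul_assoc]⟩
    rw [← map_mul, hx k' hk', map_mul]
  obtain ⟨v₀, hv₀⟩ : ∃ v : Vec, Q v ≠ 0 := by
    by_contra hall
    push Not at hall
    obtain ⟨u, hu⟩ := _root_.exists_ne (0 : Vec)
    obtain ⟨x, hx⟩ := Forms.Max.Orth.exists_ne hQ hu
    exact hx (by simp [QuadraticMap.polar, hall])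
  by_cases h2 : (2 : F) = 0
  swap
  · -- odd characteristic: the skew elements
    have hself : B v₀ v₀ ≠ 0 := by
      rw [QuadraticMap.polar_self, two_smul, ← two_mul]; exact mul_ne_zero h2 hv₀
    have hv00 : v₀ ≠ 0 := fun h => hv₀ (by rw [h, QuadraticMap.map_zero])
    have hVn : NonDeg Q (orbit K v₀) := by
      rintro _ ⟨k, hk, rfl⟩ hk0
      obtain ⟨y, hy, hky⟩ := hK.inv k hk fun h => hk0 (by simp [h])
      refine ⟨y *ᵥ v₀, ⟨y, hy, rfl⟩, ?_⟩
      show B (k *ᵥ v₀) (y *ᵥ v₀) ≠ 0
      rw [hBKK k hk y hy, hky, Matrix.one_mulVec]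
      exact hself
    set W := Forms.Max.Orth.perp Q (orbit K v₀) with hW
    have hWd := Forms.Max.Orth.finrank_perp hQ (orbit K v₀)
    rw [finrank_orbit hK hv00, hcard, ← hW] at hWd
    obtain ⟨w, hw, hw0⟩ := Submodule.exists_mem_ne_zero_of_ne_bot (p := W) fun h => by
      rw [h, finrank_bot] at hWd; obtain ⟨i, hi⟩ := hr; omega
    have hWK : KInv K W := KInv.perp hQ (kInv_orbit v₀) fun k hk => by rw [hadjK k hk]; exact hk
    have hWw : orbit K w = W := Submodule.eq_of_le_of_finrank_le (orbit_le hWK hw)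
      (by rw [finrank_orbit hK hw0]; omega)
    have htop : orbit K v₀ ⊔ orbit K w = ⊤ := by rw [hWw, hW]; exact sup_perp hQ hVn
    have hvw : ∀ k ∈ K, B (k *ᵥ v₀) w = 0 := fun k hk =>
      Forms.Max.Orth.mem_perp.1 hw _ ⟨k, hk, rfl⟩
    let φ : K →ₗ[F] F :=
      { toFun := fun x => -B ((x : Matrix ι ι F) *ᵥ w) w
        map_add' := fun x y => by
          rw [AddMemClass.coe_add, Matrix.add_mulVec, QuadraticMap.polar_add_left, neg_add]
        map_smul' := fun c x => by
          rw [SetLike.val_smul, Matrix.smul_mulVec, QuadraticMap.polar_smul_left, RingHom.id_apply, smul_neg] }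
    obtain ⟨b, hb, hφ⟩ := exists_riesz hQ hK hadjK (a := v₀) (b := v₀)
      ⟨1, one_mem K, by rwa [Matrix.one_mulVec]⟩ φ
    have hφ' : ∀ k ∈ K, -B (k *ᵥ w) w = B ((k * b) *ᵥ v₀) v₀ := fun k hk => hφ ⟨k, hk⟩
    obtain ⟨s, hsK, hsv, hsw⟩ := exists_commuting hK htop hcard w (b *ᵥ v₀)
    have hskew : D.adj s = (0 : F) • 1 - s := by
      rw [zero_smul, zero_sub]
      refine adj_eq_of_forall hQ fun x y => ?_
      have hx : x ∈ orbit K v₀ ⊔ orbit K w := htop ▸ Submodule.mem_top
      have hy : y ∈ orbit K v₀ ⊔ orbit K w := htop ▸ Submodule.mem_top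
      obtain ⟨_, ⟨k, hk, rfl⟩, _, ⟨l, hl, rfl⟩, rfl⟩ := Submodule.mem_sup.1 hx
      obtain ⟨_, ⟨k', hk', rfl⟩, _, ⟨l', hl', rfl⟩, rfl⟩ := Submodule.mem_sup.1 hy
      have hs1 : ∀ m ∈ K, s *ᵥ (m *ᵥ v₀) = m *ᵥ w := fun m hm => by
        rw [Matrix.mulVec_mulVec, hsK m hm, ← Matrix.mulVec_mulVec, hsv]
      have hs2 : ∀ m ∈ K, s *ᵥ (m *ᵥ w) = (m * b) *ᵥ v₀ := fun m hm => by
        rw [Matrix.mulVec_mulVec, hsK m hm, ← Matrix.mulVec_mulVec, hsw, Matrix.mulVec_mulVec]
      have h0 : ∀ m ∈ K, ∀ m' ∈ K, B (m *ᵥ v₀) (m' *ᵥ w) = 0 := fun m hm m' hm' => by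
        rw [hBKK m hm m' hm']; exact hvw _ (mul_mem hm hm')
      have h0' : ∀ m ∈ K, ∀ m' ∈ K, B (m *ᵥ w) (m' *ᵥ v₀) = 0 := fun m hm m' hm' => by
        rw [QuadraticMap.polar_comm]; exact h0 m' hm' m hm
      show B (s *ᵥ (k *ᵥ v₀ + l *ᵥ w)) (k' *ᵥ v₀ + l' *ᵥ w) =
        B (k *ᵥ v₀ + l *ᵥ w) ((-s) *ᵥ (k' *ᵥ v₀ + l' *ᵥ w))
      rw [Matrix.neg_mulVec, Matrix.mulVec_add, Matrix.mulVec_add, hs1 k hk, hs2 l hl, hs1 k' hk', hs2 l' hl']
      simp only [QuadraticMap.polar_neg_right, QuadraticMap.polar_add_left, QuadraticMap.polar_add_right,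
        h0 _ (mul_mem hl hb) _ hl', h0' _ hk _ hk', h0' l hl _ (mul_mem hl' hb), h0 k hk k' hk']
      rw [hBKK k hk l' hl', hBKK _ (mul_mem hl hb) k' hk', hBKK k hk _ (mul_mem hl' hb), hBKK l hl k' hk']
      have e1 := hφ' (k * l') (mul_mem hk hl')
      have e2 := hφ' (l * k') (mul_mem hl hk')
      rw [show l * b * k' = l * k' * b by rw [mul_assoc, hK.comm b hb k' hk', ← mul_assoc],
        show k * (l' * b) = k * l' * b from (mul_assoc _ _ _).symm, ← e1, ← e2]
      ring
    have hs0 : s ≠ 0 := fun h => hw0 (by rw [← hsv, h, Matrix.zero_mulVec])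
    refine pair_or_unitary_of_element hQ hn hH hirr hr hcard hK hadjK hconjK s hsK hb (zero_mem K) ?_ hskew
      (by rw [zero_smul, sub_zero]; exact smul_ne_zero h2 hs0) fun g hg => ?_
    · rw [zero_mul, add_zero]
      refine eq_of_agree htop (fun k hk => by rw [mul_assoc, hsK k hk, ← mul_assoc, hsK k hk, mul_assoc])
        (fun k hk => hK.comm b hb k hk) ?_ ?_
      · rw [← Matrix.mulVec_mulVec, hsv, hsw]
      · rw [← Matrix.mulVec_mulVec, hsw, Matrix.mulVec_mulVec, hsK b hb, ← Matrix.mulVec_mulVec, hsv]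
    · set s' := conjMat g s with hs'
      have hs'K : ∀ k ∈ K, s' * k = k * s' := hconjcomm g hg hsK
      have hskewmem : ∀ {x : Matrix ι ι F}, (∀ k ∈ K, x * k = k * x) → D.adj x = -x →
          ∀ u : Vec, ∀ k ∈ K, B (k *ᵥ u) (x *ᵥ u) = 0 := by
        intro x hxK hx u k hk
        have e : B (x *ᵥ u) (k *ᵥ u) = -B (k *ᵥ u) (x *ᵥ u) := by
          rw [polar_mulVec_left hQ, ← hD, hx, Matrix.neg_mulVec, QuadraticMap.polar_neg_right,
            Matrix.mulVec_mulVec, hxK k hk, ← Matrix.mulVec_mulVec, ← hBK k hk]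
        rw [QuadraticMap.polar_comm, eq_neg_iff_add_eq_zero, ← two_mul] at e
        exact (mul_eq_zero.1 e).resolve_left h2
      have hskew' : D.adj s = -s := by rw [hskew, zero_smul, zero_sub]
      have hσs' : D.adj s' = -s' := by
        rw [hs', D.adj_conjMat (evIso_le_sim hQ (hH hg)), hskew', map_neg]
      have hmemW : s' *ᵥ v₀ ∈ W := Forms.Max.Orth.mem_perp.2 fun x hx => by
        obtain ⟨k, hk, rfl⟩ := hx
        exact hskewmem hs'K hσs' v₀ k hk
      rw [← hWw] at hmemW
      obtain ⟨y, hy, hyw⟩ := hmemW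
      change y *ᵥ w = s' *ᵥ v₀ at hyw
      refine ⟨0, zero_mem K, y, hy, ?_⟩
      rw [zero_add]
      set x := s' - y * s with hx
      have hxK : ∀ k ∈ K, x * k = k * x := fun k hk => by
        rw [hx, sub_mul, mul_sub, hs'K k hk, mul_assoc, hsK k hk, ← mul_assoc, hK.comm y hy k hk, mul_assoc]
      have hσx : D.adj x = -x := by
        rw [hx, FormData.adj_sub, FormData.adj_mul, hσs', hskew', hadjK y hy, neg_mul, hsK y hy]; abel
      have hxv : x *ᵥ v₀ = 0 := by
        rw [hx, Matrix.sub_mulVec, ← Matrix.mulVec_mulVec, hsv, hyw, sub_self]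
      have hxw : x *ᵥ w = 0 := by
        have h1 : x *ᵥ w ∈ W := Forms.Max.Orth.mem_perp.2 fun u hu => by
          obtain ⟨k, hk, rfl⟩ := hu
          show B (k *ᵥ v₀) (x *ᵥ w) = 0
          rw [QuadraticMap.polar_comm, polar_mulVec_left hQ, ← hD, hσx, Matrix.neg_mulVec,
            Matrix.mulVec_mulVec, hxK k hk, ← Matrix.mulVec_mulVec, hxv, Matrix.mulVec_zero, neg_zero,
            QuadraticMap.polar_zero_right]
        by_contra hne'
        obtain ⟨u, hu, hxu⟩ := nonDeg_perp hQ hVn _ h1 hne'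
        rw [← hW, ← hWw] at hu
        obtain ⟨k, hk, rfl⟩ := hu
        exact hxu (by rw [QuadraticMap.polar_comm]; exact hskewmem hxK hσx w k hk)
      have hx0 : x = 0 := eq_of_agree htop hxK (fun k _ => by rw [zero_mul, mul_zero])
        (by rw [hxv, Matrix.zero_mulVec]) (by rw [hxw, Matrix.zero_mulVec])
      exact sub_eq_zero.1 hx0
  · -- characteristic two: the elements giving the quadratic form
    haveI : CharP F 2 := CharTwo.of_one_ne_zero_of_two_eq_zero one_ne_zero h2
    have hself : ∀ x : Vec, B x x = 0 := fun x => by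
      rw [QuadraticMap.polar_self, two_smul, ← two_mul, h2, zero_mul]
    have hneg : ∀ x : Matrix ι ι F, -x = x := fun x => by ext i j; rw [Matrix.neg_apply, CharTwo.neg_eq]
    -- square roots
    let sqf : K → K := fun x => x * x
    have hsqf : Function.Bijective sqf := by
      refine Finite.injective_iff_bijective.1 fun a b hab => ?_
      have hab' : (a : Matrix ι ι F) * a = (b : Matrix ι ι F) * b := congrArg Subtype.val hab
      have h : ((a : Matrix ι ι F) + b) * ((a : Matrix ι ι F) + b) = 0 := by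
        rw [add_mul, mul_add, mul_add, hK.comm (b : Matrix ι ι F) b.2 a a.2, hab']
        calc _ = ((b : Matrix ι ι F) * b + (a : Matrix ι ι F) * b) + ((b : Matrix ι ι F) * b + (a : Matrix ι ι F) * b) := by abel
          _ = 0 := by
            conv_lhs => arg 2; rw [← hneg ((b : Matrix ι ι F) * b + (a : Matrix ι ι F) * b)]
            exact add_neg_cancel _
      by_contra hne
      have hab0 : (a : Matrix ι ι F) + b ≠ 0 := fun h0 => hne (Subtype.ext (by
        rw [eq_neg_of_add_eq_zero_left h0, hneg]))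
      obtain ⟨y, hy, hy1⟩ := hK.inv _ (add_mem a.2 b.2) hab0
      have e := congrArg (· * y) h
      simp only [mul_assoc, hy1, mul_one, zero_mul] at e
      exact hab0 e
    have hiso : ∀ u : Vec, ∀ k ∈ K, B (k *ᵥ u) u = 0 := by
      intro u k hk
      obtain ⟨l, hl⟩ := hsqf.2 ⟨k, hk⟩
      have hl' : (l : Matrix ι ι F) * l = k := congrArg Subtype.val hl
      rw [← hl', ← hBKK l l.2 l l.2, hself]
    have hisoV : ∀ u : Vec, ∀ k ∈ K, ∀ l ∈ K, B (k *ᵥ u) (l *ᵥ u) = 0 := fun u k hk l hl => by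
      rw [hBKK k hk l hl]; exact hiso u _ (mul_mem hk hl)
    have hv00 : v₀ ≠ 0 := fun h => hv₀ (by rw [h, QuadraticMap.map_zero])
    obtain ⟨w, hvw⟩ := Forms.Max.Orth.exists_ne hQ hv00
    have hw0 : w ≠ 0 := fun h => hvw (by rw [h, QuadraticMap.polar_zero_right])
    have hinf : orbit K v₀ ⊓ orbit K w = ⊥ := by
      rw [eq_bot_iff]
      rintro x ⟨⟨k, hk, hkx⟩, ⟨l, hl, hlx⟩⟩
      change k *ᵥ v₀ = x at hkx
      change l *ᵥ w = x at hlx
      rw [Submodule.mem_bot, ← hkx]
      by_contra hk0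
      obtain ⟨y, hy, hky⟩ := hK.inv k hk fun h => hk0 (by simp [h])
      apply hvw
      have e : v₀ = (y * l) *ᵥ w := by
        rw [← Matrix.mulVec_mulVec, hlx, ← hkx, Matrix.mulVec_mulVec, hK.comm y hy k hk, hky, Matrix.one_mulVec]
      rw [e]
      exact hiso w _ (mul_mem hy hl)
    have htop : orbit K v₀ ⊔ orbit K w = ⊤ := by
      apply Submodule.eq_top_of_finrank_eq
      have h := Submodule.finrank_sup_add_finrank_inf_eq (orbit K v₀) (orbit K w)
      rw [hinf, finrank_bot, add_zero, finrank_orbit hK hv00, finrank_orbit hK hw0] at h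
      rw [h, Module.finrank_fintype_fun_eq_card, hcard, two_mul]
    -- the values on a line as a linear functional of the squares
    have hlin : ∀ u : Vec, ∃ φ : K →ₗ[F] F, ∀ k : K, φ (k * k) = Q ((k : Matrix ι ι F) *ᵥ u) := by
      intro u
      choose rt hrt using hsqf.2
      have hrt' : ∀ k : K, rt (k * k) = k := fun k => hsqf.1 (hrt _)
      suffices hh : (∀ x y : K, Q ((rt (x + y) : Matrix ι ι F) *ᵥ u) =
          Q ((rt x : Matrix ι ι F) *ᵥ u) + Q ((rt y : Matrix ι ι F) *ᵥ u)) ∧
          ∀ (c : F) (x : K), Q ((rt (c • x) : Matrix ι ι F) *ᵥ u) = c * Q ((rt x : Matrix ι ι F) *ᵥ u) by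
        refine ⟨{ toFun := fun x => Q ((rt x : Matrix ι ι F) *ᵥ u)
                  map_add' := hh.1
                  map_smul' := hh.2 }, fun k => ?_⟩
        show Q ((rt (k * k) : Matrix ι ι F) *ᵥ u) = _
        rw [hrt']
      refine ⟨fun x y => ?_, fun c x => ?_⟩
      · have h : rt (x + y) = rt x + rt y := hsqf.1 (by
          rw [show sqf (rt (x + y)) = x + y from hrt _]
          apply Subtype.ext
          show ((x : Matrix ι ι F) + y) = ((rt x : Matrix ι ι F) + rt y) * ((rt x : Matrix ι ι F) + rt y)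
          rw [add_mul, mul_add, mul_add, hK.comm _ (rt y).2 _ (rt x).2,
            show (rt x : Matrix ι ι F) * rt x = x from congrArg Subtype.val (hrt x),
            show (rt y : Matrix ι ι F) * rt y = y from congrArg Subtype.val (hrt y)]
          conv_rhs => rw [add_assoc, ← add_assoc ((rt x : Matrix ι ι F) * rt y)]
          conv_rhs => arg 2; arg 1; arg 2; rw [← hneg ((rt x : Matrix ι ι F) * rt y)]
          rw [add_neg_cancel, zero_add])
        rw [h, AddMemClass.coe_add, Matrix.add_mulVec, qadd, hisoV u _ (rt x).2 _ (rt y).2, add_zero]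
      · obtain ⟨d, hd⟩ := exists_sq_eq h2 c
        have h : rt (c • x) = d • rt x := hsqf.1 (by
          rw [show sqf (rt (c • x)) = c • x from hrt _]
          apply Subtype.ext
          show c • (x : Matrix ι ι F) = d • (rt x : Matrix ι ι F) * (d • (rt x : Matrix ι ι F))
          rw [Matrix.smul_mul, Matrix.mul_smul, smul_smul, ← sq, hd,
            show (rt x : Matrix ι ι F) * rt x = x from congrArg Subtype.val (hrt x)])
        rw [h, SetLike.val_smul, Matrix.smul_mulVec, QuadraticMap.map_smul, smul_eq_mul, ← sq, hd]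
    obtain ⟨φv, hφv⟩ := hlin v₀
    obtain ⟨φw, hφw⟩ := hlin w
    obtain ⟨γ, hγ, hγ'⟩ := exists_riesz hQ hK hadjK (a := w) (b := v₀)
      ⟨1, one_mem K, by rwa [Matrix.one_mulVec, QuadraticMap.polar_comm]⟩ φv
    obtain ⟨β, hβ, hβ'⟩ := exists_riesz hQ hK hadjK (a := v₀) (b := w)
      ⟨1, one_mem K, by rwa [Matrix.one_mulVec]⟩ φw
    have hQv : ∀ k ∈ K, Q (k *ᵥ v₀) = B ((k * k * γ) *ᵥ w) v₀ := fun k hk => by
      rw [← hφv ⟨k, hk⟩, hγ']; rfl
    have hQw : ∀ k ∈ K, Q (k *ᵥ w) = B ((k * k * β) *ᵥ v₀) w := fun k hk => by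
      rw [← hφw ⟨k, hk⟩, hβ']; rfl
    obtain ⟨a, haK, hav, haw⟩ := exists_commuting hK htop hcard (γ *ᵥ w) (β *ᵥ v₀ + w)
    have hQa : ∀ x : Vec, B (a *ᵥ x) x = Q x := by
      intro x
      have hx : x ∈ orbit K v₀ ⊔ orbit K w := htop ▸ Submodule.mem_top
      obtain ⟨_, ⟨k, hk, rfl⟩, _, ⟨l, hl, rfl⟩, rfl⟩ := Submodule.mem_sup.1 hx
      show B (a *ᵥ (k *ᵥ v₀ + l *ᵥ w)) (k *ᵥ v₀ + l *ᵥ w) = Q (k *ᵥ v₀ + l *ᵥ w)
      rw [Matrix.mulVec_add, Matrix.mulVec_mulVec _ a k, haK k hk, ← Matrix.mulVec_mulVec, hav,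
        Matrix.mulVec_mulVec _ a l, haK l hl, ← Matrix.mulVec_mulVec, haw, Matrix.mulVec_add,
        Matrix.mulVec_mulVec w k γ, Matrix.mulVec_mulVec v₀ l β, qadd, hQv k hk, hQw l hl]
      simp only [QuadraticMap.polar_add_left, QuadraticMap.polar_add_right,
        hisoV w _ (mul_mem hk hγ) l hl, hisoV w l hl l hl, hisoV v₀ _ (mul_mem hl hβ) k hk]
      rw [hBKK _ (mul_mem hk hγ) k hk, hBKK _ (mul_mem hl hβ) l hl,
        QuadraticMap.polar_comm (⇑Q) (l *ᵥ w) (k *ᵥ v₀),
        show k * γ * k = k * k * γ by rw [mul_assoc, hK.comm γ hγ k hk, ← mul_assoc],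
        show l * β * l = l * l * β by rw [mul_assoc, hK.comm β hβ l hl, ← mul_assoc]]
      ring
    have hadja : D.adj a = (1 : F) • 1 - a := by
      rw [one_smul]
      refine adj_eq_of_forall hQ fun x y => ?_
      rw [Matrix.sub_mulVec, Matrix.one_mulVec, QuadraticMap.polar_sub_right]
      have h := hQa (x + y)
      rw [Matrix.mulVec_add, QuadraticMap.polar_add_left, QuadraticMap.polar_add_right,
        QuadraticMap.polar_add_right, hQa, hQa, qadd, QuadraticMap.polar_comm (⇑Q) (a *ᵥ y) x] at h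
      linear_combination h
    refine pair_or_unitary_of_element hQ hn hH hirr hr hcard hK hadjK hconjK a haK (t := γ * β)
      (mul_mem hγ hβ) (one_mem K) ?_ hadja ?_ fun g hg => ?_
    · rw [one_mul]
      refine eq_of_agree htop (fun k hk => by rw [mul_assoc, haK k hk, ← mul_assoc, haK k hk, mul_assoc])
        (fun k hk => by
          rw [add_mul, mul_add, haK k hk]
          congr 1
          exact hK.comm _ (mul_mem hγ hβ) k hk) ?_ ?_
      · rw [← Matrix.mulVec_mulVec, hav, Matrix.mulVec_mulVec, haK γ hγ, ← Matrix.mulVec_mulVec, haw,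
          Matrix.add_mulVec, hav, Matrix.mulVec_add, Matrix.mulVec_mulVec]
      · rw [← Matrix.mulVec_mulVec, haw, Matrix.mulVec_add, Matrix.mulVec_mulVec, haK β hβ,
          ← Matrix.mulVec_mulVec, hav, haw, Matrix.add_mulVec, haw, Matrix.mulVec_mulVec, hK.comm β hβ γ hγ]
    · rw [h2, zero_smul, one_smul, zero_sub, hneg]
      exact one_ne_zero
    · set a' := conjMat g a with ha'
      have ha'K := hconjcomm g hg haK
      have hQa' : ∀ x : Vec, B (a' *ᵥ x) x = Q x := by
        intro x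
        obtain ⟨u, rfl⟩ : ∃ u, (g : Matrix ι ι F) *ᵥ u = x :=
          ⟨((g⁻¹ : GL ι F) : Matrix ι ι F) *ᵥ x, by
            rw [Matrix.mulVec_mulVec, Units.mul_inv, Matrix.one_mulVec]⟩
        rw [ha', conjMat_mulVec, polar_of_mem (hH hg), hQa, mem_evIso.1 (hH hg)]
      set x := a' - a with hx
      have hxK : ∀ k ∈ K, x * k = k * x := fun k hk => by rw [hx, sub_mul, mul_sub, ha'K k hk, haK k hk]
      have hx0 : ∀ u : Vec, B (x *ᵥ u) u = 0 := fun u => by
        rw [hx, Matrix.sub_mulVec, QuadraticMap.polar_sub_left, hQa', hQa, sub_self]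
      have hline : ∀ u : Vec, u ≠ 0 → ∃ α ∈ K, x *ᵥ u = α *ᵥ u := by
        intro u hu
        have hle : orbit K u ≤ Forms.Max.Orth.perp Q (orbit K u) := by
          rintro _ ⟨k, hk, rfl⟩
          refine Forms.Max.Orth.mem_perp.2 ?_
          rintro _ ⟨l, hl, rfl⟩
          exact hisoV u l hl k hk
        have heq : orbit K u = Forms.Max.Orth.perp Q (orbit K u) := by
          refine Submodule.eq_of_le_of_finrank_le hle ?_
          have h := Forms.Max.Orth.finrank_perp hQ (orbit K u)
          rw [finrank_orbit hK hu] at h ⊢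
          omega
        have hmem : x *ᵥ u ∈ Forms.Max.Orth.perp Q (orbit K u) := by
          refine Forms.Max.Orth.mem_perp.2 ?_
          rintro _ ⟨k, hk, rfl⟩
          show B (k *ᵥ u) (x *ᵥ u) = 0
          obtain ⟨l, hl⟩ := hsqf.2 ⟨k, hk⟩
          have hl' : (l : Matrix ι ι F) * l = k := congrArg Subtype.val hl
          rw [← hl', ← Matrix.mulVec_mulVec, hBK l l.2, QuadraticMap.polar_comm, Matrix.mulVec_mulVec,
            ← hxK l l.2, ← Matrix.mulVec_mulVec]
          exact hx0 _
        rw [← heq] at hmem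
        obtain ⟨α, hα, hαu⟩ := hmem
        exact ⟨α, hα, hαu.symm⟩
      obtain ⟨α, hα, hxv⟩ := hline v₀ hv00
      obtain ⟨δ, hδ, hxw⟩ := hline w hw0
      have hsum0 : v₀ + w ≠ 0 := fun h => by
        rw [eq_neg_of_add_eq_zero_left h] at hvw
        simp [QuadraticMap.polar_neg_left, hself] at hvw
      obtain ⟨ε, hε, hxs⟩ := hline (v₀ + w) hsum0
      rw [Matrix.mulVec_add, hxv, hxw, Matrix.mulVec_add] at hxs
      have hd : (α - ε) *ᵥ v₀ = (ε - δ) *ᵥ w := by
        rw [Matrix.sub_mulVec, Matrix.sub_mulVec, sub_eq_sub_iff_add_eq_add, hxs, add_comm]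
      have hz : (α - ε) *ᵥ v₀ = 0 := by
        have h : (α - ε) *ᵥ v₀ ∈ orbit K v₀ ⊓ orbit K w :=
          ⟨⟨_, sub_mem hα hε, rfl⟩, hd ▸ ⟨_, sub_mem hε hδ, rfl⟩⟩
        rwa [hinf, Submodule.mem_bot] at h
      have hαε : α = ε := sub_eq_zero.1 (mulVec_eq_zero_of_field hK (sub_mem hα hε) hz hv00)
      have hεδ : ε = δ := sub_eq_zero.1 (mulVec_eq_zero_of_field hK (sub_mem hε hδ) (hd ▸ hz) hw0)
      have hxα : x = α := eq_of_agree htop hxK (fun k hk => hK.comm α hα k hk) hxv
        (by rw [hxw, hαε, hεδ])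
      exact ⟨α, hα, 1, one_mem K, by rw [one_mul, ← hxα, hx, sub_add_cancel]⟩

end Cfsg.Agent.Aschbacher.Ev
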