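/-
Decompositions into small parts over small fields refine to lines, to planes or to a subfield.
-/
import Mathlib
import Cfsg.Agent.Aschbacher.Ev.Base
import Cfsg.Agent.Lib.Forms.Max.OrthFramesData

set_option autoImplicit false
set_option linter.style.haveILetI false
set_option linter.unusedSectionVars false

namespace Cfsg.Agent.Aschbacher.Ev

open Module Matrix
open Cfsg.Geo

variable {F : Type*} [Field F] [Fintype F] {ι : Type} [Fintype ι] [DecidableEq ι]
  {Q : QuadraticForm F (ι → F)} (hQ : (QuadraticMap.polarBilin Q).Nondegenerate) {H : Subgroup (GL ι F)}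
  (hH : H ≤ Cfsg.isometryGroup F (⇑Q)) (hirr : Irred H)

local notation "Vec" => (ι → F)
local notation "B" => QuadraticMap.polar Q

/-- `H` fixes a decomposition into pairwise isometric orthogonal lines. -/
def HasLines (Q : QuadraticForm F (ι → F)) (H : Subgroup (GL ι F)) : Prop :=
  ∃ E : Fin (Fintype.card ι) → Submodule F (ι → F),
    IsOrthogonalMDecomposition (⇑Q) 1 E ∧ H ≤ decompositionStabilizer E

lemma map_part {t : ℕ} {D : Fin t → Submodule F Vec} {g : GL ι F} {π : Equiv.Perm (Fin t)}
    (hπ : ∀ i, (D i).map (Matrix.toLin' (g : Matrix ι ι F)) = D (π i)) {i : Fin t} {v : Vec} (hv : v ∈ D i) :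
    (g : Matrix ι ι F) *ᵥ v ∈ D (π i) := by
  rw [← hπ i, ← Matrix.toLin'_apply]
  exact Submodule.mem_map_of_mem hv

include hH hirr in
/-- An invariant set of vectors of one value, pairwise equal up to sign or orthogonal. -/
theorem lines_of_set (hn : 2 ≤ Fintype.card ι) (h2 : (2 : F) ≠ 0) {S : Set Vec} {c : F} (hc : c ≠ 0)
    (hne : S.Nonempty) (hS : ∀ v ∈ S, Q v = c) (horth : ∀ u ∈ S, ∀ v ∈ S, v = u ∨ v = -u ∨ B u v = 0)
    (hinv : ∀ g ∈ H, ∀ v ∈ S, (g : Matrix ι ι F) *ᵥ v ∈ S) : HasLines Q H := by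
  classical
  let LS : Finset (Submodule F Vec) := (Set.toFinite ((fun v => Submodule.span F {v}) '' S)).toFinset
  have hLS : ∀ L, L ∈ LS ↔ ∃ v ∈ S, Submodule.span F {v} = L := fun L => by simp [LS]
  let f := LS.equivFin.symm
  have hv : ∀ i, ∃ v ∈ S, Submodule.span F {v} = ((f i : LS) : Submodule F Vec) := fun i =>
    (hLS _).1 (f i).2
  choose v hvS hvL using hv
  have hsame : ∀ i j, v j = v i ∨ v j = -v i → i = j := by
    intro i j h
    apply f.injective
    apply Subtype.ext
    rw [← hvL, ← hvL]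
    rcases h with h | h
    · rw [h]
    · rw [h, ← Set.neg_singleton, Submodule.span_neg]
  have ho : ∀ i j, i ≠ j → B (v i) (v j) = 0 := fun i j hij => by
    rcases horth _ (hvS i) _ (hvS j) with h | h | h
    · exact absurd (hsame i j (Or.inl h)) hij
    · exact absurd (hsame i j (Or.inr h)) hij
    · exact h
  have hself : ∀ i, B (v i) (v i) ≠ 0 := fun i => by
    rw [QuadraticMap.polar_self, hS _ (hvS i), two_smul, ← two_mul]
    exact mul_ne_zero h2 hc
  have hli : LinearIndependent F v := by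
    rw [linearIndependent_iff']
    intro s a ha i hi
    have h1 := congrArg (fun z => B (v i) z) ha
    simp only [QuadraticMap.polar_zero_right] at h1
    have h3 : B (v i) (∑ x ∈ s, a x • v x) = QuadraticMap.polarBilin Q (v i) (∑ x ∈ s, a x • v x) := rfl
    rw [h3, map_sum, Finset.sum_eq_single i] at h1
    · simp only [map_smul, QuadraticMap.polarBilin_apply_apply, smul_eq_mul] at h1
      exact (mul_eq_zero.1 h1).resolve_right (hself i)
    · intro j _ hj
      simp [ho i j (Ne.symm hj)]
    · exact fun h => absurd hi h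
  have hne0 : ∀ i, v i ≠ 0 := fun i => hli.ne_zero i
  have hperm : ∀ g ∈ H, ∀ i, ∃ j, (g : Matrix ι ι F) *ᵥ v i = v j ∨ (g : Matrix ι ι F) *ᵥ v i = -v j := by
    intro g hg i
    have hgv := hinv g hg _ (hvS i)
    set j := f.symm ⟨_, (hLS _).2 ⟨_, hgv, rfl⟩⟩ with hj
    refine ⟨j, ?_⟩
    rcases horth _ (hvS j) _ hgv with h | h | h
    · exact Or.inl h
    · exact Or.inr h
    · exfalso
      have hm : v j ∈ Submodule.span F {(g : Matrix ι ι F) *ᵥ v i} := by
        have h3 : Submodule.span F {v j} = Submodule.span F {(g : Matrix ι ι F) *ᵥ v i} := by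
          rw [hvL, hj, Equiv.apply_symm_apply]
        rw [← h3]
        exact Submodule.mem_span_singleton_self _
      obtain ⟨a, ha⟩ := Submodule.mem_span_singleton.1 hm
      refine hself j ?_
      conv_lhs => arg 3; rw [← ha]
      rw [QuadraticMap.polar_smul_right, h, smul_zero]
  have hspan : Submodule.span F (Set.range v) = ⊤ := by
    have hW : ∀ g ∈ H, ∀ x ∈ Submodule.span F (Set.range v),
        (g : Matrix ι ι F) *ᵥ x ∈ Submodule.span F (Set.range v) := by
      intro g hg x hx
      induction hx using Submodule.span_induction with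
      | mem y hy =>
        obtain ⟨i, rfl⟩ := hy
        obtain ⟨j, hj | hj⟩ := hperm g hg i <;> rw [hj]
        · exact Submodule.subset_span ⟨j, rfl⟩
        · exact neg_mem (Submodule.subset_span ⟨j, rfl⟩)
      | zero => rw [Matrix.mulVec_zero]; exact zero_mem _
      | add y z _ _ hy hz => rw [Matrix.mulVec_add]; exact add_mem hy hz
      | smul a y _ hy => rw [Matrix.mulVec_smul]; exact Submodule.smul_mem _ a hy
    obtain ⟨u, hu⟩ := hne
    obtain ⟨i, hi⟩ : ∃ i, v i ≠ 0 := ⟨f.symm ⟨_, (hLS _).2 ⟨u, hu, rfl⟩⟩, hne0 _⟩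
    exact hirr.eq_top hW (Submodule.subset_span ⟨i, rfl⟩) hi
  have hN : LS.card = Fintype.card ι := by
    have h := finrank_span_eq_card hli
    rw [hspan, finrank_top, Module.finrank_fintype_fun_eq_card, Fintype.card_fin] at h
    exact h.symm
  let σ : Fin (Fintype.card ι) ≃ Fin LS.card := finCongr hN.symm
  let w := v ∘ σ
  have hwli : LinearIndependent F w := hli.comp σ σ.injective
  refine ⟨fun a => Submodule.span F {w a},
    ⟨⟨⟨hn, one_pos, fun a => finrank_span_singleton (hne0 _), hwli.iSupIndep_span_singleton, ?_⟩,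
      fun a => ?_, ?_⟩, fun a b => ?_⟩, ?_⟩
  · rw [eq_top_iff, ← hspan]
    refine Submodule.span_le.2 ?_
    rintro _ ⟨i, rfl⟩
    refine Submodule.mem_iSup_of_mem (σ.symm i) ?_
    show v i ∈ Submodule.span F {v (σ (σ.symm i))}
    rw [Equiv.apply_symm_apply]
    exact Submodule.mem_span_singleton_self _
  · refine NonDeg.isNondegenerateOn fun r hr hr0 => ?_
    obtain ⟨x, rfl⟩ := Submodule.mem_span_singleton.1 hr
    refine ⟨w a, Submodule.mem_span_singleton_self _, ?_⟩
    rw [QuadraticMap.polar_smul_left, smul_eq_mul]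
    exact mul_ne_zero (fun h => hr0 (by rw [h, zero_smul])) (hself _)
  · intro a b hab x hx y hy
    obtain ⟨p, rfl⟩ := Submodule.mem_span_singleton.1 hx
    obtain ⟨q, rfl⟩ := Submodule.mem_span_singleton.1 hy
    rw [QuadraticMap.polar_smul_left, QuadraticMap.polar_smul_right,
      show B (w a) (w b) = 0 from ho _ _ (fun h => hab (σ.injective h)), smul_zero, smul_zero]
  · refine ⟨(LinearEquiv.toSpanNonzeroSingleton F Vec (w a) (hne0 _)).symm.trans
      (LinearEquiv.toSpanNonzeroSingleton F Vec (w b) (hne0 _)), fun x => ?_⟩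
    obtain ⟨p, hp⟩ := (LinearEquiv.toSpanNonzeroSingleton F Vec (w a) (hne0 _)).surjective x
    subst hp
    rw [LinearEquiv.trans_apply, LinearEquiv.symm_apply_apply]
    show Q (p • v (σ b)) = Q (p • v (σ a))
    rw [QuadraticMap.map_smul, QuadraticMap.map_smul, hS _ (hvS _), hS _ (hvS _)]
  · intro g hg
    choose π hπ using hperm g hg
    have hinjπ : Function.Injective π := by
      intro i j hij
      apply hsame
      have hgi : Function.Injective fun z : Vec => (g : Matrix ι ι F) *ᵥ z :=
        Matrix.mulVec_injective_iff_isUnit.2 g.isUnit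
      rcases hπ i with h | h <;> rcases hπ j with h' | h' <;> rw [hij] at h
      · exact Or.inl (hgi (h'.trans h.symm))
      · exact Or.inr (hgi (by show _ *ᵥ _ = _ *ᵥ _; rw [Matrix.mulVec_neg, h', h]))
      · exact Or.inr (hgi (by show _ *ᵥ _ = _ *ᵥ _; rw [Matrix.mulVec_neg, h', h, neg_neg]))
      · exact Or.inl (hgi (h'.trans h.symm))
    let π' : Equiv.Perm (Fin (Fintype.card ι)) :=
      σ.trans ((Equiv.ofBijective π (Finite.injective_iff_bijective.1 hinjπ)).trans σ.symm)
    refine ⟨π', fun a => ?_⟩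
    show (Submodule.span F {w a}).map _ = Submodule.span F {v (σ (σ.symm (π (σ a))))}
    rw [Submodule.map_span, Set.image_singleton, Matrix.toLin'_apply, Equiv.apply_symm_apply]
    rcases hπ (σ a) with h | h
    · rw [show w a = v (σ a) from rfl, h]
    · rw [show w a = v (σ a) from rfl, h, ← Set.neg_singleton, Submodule.span_neg]

include hH hirr in
/-- Parts with frame vectors give lines. -/
theorem lines_of_frameVec (hn : 2 ≤ Fintype.card ι) (h2 : (2 : F) ≠ 0) {t k : ℕ}
    {D : Fin t → Submodule F Vec} (hD : IsOrthogonalMDecomposition (⇑Q) k D)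
    (hle : H ≤ decompositionStabilizer D) {i₀ : Fin t} {c : F} {e : Vec} (hc : c ≠ 0)
    (he : Forms.Max.Orth.IsFrameVec Q (D i₀) c e) : HasLines Q H := by
  classical
  refine lines_of_set hH hirr hn h2 (S := {v | ∃ i, Forms.Max.Orth.IsFrameVec Q (D i) c v}) hc ⟨e, i₀, he⟩
    (fun v ⟨i, hv⟩ => hv.2.1) ?_ ?_
  · rintro u ⟨i, hu⟩ v ⟨j, hv⟩
    by_cases hij : i = j
    swap
    · exact Or.inr (Or.inr (hD.decomp.orthogonal i j hij u hu.1 v hv.1))
    subst hij
    exact hu.2.2 v hv.1 hv.2.1
  · rintro g hg v ⟨i, hv⟩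
    obtain ⟨π, hπ⟩ := hle hg
    refine ⟨π i, map_part hπ hv.1, by rw [mem_evIso.1 (hH hg)]; exact hv.2.1, fun x hx hQx => ?_⟩
    rw [← hπ i] at hx
    obtain ⟨y, hy, rfl⟩ := hx
    rw [Matrix.toLin'_apply] at hQx ⊢
    rw [mem_evIso.1 (hH hg)] at hQx
    rcases hv.2.2 y hy hQx with h | h | h
    · exact Or.inl (by rw [h])
    · exact Or.inr (Or.inl (by rw [h, Matrix.mulVec_neg]))
    · exact Or.inr (Or.inr (by rw [polar_of_mem (hH hg)]; exact h))

include hQ hH hirr in
/-- Over three elements parts of dimension two or three give lines. -/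
theorem lines_of_three (hn : 2 ≤ Fintype.card ι) (h2 : (2 : F) ≠ 0) (hq : Fintype.card F = 3) {t k : ℕ}
    {D : Fin t → Submodule F Vec} (hD : IsOrthogonalMDecomposition (⇑Q) k D) (hk : k = 2 ∨ k = 3)
    (hle : H ≤ decompositionStabilizer D) : HasLines Q H := by
  let i₀ : Fin t := ⟨0, by have := hD.decomp.decomp.two_le; omega⟩
  obtain ⟨e, c, hc, he⟩ := Forms.Max.Orth.exists_frame_three hQ h2 hq (nonDeg_parts hD i₀)
    (by rw [hD.decomp.decomp.finrank_eq]; exact hk)
  exact lines_of_frameVec hH hirr hn h2 hD hle hc he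

include hH hirr in
/-- Over five elements planes of plus type give lines. -/
theorem lines_of_five (hn : 2 ≤ Fintype.card ι) (h2 : (2 : F) ≠ 0) (hq : Fintype.card F = 5) {t : ℕ}
    {D : Fin t → Submodule F Vec} (hD : IsOrthogonalMDecomposition (⇑Q) 2 D) (i₀ : Fin t)
    (hplus : IsPlusTypeOn (⇑Q) (D i₀)) (hle : H ≤ decompositionStabilizer D) : HasLines Q H := by
  obtain ⟨e, he⟩ := Forms.Max.Orth.exists_frame_five hq (hD.decomp.decomp.finrank_eq i₀)
    (nonDeg_parts hD i₀) hplus
  exact lines_of_frameVec hH hirr hn h2 hD hle one_ne_zero he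

include hH hirr in
/-- Over two elements no irreducible group fixes a decomposition into planes of plus type. -/
theorem false_of_planes_two (hq : Fintype.card F = 2) {t : ℕ} {D : Fin t → Submodule F Vec}
    (hD : IsOrthogonalMDecomposition (⇑Q) 2 D) (hplus : ∀ i, IsPlusTypeOn (⇑Q) (D i))
    (hle : H ≤ decompositionStabilizer D) : False := by
  classical
  have h01 : ∀ x : F, x ≠ 0 → x = 1 := fun x hx => by
    simpa [hq] using FiniteField.pow_card_sub_one_eq_one x hx
  have hw : ∀ i, ∃ w, w ∈ D i ∧ Q w = 1 ∧ ∀ v ∈ D i, Q v = 1 → v = w := by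
    intro i
    obtain ⟨a, b, ha, hb, hp, hco⟩ := Forms.Max.Orth.plane_pair (hD.decomp.decomp.finrank_eq i)
      (nonDeg_parts hD i) (hplus i)
    refine ⟨a + b, add_mem ha hb, by rw [qadd, hp.hu, hp.hv, hp.huv, zero_add, zero_add], fun v hv hQv => ?_⟩
    obtain ⟨x, y, rfl⟩ := hco v hv
    rw [Classical.Orth.pair_value hp] at hQv
    rw [h01 x (left_ne_zero_of_mul_eq_one hQv), h01 y (right_ne_zero_of_mul_eq_one hQv), one_smul, one_smul]
  choose w hwD hwQ hwu using hw
  have hW : ∀ g ∈ H, ∀ x ∈ Submodule.span F (Set.range w),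
      (g : Matrix ι ι F) *ᵥ x ∈ Submodule.span F (Set.range w) := by
    intro g hg x hx
    induction hx using Submodule.span_induction with
    | mem y hy =>
      obtain ⟨i, rfl⟩ := hy
      obtain ⟨π, hπ⟩ := hle hg
      rw [hwu (π i) _ (map_part hπ (hwD i)) (by rw [mem_evIso.1 (hH hg)]; exact hwQ i)]
      exact Submodule.subset_span ⟨π i, rfl⟩
    | zero => rw [Matrix.mulVec_zero]; exact zero_mem _
    | add y z _ _ hy hz => rw [Matrix.mulVec_add]; exact add_mem hy hz
    | smul a y _ hy => rw [Matrix.mulVec_smul]; exact Submodule.smul_mem _ a hy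
  have ht := hD.decomp.decomp.two_le
  let i₀ : Fin t := ⟨0, by omega⟩
  have htop := hirr.eq_top hW (Submodule.subset_span ⟨i₀, rfl⟩) fun h => by
    have h1 := hwQ i₀
    rw [h, QuadraticMap.map_zero] at h1
    exact zero_ne_one h1
  have h := finrank_range_le_card (R := F) w
  rw [Set.finrank, htop, finrank_top, Module.finrank_fintype_fun_eq_card,
    card_eq_of_decomposition hD.decomp.decomp, Fintype.card_fin] at h
  omega

include hQ hH hirr in
/-- Over four elements planes of plus type give a subfield group. -/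
theorem inEvSubfield_of_planes_four (hn : 2 ≤ Fintype.card ι) (hq : Fintype.card F = 4) {t : ℕ}
    {D : Fin t → Submodule F Vec} (hD : IsOrthogonalMDecomposition (⇑Q) 2 D)
    (hplus : ∀ i, IsPlusTypeOn (⇑Q) (D i)) (hle : H ≤ decompositionStabilizer D) : InEvSubfield Q H := by
  classical
  have h2 : (2 : F) = 0 := by
    by_contra h
    have h1 := odd_card_iff.2 h
    rw [hq] at h1
    exact absurd h1 (by decide)
  haveI : CharP F 2 := CharTwo.of_one_ne_zero_of_two_eq_zero one_ne_zero h2
  obtain ⟨ω, hω0, hω1⟩ : ∃ ω : F, ω ≠ 0 ∧ ω ≠ 1 := by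
    by_contra h
    push Not at h
    have h1 : (Finset.univ : Finset F) ⊆ {0, 1} := fun x _ => by
      by_cases hx : x = 0
      · simp [hx]
      · simp [h x hx]
    have h3 := Finset.card_le_card h1
    rw [Finset.card_univ, hq] at h3
    exact absurd (h3.trans Finset.card_le_two) (by norm_num)
  have hω : ω ^ 2 + ω + 1 = 0 := by
    have h := FiniteField.pow_card_sub_one_eq_one ω hω0
    rw [hq] at h
    have h1 : (ω - 1) * (ω ^ 2 + ω + 1) = 0 := by
      norm_num at h
      linear_combination h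
    exact (mul_eq_zero.1 h1).resolve_left (sub_ne_zero.2 hω1)
  choose a b ha hb hp hco using fun i => Forms.Max.Orth.plane_pair (hD.decomp.decomp.finrank_eq i)
    (nonDeg_parts hD i) (hplus i)
  let vec : Fin t × Fin 2 → Vec := fun p =>
    if p.2 = 0 then a p.1 + b p.1 else ω • a p.1 + (ω ^ 2) • b p.1
  have hvecD : ∀ p, vec p ∈ D p.1 := fun p => by
    simp only [vec]
    split_ifs
    · exact add_mem (ha _) (hb _)
    · exact add_mem (Submodule.smul_mem _ _ (ha _)) (Submodule.smul_mem _ _ (hb _))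
  have hvecQ : ∀ p, Q (vec p) = 1 := fun p => by
    simp only [vec]
    split_ifs
    · rw [qadd, (hp p.1).hu, (hp p.1).hv, (hp p.1).huv, zero_add, zero_add]
    · rw [Classical.Orth.pair_value (hp p.1)]
      linear_combination (ω - 1) * hω
  have hvals : ∀ i, ∀ v ∈ D i, Q v = 1 → ∃ c₀ c₁ : F, (c₀ = 0 ∨ c₀ = 1) ∧ (c₁ = 0 ∨ c₁ = 1) ∧
      v = c₀ • vec (i, 0) + c₁ • vec (i, 1) := by
    intro i v hv hQv
    obtain ⟨x, y, rfl⟩ := hco i v hv
    rw [Classical.Orth.pair_value (hp i)] at hQv
    have hx : x ≠ 0 := left_ne_zero_of_mul_eq_one hQv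
    have hy : y = x ^ 2 := by
      have h := FiniteField.pow_card_sub_one_eq_one x hx
      rw [hq] at h
      norm_num at h
      apply mul_left_cancel₀ hx
      rw [hQv, ← h]
      ring
    have hcases : x = 1 ∨ x = ω ∨ x = ω ^ 2 := by
      have h := FiniteField.pow_card_sub_one_eq_one x hx
      rw [hq] at h
      norm_num at h
      have h1 : (x - 1) * ((x - ω) * (x - ω ^ 2)) = 0 := by
        linear_combination h + (-x * x + x * ω - ω + 1) * hω
      rcases mul_eq_zero.1 h1 with h | h
      · exact Or.inl (sub_eq_zero.1 h)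
      rcases mul_eq_zero.1 h with h | h
      · exact Or.inr (Or.inl (sub_eq_zero.1 h))
      · exact Or.inr (Or.inr (sub_eq_zero.1 h))
    rcases hcases with rfl | rfl | rfl
    · exact ⟨1, 0, Or.inr rfl, Or.inl rfl, by simp [vec, hy]⟩
    · exact ⟨0, 1, Or.inl rfl, Or.inr rfl, by simp [vec, hy]⟩
    · refine ⟨1, 1, Or.inr rfl, Or.inr rfl, ?_⟩
      have e1 : (1 : F) + ω = ω ^ 2 := by linear_combination hω - ω ^ 2 * h2
      have e2 : (1 : F) + ω ^ 2 = (ω ^ 2) ^ 2 := by linear_combination -(ω ^ 2 - ω - 1) * hω - ω * h2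
      rw [hy]
      simp only [vec, if_pos, one_smul, show ¬ (1 : Fin 2) = 0 by decide, if_false]
      rw [← e2, ← e1, add_smul, add_smul, one_smul, one_smul]
      abel
  have hspan : Submodule.span F (Set.range vec) = ⊤ := by
    rw [eq_top_iff, ← hD.decomp.decomp.iSup_eq_top]
    refine iSup_le fun i v hv => ?_
    obtain ⟨x, y, rfl⟩ := hco i v hv
    have hu : a i + b i ∈ Submodule.span F (Set.range vec) :=
      Submodule.subset_span ⟨(i, 0), by simp [vec]⟩
    have hw : ω • a i + (ω ^ 2) • b i ∈ Submodule.span F (Set.range vec) :=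
      Submodule.subset_span ⟨(i, 1), by simp [vec]⟩
    have hbm : b i ∈ Submodule.span F (Set.range vec) := by
      have e : b i = ω • (a i + b i) + (ω • a i + (ω ^ 2) • b i) := by
        funext j
        simp only [Pi.add_apply, Pi.smul_apply, smul_eq_mul]
        linear_combination -(b i j) * hω + (b i j - ω * a i j) * h2
      rw [e]
      exact add_mem (Submodule.smul_mem _ _ hu) hw
    have ham : a i ∈ Submodule.span F (Set.range vec) := by
      have := sub_mem hu hbm
      rwa [add_sub_cancel_right] at this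
    exact add_mem (Submodule.smul_mem _ _ ham) (Submodule.smul_mem _ _ hbm)
  have hcard : Fintype.card (Fin t × Fin 2) = Fintype.card ι := by
    rw [Fintype.card_prod, Fintype.card_fin, Fintype.card_fin, card_eq_of_decomposition hD.decomp.decomp]
  let e : ι ≃ Fin t × Fin 2 := (Fintype.equivOfCardEq hcard).symm
  have hli : LinearIndependent F vec := linearIndependent_of_top_le_span_of_card_eq_finrank hspan.ge
    (by rw [hcard, Module.finrank_fintype_fun_eq_card])
  set Pm : Matrix ι ι F := Matrix.of fun x i => vec (e i) x with hPm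
  have hPu : IsUnit Pm := Matrix.linearIndependent_cols_iff_isUnit.1 (hli.comp e e.injective)
  set P : GL ι F := hPu.unit with hP
  have hbin : ∀ c : F, (c = 0 ∨ c = 1) → c ∈ (⊥ : Subfield F) := fun c hc => by
    rcases hc with rfl | rfl
    · exact zero_mem _
    · exact one_mem _
  have hle1 : H ≤ subfieldSubgroup (⊥ : Subfield F) P := by
    intro g hg
    obtain ⟨π, hπ⟩ := hle hg
    have hc : ∀ j, ∃ c : Fin 2 → F, (∀ l, c l = 0 ∨ c l = 1) ∧
        (g : Matrix ι ι F) *ᵥ vec j = c 0 • vec (π j.1, 0) + c 1 • vec (π j.1, 1) := fun j => by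
      obtain ⟨c₀, c₁, h0, h1, h⟩ := hvals (π j.1) _ (map_part hπ (hvecD j))
        (by rw [mem_evIso.1 (hH hg)]; exact hvecQ j)
      exact ⟨![c₀, c₁], fun l => by fin_cases l <;> assumption, h⟩
    choose c hc01 hcv using hc
    refine mem_subfieldSubgroup_of_mul_eq
      (Matrix.of fun i j => if (e i).1 = π (e j).1 then c (e j) (e i).2 else 0) (fun i j => ?_) ?_
    · simp only [Matrix.of_apply]
      split_ifs
      · exact hbin _ (hc01 _ _)
      · exact zero_mem _
    · ext x j
      show ((g : Matrix ι ι F) *ᵥ vec (e j)) x = _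
      rw [hcv, Matrix.mul_apply, ← e.symm.sum_comp, Fintype.sum_prod_type,
        Finset.sum_eq_single (π (e j).1) ?_ (by simp)]
      · simp [hP, hPm, Fin.sum_univ_two, mul_comm]
      · intro l _ hl
        simp [hl]
  refine inEvSubfield_of_formRational hQ hn hH hirr Nat.prime_two (F₁ := (⊥ : Subfield F)) (P := P) ?_
    one_ne_zero (fun u w hu hw => ?_) hle1
  · haveI : Fact (Nat.Prime 2) := ⟨Nat.prime_two⟩
    rw [show Nat.card (⊥ : Subfield F) = 2 from Subfield.card_bot F 2, hq]
    norm_num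
  · rw [one_mul, polar_spec Q, sesqForm_mulVec]
    refine sum_mem fun i _ => mul_mem (hu i) (sum_mem fun j _ => mul_mem ?_ (hw j))
    rw [show (P : Matrix ι ι F).map (RingHom.id F) = (P : Matrix ι ι F) from Matrix.map_id _]
    have e1 : ((P : Matrix ι ι F)ᵀ * gramMatrix (QuadraticMap.polar (⇑Q)) * (P : Matrix ι ι F)) i j =
        (evData hQ).form (vec (e i)) (vec (e j)) := by rw [mul_assoc]; rfl
    show ((P : Matrix ι ι F)ᵀ * gramMatrix (QuadraticMap.polar (⇑Q)) * (P : Matrix ι ι F)) i j ∈ _
    rw [e1, evData_form]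
    by_cases hij : (e i).1 = (e j).1
    · generalize e i = p at hij ⊢
      generalize e j = p' at hij ⊢
      obtain ⟨i', l⟩ := p
      obtain ⟨j', l'⟩ := p'
      obtain rfl : i' = j' := hij
      have haa := Classical.Orth.polar_self_zero (hp i').hu
      have hbb := Classical.Orth.polar_self_zero (hp i').hv
      refine hbin _ ?_
      fin_cases l <;> fin_cases l' <;>
        simp [vec, QuadraticMap.polar_add_left, QuadraticMap.polar_add_right, QuadraticMap.polar_smul_left,
          QuadraticMap.polar_smul_right, (hp i').huv, (hp i').hvu, haa, hbb, h2, QuadraticMap.polar_self] <;>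
        first
          | (left; linear_combination h2)
          | (right; linear_combination hω - h2)
          | (left; linear_combination (ω ^ 3) * h2)
    · rw [hD.decomp.orthogonal _ _ hij _ (hvecD _) _ (hvecD _)]
      exact zero_mem _

lemma part_perp {W X : Submodule F Vec} (hW : NonDeg Q W) (hX : NonDeg Q X) (hWX : W ≤ X)
    (hQ : (QuadraticMap.polarBilin Q).Nondegenerate) :
    NonDeg Q (X ⊓ Forms.Max.Orth.perp Q W) ∧ W ⊔ X ⊓ Forms.Max.Orth.perp Q W = X ∧
      finrank F W + finrank F ↥(X ⊓ Forms.Max.Orth.perp Q W) = finrank F X := by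
  have hsplit : W ⊔ X ⊓ Forms.Max.Orth.perp Q W = X := by
    rw [inf_comm, ← sup_inf_assoc_of_le _ hWX, sup_perp hQ hW, top_inf_eq]
  have ho : ∀ x ∈ W, ∀ y ∈ X ⊓ Forms.Max.Orth.perp Q W, B x y = 0 :=
    fun x hx y hy => Forms.Max.Orth.mem_perp.1 hy.2 x hx
  refine ⟨fun r hr hr0 => ?_, hsplit, ?_⟩
  · obtain ⟨z, hz, hrz⟩ := hX r hr.1 hr0
    rw [← hsplit] at hz
    obtain ⟨p, hp, w, hw, rfl⟩ := Submodule.mem_sup.1 hz
    refine ⟨w, hw, ?_⟩
    rwa [QuadraticMap.polar_add_right, QuadraticMap.polar_comm (⇑Q) r p, ho p hp r hr, zero_add] at hrz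
  · have h := finrank_sup_orth hW ho
    rw [hsplit] at h
    exact h.symm

include hQ hH hirr in
/-- Over two elements four-spaces of plus type split into planes of minus type. -/
theorem planes_of_fours (hq : Fintype.card F = 2) {t : ℕ} {D : Fin t → Submodule F Vec}
    (hD : IsOrthogonalMDecomposition (⇑Q) 4 D) (hplus : ∀ i, IsPlusTypeOn (⇑Q) (D i))
    (hle : H ≤ decompositionStabilizer D) :
    ∃ E : Fin (t * 2) → Submodule F Vec, IsOrthogonalMDecomposition (⇑Q) 2 E ∧
      (∀ i, ¬ IsPlusTypeOn (⇑Q) (E i)) ∧ H ≤ decompositionStabilizer E := by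
  classical
  have h2 : (2 : F) = 0 := by
    by_contra h
    have h1 := odd_card_iff.2 h
    rw [hq] at h1
    exact absurd h1 (by decide)
  choose a ha b hb hQa hQb hab hsel _hex using fun i => Forms.Max.Orth.exists_planes hQ hq h2
    (hD.decomp.decomp.finrank_eq i) (nonDeg_parts hD i) (hplus i)
  let E0 : Fin t → Submodule F Vec := fun i => Submodule.span F {a i, b i}
  have hself : ∀ x : Vec, B x x = 0 := fun x => by
    rw [QuadraticMap.polar_self, two_smul, ← two_mul, h2, zero_mul]
  have hE0le : ∀ i, E0 i ≤ D i := fun i => Submodule.span_le.2 (by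
    rintro _ (rfl | rfl)
    · exact ha i
    · exact hb i)
  have hE0n : ∀ i, NonDeg Q (E0 i) := by
    intro i r hr hr0
    obtain ⟨x, y, rfl⟩ := Submodule.mem_span_pair.1 hr
    by_cases hy : y = 0
    · refine ⟨b i, Submodule.subset_span (by simp), ?_⟩
      have hx : x ≠ 0 := fun h => hr0 (by rw [h, hy, zero_smul, zero_smul, add_zero])
      rw [hy, zero_smul, add_zero, QuadraticMap.polar_smul_left, hab, smul_eq_mul, mul_one]
      exact hx
    · refine ⟨a i, Submodule.subset_span (by simp), ?_⟩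
      rw [QuadraticMap.polar_add_left, QuadraticMap.polar_smul_left, QuadraticMap.polar_smul_left, hself,
        smul_zero, zero_add, QuadraticMap.polar_comm, hab, smul_eq_mul, mul_one]
      exact hy
  have hind : ∀ x y : Vec, B x y = 1 → finrank F ↥(Submodule.span F {x, y}) = 2 := by
    intro x y hxy
    have hli : LinearIndependent F ![x, y] := by
      rw [LinearIndependent.pair_iff]
      intro s r hsr
      have e1 := congrArg (fun z => B z y) hsr
      have e2 := congrArg (fun z => B x z) hsr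
      simp only [QuadraticMap.polar_add_left, QuadraticMap.polar_smul_left, hself, hxy, smul_eq_mul, mul_one,
        smul_zero, mul_zero, add_zero, QuadraticMap.polar_zero_left] at e1
      simp only [QuadraticMap.polar_add_right, QuadraticMap.polar_smul_right, hself, hxy, smul_eq_mul, mul_one,
        smul_zero, mul_zero, zero_add, QuadraticMap.polar_zero_right] at e2
      exact ⟨e1, e2⟩
    rw [show ({x, y} : Set Vec) = Set.range ![x, y] from (by simp [Matrix.range_cons, Set.pair_comm]),
      finrank_span_eq_card hli, Fintype.card_fin]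
  have hE0d : ∀ i, finrank F (E0 i) = 2 := fun i => hind _ _ (hab i)
  let E1 : Fin t → Submodule F Vec := fun i => D i ⊓ Forms.Max.Orth.perp Q (E0 i)
  have hE1 : ∀ i, NonDeg Q (E1 i) ∧ finrank F (E1 i) = 2 := fun i => by
    have h := part_perp (hE0n i) (nonDeg_parts hD i) (hE0le i) hQ
    refine ⟨h.1, ?_⟩
    have h3 := h.2.2
    rw [hE0d, hD.decomp.decomp.finrank_eq] at h3
    show finrank F ↥(D i ⊓ Forms.Max.Orth.perp Q (E0 i)) = 2
    omega
  have horth01 : ∀ i, ∀ x ∈ E0 i, ∀ y ∈ E1 i, B x y = 0 := fun i x hx y hy =>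
    Forms.Max.Orth.mem_perp.1 hy.2 x hx
  let E2 : Fin t × Fin 2 → Submodule F Vec := fun p => if p.2 = 0 then E0 p.1 else E1 p.1
  have hE2le : ∀ p, E2 p ≤ D p.1 := fun p => by
    simp only [E2]; split_ifs
    · exact hE0le _
    · exact inf_le_left
  have hE2d : ∀ p, NonDeg Q (E2 p) ∧ finrank F (E2 p) = 2 := fun p => by
    obtain ⟨i, l⟩ := p
    fin_cases l
    · exact ⟨hE0n i, hE0d i⟩
    · exact hE1 i
  have hE1perp : ∀ i, D i ⊓ Forms.Max.Orth.perp Q (E1 i) = E0 i := fun i => by
    refine (Submodule.eq_of_le_of_finrank_le (le_inf (hE0le i) fun x hx => Forms.Max.Orth.mem_perp.2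
      fun y hy => by rw [QuadraticMap.polar_comm]; exact horth01 i x hx y hy) ?_).symm
    have h := (part_perp (hE1 i).1 (nonDeg_parts hD i) inf_le_left hQ).2.2
    rw [(hE1 i).2, hD.decomp.decomp.finrank_eq] at h
    rw [hE0d]
    omega
  -- images of the distinguished planes
  have himg : ∀ g ∈ H, ∀ p, ∃ p', (E2 p).map (Matrix.toLin' (g : Matrix ι ι F)) = E2 p' := by
    intro g hg
    obtain ⟨π, hπ⟩ := hle hg
    have h0 : ∀ i, ∃ l : Fin 2, (E0 i).map (Matrix.toLin' (g : Matrix ι ι F)) = E2 (π i, l) := by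
      intro i
      set x := (g : Matrix ι ι F) *ᵥ a i with hx
      set y := (g : Matrix ι ι F) *ᵥ b i with hy
      have hmap : (E0 i).map (Matrix.toLin' (g : Matrix ι ι F)) = Submodule.span F {x, y} := by
        rw [Submodule.map_span, Set.image_pair, Matrix.toLin'_apply, Matrix.toLin'_apply]
      have hxy : B x y = 1 := by rw [hx, hy, polar_of_mem (hH hg)]; exact hab i
      have hxD : x ∈ D (π i) := map_part hπ (ha i)
      have hyD : y ∈ D (π i) := map_part hπ (hb i)
      have hwhich : ∀ v ∈ D (π i), Q v = 1 → v ∈ E0 (π i) ∨ v ∈ E1 (π i) := fun v hv hQv => by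
        rcases hsel (π i) v hv hQv with h | ⟨h, h'⟩
        · exact Or.inl h
        · refine Or.inr ⟨hv, Forms.Max.Orth.mem_perp.2 fun z hz => ?_⟩
          obtain ⟨p, q, rfl⟩ := Submodule.mem_span_pair.1 hz
          rw [QuadraticMap.polar_add_left, QuadraticMap.polar_smul_left, QuadraticMap.polar_smul_left, h, h',
            smul_zero, smul_zero, add_zero]
      have hQx : Q x = 1 := by rw [hx, mem_evIso.1 (hH hg)]; exact hQa i
      have hQy : Q y = 1 := by rw [hy, mem_evIso.1 (hH hg)]; exact hQb i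
      rw [hmap]
      rcases hwhich x hxD hQx with h | h <;> rcases hwhich y hyD hQy with h' | h'
      · refine ⟨0, Submodule.eq_of_le_of_finrank_le (Submodule.span_le.2 ?_) ?_⟩
        · rintro _ (rfl | rfl) <;> simpa [E2]
        · rw [(hE2d _).2, hind _ _ hxy]
      · exact absurd hxy (by rw [horth01 _ x h y h']; exact zero_ne_one)
      · exact absurd hxy (by rw [QuadraticMap.polar_comm, horth01 _ y h' x h]; exact zero_ne_one)
      · refine ⟨1, Submodule.eq_of_le_of_finrank_le (Submodule.span_le.2 ?_) ?_⟩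
        · rintro _ (rfl | rfl) <;> simpa [E2]
        · rw [(hE2d _).2, hind _ _ hxy]
    intro p
    obtain ⟨i, l⟩ := p
    obtain ⟨l', hl'⟩ := h0 i
    fin_cases l
    · exact ⟨_, hl'⟩
    · refine ⟨(π i, 1 - l'), ?_⟩
      show (E1 i).map _ = _
      have hinjg : Function.Injective (Matrix.toLin' (g : Matrix ι ι F)) :=
        Matrix.mulVec_injective_iff_isUnit.2 g.isUnit
      have hE1' : ∀ m : Fin 2, E2 (π i, 1 - m) = D (π i) ⊓ Forms.Max.Orth.perp Q (E2 (π i, m)) := by
        intro m
        fin_cases m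
        · rfl
        · exact (hE1perp (π i)).symm
      rw [hE1', ← hl']
      apply le_antisymm
      · rintro _ ⟨z, hz, rfl⟩
        rw [Matrix.toLin'_apply]
        refine ⟨map_part hπ hz.1, Forms.Max.Orth.mem_perp.2 ?_⟩
        rintro _ ⟨u, hu, rfl⟩
        rw [Matrix.toLin'_apply, polar_of_mem (hH hg)]
        exact horth01 i u hu z hz
      · rintro z ⟨hz, hzp⟩
        rw [SetLike.mem_coe, ← hπ i] at hz
        obtain ⟨u, hu, rfl⟩ := hz
        refine ⟨u, ⟨hu, Forms.Max.Orth.mem_perp.2 fun w hw => ?_⟩, rfl⟩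
        have h := Forms.Max.Orth.mem_perp.1 hzp _ (Submodule.mem_map_of_mem hw)
        rwa [Matrix.toLin'_apply, Matrix.toLin'_apply, polar_of_mem (hH hg)] at h
  let E : Fin (t * 2) → Submodule F Vec := fun j => E2 (finProdFinEquiv.symm j)
  have hEinj : Function.Injective E2 := by
    intro p p' h
    obtain ⟨v, hv, hv0⟩ := Submodule.exists_mem_ne_zero_of_ne_bot (p := E2 p) fun h' => by
      have := (hE2d p).2; rw [h', finrank_bot] at this; omega
    have h1 : p.1 = p'.1 := by
      by_contra hne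
      have h3 : v ∈ D p.1 ⊓ D p'.1 := ⟨hE2le p hv, hE2le p' (h ▸ hv)⟩
      rw [(hD.decomp.decomp.indep.pairwiseDisjoint hne).eq_bot, Submodule.mem_bot] at h3
      exact hv0 h3
    obtain ⟨i, l⟩ := p
    obtain ⟨i', l'⟩ := p'
    obtain rfl : i = i' := h1
    by_contra hne
    obtain ⟨s, hs, hvs⟩ := (hE2d (i, l)).1 v hv hv0
    apply hvs
    have hl : l ≠ l' := fun e => hne (by rw [e])
    have hboth : ∀ x ∈ E2 (i, l), ∀ y ∈ E2 (i, l'), B x y = 0 := by
      fin_cases l <;> fin_cases l' <;> first | exact absurd rfl hl | skip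
      · exact horth01 i
      · intro x hx y hy; rw [QuadraticMap.polar_comm]; exact horth01 i y hy x hx
    exact hboth v hv s (h ▸ hs)
  have hEorth : ∀ p p', p ≠ p' → ∀ x ∈ E2 p, ∀ y ∈ E2 p', B x y = 0 := by
    intro p p' hne x hx y hy
    by_cases h1 : p.1 = p'.1
    swap
    · exact hD.decomp.orthogonal _ _ h1 x (hE2le p hx) y (hE2le p' hy)
    obtain ⟨i, l⟩ := p
    obtain ⟨i', l'⟩ := p'
    obtain rfl : i = i' := h1
    fin_cases l <;> fin_cases l'
    · exact absurd rfl hne
    · exact horth01 i x hx y hy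
    · rw [QuadraticMap.polar_comm]; exact horth01 i y hy x hx
    · exact absurd rfl hne
  have hEtop : ⨆ j, E j = ⊤ := by
    rw [eq_top_iff, ← hD.decomp.decomp.iSup_eq_top]
    refine iSup_le fun i => ?_
    rw [← (part_perp (hE0n i) (nonDeg_parts hD i) (hE0le i) hQ).2.1]
    refine sup_le (le_iSup_of_le (finProdFinEquiv (i, 0)) ?_) (le_iSup_of_le (finProdFinEquiv (i, 1)) ?_)
    · show E0 i ≤ E2 (finProdFinEquiv.symm (finProdFinEquiv (i, 0)))
      rw [Equiv.symm_apply_apply]
      exact le_rfl
    · show E1 i ≤ E2 (finProdFinEquiv.symm (finProdFinEquiv (i, 1)))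
      rw [Equiv.symm_apply_apply]
      exact le_rfl
  have hdecE : IsNondegenerateMDecomposition (QuadraticMap.polar (⇑Q)) 2 E := by
    refine ⟨⟨by have := hD.decomp.decomp.two_le; omega, two_pos, fun j => (hE2d _).2, ?_, hEtop⟩,
      fun j => (hE2d _).1.isNondegenerateOn,
      fun i j hij => hEorth _ _ fun h => hij (finProdFinEquiv.symm.injective h)⟩
    rw [iSupIndep_def]
    intro j
    rw [Submodule.disjoint_def]
    intro v hv hv'
    by_contra hv0
    obtain ⟨s, hs, hvs⟩ := (hE2d _).1 v hv hv0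
    apply hvs
    have hle' : (⨆ (l : Fin (t * 2)) (_ : l ≠ j), E l) ≤ Forms.Max.Orth.perp Q (E j) :=
      iSup₂_le fun l hl y hy => Forms.Max.Orth.mem_perp.2 fun x hx =>
        hEorth _ _ (fun h => hl (finProdFinEquiv.symm.injective h).symm) x hx y hy
    rw [QuadraticMap.polar_comm]
    exact Forms.Max.Orth.mem_perp.1 (hle' hv') s hs
  have hleE : H ≤ decompositionStabilizer E := by
    intro g hg
    choose f hf using himg g hg
    have hfinj : Function.Injective f := by
      intro p p' h
      apply hEinj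
      apply Submodule.map_injective_of_injective (f := Matrix.toLin' (g : Matrix ι ι F))
        (Matrix.mulVec_injective_iff_isUnit.2 g.isUnit)
      rw [hf, hf, h]
    let π := finProdFinEquiv.symm.trans
      ((Equiv.ofBijective f (Finite.injective_iff_bijective.1 hfinj)).trans finProdFinEquiv)
    refine ⟨π, fun j => ?_⟩
    show (E2 _).map _ = E2 (finProdFinEquiv.symm (finProdFinEquiv (f _)))
    rw [Equiv.symm_apply_apply]
    exact hf _
  have hiso := isometric_of_irred hQ hdecE hH hirr hleE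
  refine ⟨E, hiso, fun j hj => ?_, hleE⟩
  let i₀ : Fin t := ⟨0, by have := hD.decomp.decomp.two_le; omega⟩
  have h0 := plus_of_isometric (hiso.isometric j (finProdFinEquiv (i₀, 0))) hj
  have e0 : E (finProdFinEquiv (i₀, 0)) = E0 i₀ := by
    show E2 (finProdFinEquiv.symm (finProdFinEquiv (i₀, 0))) = E0 i₀
    rw [Equiv.symm_apply_apply]; rfl
  rw [e0] at h0
  obtain ⟨U, hU, hUs, hUd⟩ := h0
  obtain ⟨v, hv, hv0⟩ := Submodule.exists_mem_ne_zero_of_ne_bot (p := U) fun h => by
    rw [h, finrank_bot, hE0d] at hUd; omega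
  obtain ⟨x, y, rfl⟩ := Submodule.mem_span_pair.1 (hU hv)
  have h := hUs _ hv
  have h01 : ∀ x : F, x ≠ 0 → x = 1 := fun x hx => by
    simpa [hq] using FiniteField.pow_card_sub_one_eq_one x hx
  rw [qadd, QuadraticMap.map_smul, QuadraticMap.map_smul, QuadraticMap.polar_smul_left,
    QuadraticMap.polar_smul_right, hQa, hQb, hab] at h
  simp only [smul_eq_mul, mul_one] at h
  by_cases hx : x = 0
  · subst hx
    by_cases hy : y = 0
    · exact hv0 (by rw [hy, zero_smul, zero_smul, add_zero])
    · rw [h01 y hy] at h; simp at h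
  · by_cases hy : y = 0
    · subst hy; rw [h01 x hx] at h; simp at h
    · rw [h01 x hx, h01 y hy] at h
      exact one_ne_zero (α := F) (by linear_combination h - h2)

end Cfsg.Agent.Aschbacher.Ev
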