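/-
Tensor decompositions of a quadratic form in even dimension.
-/
import Mathlib
import Cfsg.Agent.Aschbacher.Ev.Base
import Cfsg.Agent.Aschbacher.Formed.Coord
import Cfsg.Agent.Aschbacher.Sp.Tensor
import Cfsg.Agent.Lib.Forms.Bases

set_option autoImplicit false
set_option linter.style.haveILetI false
set_option linter.unusedSectionVars false

namespace Cfsg.Agent.Aschbacher.Ev

open Module Matrix
open Cfsg.Geo
open scoped Kronecker

variable {F : Type*} [Field F] [Fintype F]

/-- An alternating matrix of odd size is singular. -/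
lemma not_isUnit_alternating_odd {k : ℕ} (hk : Odd k) {G : Matrix (Fin k) (Fin k) F} (h : Gᵀ = -G)
    (hd : ∀ i, G i i = 0) : ¬ IsUnit G.det := by
  intro hG
  have hA : (Matrix.toBilin' G).IsAlt := fun v => by
    rw [Matrix.toBilin'_apply']
    exact (isSymplecticForm_sesqForm h hd hG).alternating v
  obtain ⟨m, hm⟩ := Forms.Bases.even_finrank_of_alt (Matrix.toBilin' G) hA
    (LinearMap.BilinForm.nondegenerate_toBilin'_iff_det_ne_zero.2 hG.ne_zero)
  rw [Module.finrank_fintype_fun_eq_card, Fintype.card_fin] at hm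
  obtain ⟨j, rfl⟩ := hk
  omega

variable {ι : Type} [Fintype ι] [DecidableEq ι] {Q : QuadraticForm F (ι → F)}
  (hQ : (QuadraticMap.polarBilin Q).Nondegenerate) {H : Subgroup (GL ι F)}

/-- What the centre of an adjoint-closed algebra gives. -/
def CentreOutcome (D : FormData ι F) (H : Subgroup (GL ι F)) : Prop :=
  D.HasNondegDecomposition H ∨ D.HasSingularPair H ∨ D.HasField H

lemma ev_pull_symm {κ : Type} [Fintype κ] [DecidableEq κ] (e : ι ≃ κ) (P : GL ι F) :
    ((evData hQ).pull e P)ᵀ = (evData hQ).pull e P := by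
  have h := (evData hQ).pull_refl e P
  rw [show ((evData hQ).pull e P).map (evData hQ).τ = (evData hQ).pull e P from Matrix.map_id _] at h
  exact h.trans (one_smul F _)

lemma ev_pull_isometry {κ : Type} [Fintype κ] [DecidableEq κ] (e : ι ≃ κ) (P : GL ι F) {g : GL ι F}
    (hg : g ∈ Cfsg.isometryGroup F (⇑Q)) :
    (glCoord e P g : Matrix κ κ F)ᵀ * (evData hQ).pull e P * (glCoord e P g : Matrix κ κ F) =
      (evData hQ).pull e P := by
  have h := (evData hQ).pull_isometry e P g (form_of_mem hQ hg)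
  rwa [show (glCoord e P g : Matrix κ κ F).map (evData hQ).τ = (glCoord e P g : Matrix κ κ F) from
    Matrix.map_id _] at h

include hQ in
/-- A matrix moved inside the algebra it generates. -/
theorem centre_of_element [Nonempty ι] (hH : H ≤ Cfsg.isometryGroup F (⇑Q)) (hirr : Irred H) {z : Matrix ι ι F}
    (hns : ∀ c : F, z ≠ c • 1) (hadj : (evData hQ).adj z ∈ Algebra.adjoin F {z})
    (hconj : ∀ g ∈ H, conjMat g z ∈ Algebra.adjoin F {z}) : CentreOutcome (evData hQ) H := by
  set D := evData hQ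
  set A : Subalgebra F (Matrix ι ι F) := Algebra.adjoin F {z} with hA
  have hzA : z ∈ A := Algebra.subset_adjoin rfl
  have hzc : z ∈ subCentre A := by
    refine mem_subCentre.2 ⟨hzA, fun a ha => ?_⟩
    have hle' : A ≤ Subalgebra.centralizer F {z} := Algebra.adjoin_le (by
      rintro _ rfl
      rw [SetLike.mem_coe, Subalgebra.mem_centralizer_iff]
      rintro _ rfl
      rfl)
    exact ((Subalgebra.mem_centralizer_iff F).1 (hle' ha) z rfl).symm
  have hadjA : ∀ x ∈ A, D.adj x ∈ A := by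
    intro x hx
    induction hx using Algebra.adjoin_induction with
    | mem y hy => rw [Set.mem_singleton_iff.1 hy]; exact hadj
    | algebraMap c =>
      rw [Algebra.algebraMap_eq_smul_one, D.adj_scalar]
      exact Subalgebra.smul_mem _ (one_mem _) _
    | add y w _ _ hy hw => rw [D.adj_add]; exact add_mem hy hw
    | mul y w _ _ hy hw => rw [D.adj_mul]; exact mul_mem hw hy
  have hconjA : ∀ g ∈ H, ∀ x ∈ A, conjMat g x ∈ A := by
    intro g hg x hx
    have hle' : A ≤ A.comap (conjMat g : Matrix ι ι F →ₐ[F] _) := by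
      refine Algebra.adjoin_le ?_
      rintro _ rfl
      exact hconj g hg
    exact hle' hx
  exact D.centre_cases H (hH.trans (evIso_le_sim hQ)) hirr A hconjA hadjA ⟨z, hzc, hns⟩

/-! ### Two factors -/

section Pair

variable {n₁ n₂ : ℕ} (e : ι ≃ Fin n₁ × Fin n₂) (P : GL ι F)
  {G : Matrix (Fin n₁) (Fin n₁) F} {S : Matrix (Fin n₂) (Fin n₂) F}

lemma nonempty_factors [Nonempty ι] (e : ι ≃ Fin n₁ × Fin n₂) : Nonempty (Fin n₁) ∧ Nonempty (Fin n₂) := by
  obtain ⟨⟨i, j⟩⟩ : Nonempty (Fin n₁ × Fin n₂) := e.nonempty_congr.1 inferInstance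
  exact ⟨⟨i⟩, ⟨j⟩⟩

/-- How the isometries act on the two factors. -/
lemma exists_factor_sims [Nonempty ι] (hG : IsUnit G.det) (hS : IsUnit S.det)
    (hpull : (evData hQ).pull e P = G ⊗ₖ S) (hH : H ≤ Cfsg.isometryGroup F (⇑Q))
    (hle : H ≤ tensorProductSubgroup n₁ n₂ e P) {g : GL ι F} (hg : g ∈ H) :
    ∃ (a : GL (Fin n₁) F) (b : GL (Fin n₂) F) (c : F), c ≠ 0 ∧
      (glCoord e P g : Matrix (Fin n₁ × Fin n₂) (Fin n₁ × Fin n₂) F) =
        (a : Matrix (Fin n₁) (Fin n₁) F) ⊗ₖ (b : Matrix (Fin n₂) (Fin n₂) F) ∧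
      (a : Matrix (Fin n₁) (Fin n₁) F)ᵀ * G * (a : Matrix (Fin n₁) (Fin n₁) F) = c • G ∧
      (b : Matrix (Fin n₂) (Fin n₂) F)ᵀ * S * (b : Matrix (Fin n₂) (Fin n₂) F) = c⁻¹ • S := by
  obtain ⟨_, _⟩ := nonempty_factors e
  obtain ⟨a, b, hab⟩ := exists_kronecker_of_mem (hle hg)
  have h := ev_pull_isometry hQ e P (hH hg)
  rw [hpull, hab, ← Matrix.kroneckerMap_transpose, ← Matrix.mul_kronecker_mul, ← Matrix.mul_kronecker_mul] at h
  obtain ⟨c, hc, h1, h2⟩ := exists_smul_of_kronecker_eq hG hS h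
  exact ⟨a, b, c, hc, hab, h1, h2⟩

include hQ in
/-- In characteristic two a factor which is not alternating contradicts irreducibility. -/
lemma not_irred_nonalt [Nonempty ι] (h2 : (2 : F) = 0) (hn : 2 ≤ n₁) (hG : IsUnit G.det) (hS : IsUnit S.det)
    (hsymm : Gᵀ = G) (hpull : (evData hQ).pull e P = G ⊗ₖ S) (hH : H ≤ Cfsg.isometryGroup F (⇑Q))
    (hle : H ≤ tensorProductSubgroup n₁ n₂ e P) {i : Fin n₁} (hi : G i i ≠ 0) : ¬ Irred H := by
  obtain ⟨-, ⟨j⟩⟩ := nonempty_factors e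
  obtain ⟨E, K, hE, hK, hEK, hproj⟩ := exists_projection h2 hn hsymm hi
  have hne : ∀ X : Matrix (Fin n₁) (Fin n₁) F, X ≠ 0 → X ⊗ₖ (1 : Matrix (Fin n₂) (Fin n₂) F) ≠ 0 := by
    intro X hX h
    apply hX
    ext a b
    have := congrFun (congrFun h (a, j)) (b, j)
    simpa using this
  refine not_irred_of_invariant e P (hne E hE) (hne K hK)
    (by rw [← Matrix.mul_kronecker_mul, hEK, Matrix.zero_kronecker]) fun g hg => ?_
  obtain ⟨a, b, c, -, hab, ha, -⟩ := exists_factor_sims hQ e P hG hS hpull hH hle hg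
  rw [hab, ← Matrix.mul_kronecker_mul, ← Matrix.mul_kronecker_mul, ← Matrix.mul_kronecker_mul,
    hproj _ c ha]
  simp

end Pair

include hQ in
/-- In characteristic two the form is read off a matrix whose symmetrisation is the Gram matrix. -/
theorem quad_of_upper_formula (h2 : (2 : F) = 0) (hn : 2 ≤ Fintype.card ι)
    (hH : H ≤ Cfsg.isometryGroup F (⇑Q)) (hirr : Irred H) {κ : Type} [Fintype κ] [DecidableEq κ] (e : ι ≃ κ)
    (P : GL ι F) {U : Matrix κ κ F} (hU : U + Uᵀ = (evData hQ).pull e P)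
    (hbasis : ∀ g ∈ H, ∀ a : κ,
      ((glCoord e P g : Matrix κ κ F)ᵀ * U * (glCoord e P g : Matrix κ κ F)) a a = U a a) :
    ∀ z : κ → F, Q ((P : Matrix ι ι F) *ᵥ (z ∘ e)) = z ⬝ᵥ U *ᵥ z := by
  classical
  let x : (ι → F) → (κ → F) := fun v => (((P⁻¹ : GL ι F) : Matrix ι ι F) *ᵥ v) ∘ e.symm
  have hxP : ∀ z : κ → F, x ((P : Matrix ι ι F) *ᵥ (z ∘ e)) = z := fun z => by
    show (_ *ᵥ _) ∘ e.symm = _
    rw [Matrix.mulVec_mulVec, Units.inv_mul, Matrix.one_mulVec, Function.comp_assoc, Equiv.self_comp_symm,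
      Function.comp_id]
  have hPx : ∀ w : ι → F, (P : Matrix ι ι F) *ᵥ (x w ∘ e) = w := fun w => by
    rw [show x w ∘ e = ((P⁻¹ : GL ι F) : Matrix ι ι F) *ᵥ w from funext fun i => by simp [x],
      Matrix.mulVec_mulVec, Units.mul_inv, Matrix.one_mulVec]
  let Q₁ : (ι → F) → F := fun v => x v ⬝ᵥ U *ᵥ x v
  have hxadd : ∀ u v, x (u + v) = x u + x v := fun u v => by
    show (_ *ᵥ (u + v)) ∘ e.symm = _
    rw [Matrix.mulVec_add]; rfl
  have hxsmul : ∀ (c : F) v, x (c • v) = c • x v := fun c v => by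
    show (_ *ᵥ (c • v)) ∘ e.symm = _
    rw [Matrix.mulVec_smul]; rfl
  have hsmul : ∀ (c : F) v, Q₁ (c • v) = c ^ 2 * Q₁ v := fun c v => by
    show x (c • v) ⬝ᵥ U *ᵥ x (c • v) = _
    rw [hxsmul, Matrix.mulVec_smul, smul_dotProduct, dotProduct_smul]
    simp [Q₁]; ring
  have hpolar : ∀ u v, QuadraticMap.polar Q₁ u v = QuadraticMap.polar Q u v := by
    intro u v
    have hf : (evData hQ).form u v = x u ⬝ᵥ (evData hQ).pull e P *ᵥ x v := by
      conv_lhs => rw [← hPx u, ← hPx v]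
      rw [FormData.form_pull]
      rfl
    have hsw : x v ⬝ᵥ U *ᵥ x u = x u ⬝ᵥ Uᵀ *ᵥ x v := by
      rw [Matrix.mulVec_transpose, dotProduct_comm (x u), Matrix.dotProduct_mulVec]
    rw [← evData_form hQ, hf, ← hU, Matrix.add_mulVec, dotProduct_add, ← hsw]
    show x (u + v) ⬝ᵥ U *ᵥ x (u + v) - x u ⬝ᵥ U *ᵥ x u - x v ⬝ᵥ U *ᵥ x v = _
    rw [hxadd, Matrix.mulVec_add, add_dotProduct, dotProduct_add, dotProduct_add]
    ring
  have hinv : ∀ g ∈ H, ∀ v, Q₁ ((g : Matrix ι ι F) *ᵥ v) = Q₁ v := by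
    intro g hg
    set M := (glCoord e P g : Matrix κ κ F) with hM
    have hxg : ∀ v, x ((g : Matrix ι ι F) *ᵥ v) = M *ᵥ x v := fun v => by
      conv_lhs => rw [← hPx v, ← glCoord_mulVec, hxP]
    have hMU : ∀ z : κ → F, (M *ᵥ z) ⬝ᵥ U *ᵥ (M *ᵥ z) = z ⬝ᵥ (Mᵀ * U * M) *ᵥ z := fun z => by
      rw [← Matrix.mulVec_mulVec, ← Matrix.mulVec_mulVec, Matrix.dotProduct_mulVec z Mᵀ, Matrix.vecMul_transpose]
    have hadd : ∀ u v, Q₁ ((g : Matrix ι ι F) *ᵥ (u + v)) - Q₁ (u + v) =
        (Q₁ ((g : Matrix ι ι F) *ᵥ u) - Q₁ u) + (Q₁ ((g : Matrix ι ι F) *ᵥ v) - Q₁ v) := by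
      intro u v
      have h1 := hpolar ((g : Matrix ι ι F) *ᵥ u) ((g : Matrix ι ι F) *ᵥ v)
      have h3 := hpolar u v
      rw [polar_of_mem (hH hg), ← h3] at h1
      simp only [QuadraticMap.polar, ← Matrix.mulVec_add] at h1
      linear_combination h1
    let W : Submodule F (ι → F) :=
      { carrier := {v | Q₁ ((g : Matrix ι ι F) *ᵥ v) - Q₁ v = 0}
        add_mem' := fun {u v} (hu : _ = _) (hv : _ = _) => by
          show Q₁ ((g : Matrix ι ι F) *ᵥ (u + v)) - Q₁ (u + v) = 0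
          rw [hadd, hu, hv, add_zero]
        zero_mem' := by
          show Q₁ ((g : Matrix ι ι F) *ᵥ 0) - Q₁ 0 = 0
          rw [Matrix.mulVec_zero, sub_self]
        smul_mem' := fun c v (hv : _ = _) => by
          show Q₁ ((g : Matrix ι ι F) *ᵥ (c • v)) - Q₁ (c • v) = 0
          rw [Matrix.mulVec_smul, hsmul, hsmul, ← mul_sub, hv, mul_zero] }
    have hW : ∀ a : κ, (P : Matrix ι ι F) *ᵥ (Pi.single a (1 : F) ∘ e) ∈ W := fun a => by
      show Q₁ _ - Q₁ _ = 0
      show x _ ⬝ᵥ U *ᵥ x _ - x _ ⬝ᵥ U *ᵥ x _ = 0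
      rw [hxg, hxP, hMU, sub_eq_zero]
      simpa [Matrix.mulVec_single_one, single_dotProduct] using hbasis g hg a
    intro v
    rw [← sub_eq_zero]
    have hv : v = ∑ a, x v a • ((P : Matrix ι ι F) *ᵥ (Pi.single a (1 : F) ∘ e)) := by
      have h1 : ∑ a, x v a • (Pi.single a (1 : F) ∘ e) = x v ∘ e := by
        funext i
        simp [Finset.sum_apply, Pi.single_apply]
      simp only [← Matrix.mulVec_smul, ← Matrix.mulVec_sum, h1, hPx]
    have : v ∈ W := hv ▸ Submodule.sum_mem W fun a _ => W.smul_mem _ (hW a)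
    exact this
  have hQ1 := eq_of_invariant h2 hn hirr hsmul (fun c v => by rw [QuadraticMap.map_smul, smul_eq_mul, sq])
    hpolar hinv (fun g hg => mem_evIso.1 (hH hg))
  intro z
  rw [← hQ1]
  show x _ ⬝ᵥ U *ᵥ x _ = _
  rw [hxP]

/-- Two alternating factors with the form vanishing on pure tensors. -/
def AltTensor (Q : QuadraticForm F (ι → F)) (H : Subgroup (GL ι F)) : Prop :=
  ∃ (a k : ℕ) (e : ι ≃ Fin a × Fin k) (P : GL ι F) (f₁ : (Fin a → F) → (Fin a → F) → F)
    (f₂ : (Fin k → F) → (Fin k → F) → F), 2 ≤ a ∧ a ≤ k ∧ Even a ∧ Even k ∧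
    IsSymplecticForm f₁ ∧ IsSymplecticForm f₂ ∧
    IsTensorFormStructure id (QuadraticMap.polar (⇑Q)) f₁ f₂ e P ∧
    (∀ (x₁ : Fin a → F) (x₂ : Fin k → F),
      Q ((P : Matrix ι ι F) *ᵥ ((fun p : Fin a × Fin k => x₁ p.1 * x₂ p.2) ∘ e)) = 0) ∧
    H ≤ tensorProductSubgroup a k e P ∧ (a = 2 → 3 ≤ Fintype.card F)

/-- Two symmetric factors of dimension at least three. -/
def SymTensor (hQ : (QuadraticMap.polarBilin Q).Nondegenerate) (H : Subgroup (GL ι F)) : Prop :=
  ∃ (a k : ℕ) (e : ι ≃ Fin a × Fin k) (P : GL ι F) (G : Matrix (Fin a) (Fin a) F)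
    (S : Matrix (Fin k) (Fin k) F), (2 : F) ≠ 0 ∧ 3 ≤ a ∧ a ≤ k ∧ IsUnit G.det ∧ IsUnit S.det ∧
    Gᵀ = G ∧ Sᵀ = S ∧ (evData hQ).pull e P = G ⊗ₖ S ∧ H ≤ tensorProductSubgroup a k e P

lemma isTensorFormStructure_of_pull {a k : ℕ} (e : ι ≃ Fin a × Fin k) (P : GL ι F)
    {G : Matrix (Fin a) (Fin a) F} {S : Matrix (Fin k) (Fin k) F} (hpull : (evData hQ).pull e P = G ⊗ₖ S) :
    IsTensorFormStructure id (QuadraticMap.polar (⇑Q)) (sesqForm (RingHom.id F) G)
      (sesqForm (RingHom.id F) S) e P := by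
  refine ⟨1, one_ne_zero, fun x y => ?_⟩
  rw [gramMatrix_sesqForm, gramMatrix_sesqForm, one_mul, formOfGram_id, ← hpull, ← evData_form hQ]
  exact (evData hQ).form_pull e P x y

lemma pull_swap {a k : ℕ} (e : ι ≃ Fin a × Fin k) (P : GL ι F) {G : Matrix (Fin a) (Fin a) F}
    {S : Matrix (Fin k) (Fin k) F} (hpull : (evData hQ).pull e P = G ⊗ₖ S) :
    (evData hQ).pull (e.trans (Equiv.prodComm _ _)) P = S ⊗ₖ G := by
  ext ⟨p, q⟩ ⟨p', q'⟩
  have h1 : (evData hQ).pull (e.trans (Equiv.prodComm _ _)) P (p, q) (p', q') =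
      (evData hQ).pull e P (q, p) (q', p') := rfl
  rw [h1, hpull]
  simp [mul_comm]

lemma kron_dot {a k : ℕ} (U : Matrix (Fin a) (Fin a) F) (S : Matrix (Fin k) (Fin k) F) (x : Fin a → F)
    (y : Fin k → F) :
    (fun p : Fin a × Fin k => x p.1 * y p.2) ⬝ᵥ (U ⊗ₖ S) *ᵥ (fun p : Fin a × Fin k => x p.1 * y p.2) =
      (x ⬝ᵥ U *ᵥ x) * (y ⬝ᵥ S *ᵥ y) := by
  have h : ∀ (p : Fin a) (q : Fin k),
      ((U ⊗ₖ S) *ᵥ (fun p : Fin a × Fin k => x p.1 * y p.2)) (p, q) = (U *ᵥ x) p * (S *ᵥ y) q := by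
    intro p q
    simp only [Matrix.mulVec, dotProduct, Fintype.sum_prod_type, Matrix.kroneckerMap_apply]
    rw [Finset.sum_mul_sum]
    exact Finset.sum_congr rfl fun p' _ => Finset.sum_congr rfl fun q' _ => by ring
  simp only [dotProduct, Fintype.sum_prod_type, h]
  rw [Finset.sum_mul_sum]
  exact Finset.sum_congr rfl fun p _ => Finset.sum_congr rfl fun q _ => by ring

include hQ in
/-- Two alternating factors make the form vanish on pure tensors. -/
lemma vanishes_of_alternating (hn : 2 ≤ Fintype.card ι) (hH : H ≤ Cfsg.isometryGroup F (⇑Q)) (hirr : Irred H)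
    {a k : ℕ} (e : ι ≃ Fin a × Fin k) (P : GL ι F) {G : Matrix (Fin a) (Fin a) F}
    {S : Matrix (Fin k) (Fin k) F} (hG : IsUnit G.det) (hS : IsUnit S.det) (hGs : Gᵀ = -G) (hSs : Sᵀ = -S)
    (hGd : ∀ i, G i i = 0) (hSd : ∀ i, S i i = 0) (hpull : (evData hQ).pull e P = G ⊗ₖ S)
    (hle : H ≤ tensorProductSubgroup a k e P) (x₁ : Fin a → F) (x₂ : Fin k → F) :
    Q ((P : Matrix ι ι F) *ᵥ ((fun p : Fin a × Fin k => x₁ p.1 * x₂ p.2) ∘ e)) = 0 := by
  classical
  haveI : Nonempty ι := Fintype.card_pos_iff.1 (by omega)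
  have haltS : x₂ ⬝ᵥ S *ᵥ x₂ = 0 := (isSymplecticForm_sesqForm hSs hSd hS).alternating x₂
  by_cases h2 : (2 : F) = 0
  swap
  · rw [quad_eq_half h2, ← evData_form hQ, FormData.form_pull, hpull]
    rw [evData_τ]
    show _ * (_ ⬝ᵥ (G ⊗ₖ S) *ᵥ (fun p : Fin a × Fin k => x₁ p.1 * x₂ p.2)) = 0
    rw [kron_dot, haltS, mul_zero, mul_zero]
  let Gu : Matrix (Fin a) (Fin a) F := Matrix.of fun p q => if p < q then G p q else 0
  have hneg : ∀ x : F, -x = x := fun x => by rw [neg_eq_iff_add_eq_zero, ← two_mul, h2, zero_mul]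
  have hGsymm : Gᵀ = G := hGs.trans (Matrix.ext fun p q => hneg _)
  have hSsymm : Sᵀ = S := hSs.trans (Matrix.ext fun p q => hneg _)
  have hGu : Gu + Guᵀ = G := by
    ext p q
    rcases lt_trichotomy p q with h | h | h
    · simp [Gu, h, h.asymm]
    · subst h; simp [Gu, hGd]
    · have hs : G q p = G p q := congrFun (congrFun hGsymm p) q
      simp [Gu, h, h.asymm, hs]
  have hU : Gu ⊗ₖ S + (Gu ⊗ₖ S)ᵀ = (evData hQ).pull e P := by
    rw [← Matrix.kroneckerMap_transpose, hSsymm, ← Matrix.add_kronecker, hGu, hpull]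
  rw [quad_of_upper_formula hQ h2 hn hH hirr e P hU (fun g hg p => ?_), kron_dot, haltS, mul_zero]
  obtain ⟨a', b, c, -, hab, -, hb⟩ := exists_factor_sims hQ e P hG hS hpull hH hle hg
  rw [hab, ← Matrix.kroneckerMap_transpose, ← Matrix.mul_kronecker_mul, ← Matrix.mul_kronecker_mul, hb]
  simp [hSd]

include hQ in
/-- A symmetric factor of dimension two gives more structure. -/
theorem centre_of_symmetric_two (h2 : (2 : F) ≠ 0) (hH : H ≤ Cfsg.isometryGroup F (⇑Q)) (hirr : Irred H)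
    [Nonempty ι] {n₁ : ℕ} (e : ι ≃ Fin n₁ × Fin 2) (P : GL ι F) {G : Matrix (Fin n₁) (Fin n₁) F}
    {S : Matrix (Fin 2) (Fin 2) F} (hG : IsUnit G.det) (hS : IsUnit S.det) (hSsymm : Sᵀ = S)
    (hpull : (evData hQ).pull e P = G ⊗ₖ S) (hle : H ≤ tensorProductSubgroup n₁ 2 e P) :
    CentreOutcome (evData hQ) H := by
  obtain ⟨⟨i₀⟩, -⟩ := nonempty_factors e
  set D := evData hQ with hD
  set J := S⁻¹ * altTwo F with hJ
  set M : Matrix (Fin n₁ × Fin 2) (Fin n₁ × Fin 2) F := (1 : Matrix (Fin n₁) (Fin n₁) F) ⊗ₖ J with hM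
  set z := conjMat P (M.submatrix e e) with hz
  have hzA : z ∈ Algebra.adjoin F {z} := Algebra.subset_adjoin rfl
  refine centre_of_element hQ hH hirr (z := z) ?_ ?_ ?_
  · intro c hc
    have h1 : M.submatrix e e = c • 1 := (conjMat P).injective (by rw [map_smul, map_one]; exact hc)
    have h3 : J = c • 1 := by
      ext p q
      have := congrFun (congrFun h1 (e.symm (i₀, p))) (e.symm (i₀, q))
      simpa [hM, Matrix.one_apply] using this
    have h4 : altTwo F = c • S := by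
      have := congrArg (S * ·) h3
      simpa [hJ, ← mul_assoc, Matrix.mul_nonsing_inv _ hS] using this
    have h5 := congrArg Matrix.transpose h4
    rw [Matrix.transpose_smul, hSsymm, ← h4, altTwo_transpose] at h5
    have h6 : (altTwo F) 0 1 = -(altTwo F) 0 1 := by
      conv_lhs => rw [← h5]
      simp
    simp [altTwo] at h6
    exact h2 (by linear_combination h6)
  · have hJS : Jᵀ * S = -(S * J) := by
      rw [hJ, Matrix.transpose_mul, Matrix.transpose_nonsing_inv, hSsymm, altTwo_transpose, neg_one_smul,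
        mul_assoc, Matrix.nonsing_inv_mul _ hS, mul_one, ← mul_assoc, Matrix.mul_nonsing_inv _ hS, one_mul]
    have h1 : D.adj z = conjMat P ((-M).submatrix e e) := by
      refine D.adj_of_intertwine e P ?_
      rw [show (-M).map D.τ = -M from Matrix.map_id _, hpull, hM, ← Matrix.kroneckerMap_transpose,
        ← Matrix.mul_kronecker_mul, Matrix.transpose_one, one_mul, hJS, mul_neg, ← Matrix.mul_kronecker_mul,
        mul_one]
      ext ⟨p, q⟩ ⟨p', q'⟩
      simp
    rw [show D.adj z = -z by rw [h1, hz, ← map_neg]; rfl]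
    exact neg_mem hzA
  · intro g hg
    obtain ⟨a, b, c, hc0, hab, -, hb⟩ := exists_factor_sims hQ e P hG hS hpull hH hle hg
    set B := (b : Matrix (Fin 2) (Fin 2) F) with hB
    set d := B.det
    have hd : d ≠ 0 := (Matrix.GeneralLinearGroup.det b).ne_zero
    have hBJ : B * J = (c⁻¹ / d) • (J * B) := by
      have h4 : S * B * J = (c⁻¹ / d) • (altTwo F * B) := by
        have hinj : Function.Injective fun X : Matrix (Fin 2) (Fin 2) F => Bᵀ * X := by
          intro X Y h
          have hu : IsUnit Bᵀ.det := by rw [Matrix.det_transpose]; exact IsUnit.mk0 _ hd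
          have := congrArg (Bᵀ⁻¹ * ·) h
          simpa [← mul_assoc, Matrix.nonsing_inv_mul _ hu] using this
        apply hinj
        show Bᵀ * (S * B * J) = Bᵀ * ((c⁻¹ / d) • (altTwo F * B))
        rw [Matrix.mul_smul, ← mul_assoc Bᵀ (altTwo F) B, altTwo_congr, smul_smul,
          ← mul_assoc Bᵀ (S * B) J, ← mul_assoc Bᵀ S B, hb,
          Matrix.smul_mul, hJ, ← mul_assoc, Matrix.mul_nonsing_inv _ hS, one_mul, div_mul_cancel₀ _ hd]
      have := congrArg (S⁻¹ * ·) h4
      simp only [← mul_assoc, Matrix.nonsing_inv_mul _ hS, one_mul, Matrix.mul_smul] at this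
      rw [this, hJ, mul_assoc]
    have hgz : conjMat g z = (c⁻¹ / d) • z := by
      rw [hz, ← conjMat_glCoord, ← map_smul]
      congr 1
      show _ = ((c⁻¹ / d) • M).submatrix e e
      congr 1
      rw [conjMat_eq_iff_mul, hab, hM, Matrix.smul_mul, ← Matrix.mul_kronecker_mul, ← Matrix.mul_kronecker_mul,
        mul_one, one_mul, hBJ, Matrix.kronecker_smul]
    rw [hgz]
    exact Subalgebra.smul_mem _ hzA _

include hQ in
/-- An alternating plane over two elements gives more structure. -/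
theorem centre_of_alt_two (hq : Fintype.card F = 2) (hn : 2 ≤ Fintype.card ι)
    (hH : H ≤ Cfsg.isometryGroup F (⇑Q)) (hirr : Irred H) {k : ℕ} (e : ι ≃ Fin 2 × Fin k) (P : GL ι F)
    {G : Matrix (Fin 2) (Fin 2) F} {S : Matrix (Fin k) (Fin k) F} (hG : IsUnit G.det)
    (hGs : Gᵀ = -G) (hGd : ∀ i, G i i = 0) (hpull : (evData hQ).pull e P = G ⊗ₖ S)
    (hle : H ≤ tensorProductSubgroup 2 k e P) : CentreOutcome (evData hQ) H := by
  classical
  haveI : Nonempty ι := Fintype.card_pos_iff.1 (by omega)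
  obtain ⟨-, ⟨j₀⟩⟩ := nonempty_factors e
  have h2 : (2 : F) = 0 := by
    have h := Nat.cast_card_eq_zero F
    rw [hq] at h
    exact_mod_cast h
  have hval : ∀ x : F, x = 0 ∨ x = 1 := by
    intro x
    by_contra hx
    push Not at hx
    have h3 : 2 < Fintype.card F := Fintype.two_lt_card_iff.2 ⟨x, 0, 1, hx.1, hx.2, zero_ne_one⟩
    omega
  haveI : CharP F 2 := CharTwo.of_one_ne_zero_of_two_eq_zero one_ne_zero h2
  have hneg : ∀ x : F, -x = x := fun x => CharTwo.neg_eq x
  have h01 : G 0 1 = 1 ∧ G 1 0 = 1 := by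
    have h10 : G 1 0 = G 0 1 := (congrFun (congrFun hGs 0) 1).trans (hneg _)
    rcases hval (G 0 1) with h | h
    · exact absurd hG (by rw [Matrix.det_fin_two, hGd, hGd, h10, h]; simp)
    · exact ⟨h, h10.trans h⟩
  set s : Matrix (Fin 2) (Fin 2) F := !![0, 1; 1, 1] with hs
  set M : Matrix (Fin 2 × Fin k) (Fin 2 × Fin k) F := s ⊗ₖ (1 : Matrix (Fin k) (Fin k) F) with hM
  set z := conjMat P (M.submatrix e e) with hz
  set A := Algebra.adjoin F {z}
  have hzA : z ∈ A := Algebra.subset_adjoin rfl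
  have hlift : ∀ (u v : F), conjMat P (((u • s + v • 1) ⊗ₖ (1 : Matrix (Fin k) (Fin k) F)).submatrix e e) =
      u • z + v • 1 := by
    intro u v
    rw [Matrix.add_kronecker, Matrix.smul_kronecker, Matrix.smul_kronecker, Matrix.one_kronecker_one, ← hM,
      show (u • M + v • (1 : Matrix (Fin 2 × Fin k) (Fin 2 × Fin k) F)).submatrix e e =
        u • M.submatrix e e + v • (1 : Matrix ι ι F) by
          ext i j; simp [Matrix.one_apply],
      map_add, map_smul, map_smul, map_one, ← hz]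
  refine centre_of_element hQ hH hirr (z := z) ?_ ?_ ?_
  · intro c hc
    have h1 : M.submatrix e e = c • 1 := (conjMat P).injective (by rw [map_smul, map_one]; exact hc)
    have := congrFun (congrFun h1 (e.symm (0, j₀))) (e.symm (1, j₀))
    simp [hM, hs] at this
  · have hint : sᵀ * G = G * (1 • s + 1 • (1 : Matrix (Fin 2) (Fin 2) F)) := by
      ext i j
      fin_cases i <;> fin_cases j <;>
        simp [hs, Matrix.mul_apply, Fin.sum_univ_two, hGd, h01.1, h01.2, ← two_mul, h2, CharTwo.add_self_eq_zero]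
    have h1 : (evData hQ).adj z =
        conjMat P ((((1 : F) • s + (1 : F) • 1) ⊗ₖ (1 : Matrix (Fin k) (Fin k) F)).submatrix e e) := by
      refine (evData hQ).adj_of_intertwine e P ?_
      rw [show ((((1 : F) • s + (1 : F) • 1) ⊗ₖ (1 : Matrix (Fin k) (Fin k) F))).map (evData hQ).τ = _ from
        Matrix.map_id _, hpull, hM, ← Matrix.kroneckerMap_transpose, ← Matrix.mul_kronecker_mul,
        ← Matrix.mul_kronecker_mul, Matrix.transpose_one, one_mul, mul_one]
      congr 1
      simpa using hint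
    rw [h1, hlift, one_smul, one_smul]
    exact add_mem hzA (one_mem _)
  · intro g hg
    obtain ⟨a, b, hab⟩ := exists_kronecker_of_mem (hle hg)
    set A₂ := (a : Matrix (Fin 2) (Fin 2) F) with hA₂
    have hdet : A₂ 0 0 * A₂ 1 1 - A₂ 0 1 * A₂ 1 0 ≠ 0 := by
      rw [← Matrix.det_fin_two]; exact (Matrix.GeneralLinearGroup.det a).ne_zero
    obtain ⟨u, v, huv⟩ : ∃ u v : F, A₂ * s = (u • s + v • 1) * A₂ := by
      rcases hval (A₂ 0 0) with p | p <;> rcases hval (A₂ 0 1) with q | q <;>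
        rcases hval (A₂ 1 0) with r | r <;> rcases hval (A₂ 1 1) with w | w <;>
        first
          | (exfalso; apply hdet; simp [p, q, r, w]; done)
          | (refine ⟨1, 0, ?_⟩; ext i j; fin_cases i <;> fin_cases j <;>
              simp [hs, Matrix.mul_apply, Fin.sum_univ_two, p, q, r, w, CharTwo.add_self_eq_zero]; done)
          | (refine ⟨1, 1, ?_⟩; ext i j; fin_cases i <;> fin_cases j <;>
              simp [hs, Matrix.mul_apply, Fin.sum_univ_two, p, q, r, w, CharTwo.add_self_eq_zero]; done)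
    have hgz : conjMat g z = u • z + v • 1 := by
      rw [← hlift, hz, ← conjMat_glCoord]
      congr 1
      show _ = ((u • s + v • 1) ⊗ₖ (1 : Matrix (Fin k) (Fin k) F)).submatrix e e
      congr 1
      rw [conjMat_eq_iff_mul, hab, hM, ← Matrix.mul_kronecker_mul, ← Matrix.mul_kronecker_mul,
        mul_one, one_mul, huv]
    rw [hgz]
    exact add_mem (Subalgebra.smul_mem _ hzA _) (Subalgebra.smul_mem _ (one_mem _) _)

include hQ in
/-- An alternating plane as a factor forces plus type. -/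
theorem plus_of_alt_two {k : ℕ} (e : ι ≃ Fin 2 × Fin k) (P : GL ι F)
    (hvan : ∀ (x₁ : Fin 2 → F) (x₂ : Fin k → F),
      Q ((P : Matrix ι ι F) *ᵥ ((fun p : Fin 2 × Fin k => x₁ p.1 * x₂ p.2) ∘ e)) = 0) :
    IsPlusTypeOn (⇑Q) (⊤ : Submodule F (ι → F)) := by
  classical
  let L : (Fin k → F) →ₗ[F] (ι → F) :=
    { toFun := fun y => (P : Matrix ι ι F) *ᵥ
        ((fun p : Fin 2 × Fin k => (Pi.single 0 1 : Fin 2 → F) p.1 * y p.2) ∘ e)
      map_add' := fun y y' => by
        rw [← Matrix.mulVec_add]; congr 1; funext i; simp [mul_add]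
      map_smul' := fun c y => by
        rw [RingHom.id_apply, ← Matrix.mulVec_smul]; congr 1; funext i; simp [mul_left_comm] }
  have hL : Function.Injective L := fun y y' h => by
    have h1 := Matrix.mulVec_injective_iff_isUnit.2 P.isUnit h
    funext j
    simpa using congrFun h1 (e.symm (0, j))
  refine ⟨LinearMap.range L, le_top, ?_, ?_⟩
  · rintro _ ⟨y, rfl⟩
    exact hvan _ _
  · rw [LinearMap.finrank_range_of_inj hL, finrank_top, Module.finrank_fintype_fun_eq_card,
      Module.finrank_fintype_fun_eq_card, Fintype.card_congr e, Fintype.card_prod, Fintype.card_fin,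
      Fintype.card_fin]

include hQ in
/-- A tensor decomposition fixed by an irreducible group of isometries. -/
theorem tensor_cases (hn : 2 ≤ Fintype.card ι) (hH : H ≤ Cfsg.isometryGroup F (⇑Q)) (hirr : Irred H) {a k : ℕ}
    (ha : 2 ≤ a) (hk : 2 ≤ k) (e : ι ≃ Fin a × Fin k) (P : GL ι F)
    (Θ : Matrix (Fin a) (Fin a) F →ₐ[F] Matrix ι ι F)
    (hΘ : ∀ x, Θ x = conjMat P ((x ⊗ₖ (1 : Matrix (Fin k) (Fin k) F)).submatrix e e))
    (hadj : ∀ x, ∃ y, (evData hQ).adj (Θ x) = Θ y) (hle : H ≤ tensorProductSubgroup a k e P) :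
    CentreOutcome (evData hQ) H ∨ AltTensor Q H ∨ SymTensor hQ H := by
  classical
  haveI : Nonempty ι := Fintype.card_pos_iff.1 (by omega)
  haveI : NeZero a := ⟨by omega⟩
  haveI : NeZero k := ⟨by omega⟩
  obtain ⟨G, S, hG, hS, hpull⟩ := (evData hQ).exists_gram_tensor Θ e P hΘ hadj
  have hswap := pull_swap hQ e P hpull
  have hle' := hle.trans (tensorProduct_swap e P)
  have hsymm := ev_pull_symm hQ e P
  rw [hpull, ← Matrix.kroneckerMap_transpose] at hsymm
  obtain ⟨c, hc0, hGc, hSc⟩ := exists_smul_of_kronecker_eq hG hS hsymm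
  have hcc : c * c = 1 := by
    have h1 : G = (c * c) • G := by
      conv_lhs => rw [← Matrix.transpose_transpose G, hGc, Matrix.transpose_smul, hGc, smul_smul]
    have hG0 : G ≠ 0 := fun h => by rw [h, Matrix.det_zero] at hG; exact not_isUnit_zero hG
    exact smul_left_injective F hG0 (h1.symm.trans (one_smul F G).symm)
  have halt : ∀ {a k : ℕ} (e : ι ≃ Fin a × Fin k) (G : Matrix (Fin a) (Fin a) F)
      (S : Matrix (Fin k) (Fin k) F), 2 ≤ a → a ≤ k → IsUnit G.det → IsUnit S.det → Gᵀ = -G → Sᵀ = -S →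
      (∀ i, G i i = 0) → (∀ i, S i i = 0) → (evData hQ).pull e P = G ⊗ₖ S →
      H ≤ tensorProductSubgroup a k e P → CentreOutcome (evData hQ) H ∨ AltTensor Q H := by
    intro a k e G S ha' hak hG hS hGs hSs hGd hSd hpull hle
    by_cases hex : a = 2 ∧ Fintype.card F = 2
    · obtain ⟨rfl, hq⟩ := hex
      exact Or.inl (centre_of_alt_two hQ hq hn hH hirr e P hG hGs hGd hpull hle)
    refine Or.inr ?_
    exact ⟨a, k, e, P, sesqForm (RingHom.id F) G, sesqForm (RingHom.id F) S, ha', hak,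
      Nat.not_odd_iff_even.1 fun ho => not_isUnit_alternating_odd ho hGs hGd hG,
      Nat.not_odd_iff_even.1 fun ho => not_isUnit_alternating_odd ho hSs hSd hS,
      isSymplecticForm_sesqForm hGs hGd hG, isSymplecticForm_sesqForm hSs hSd hS,
      isTensorFormStructure_of_pull hQ e P hpull,
      vanishes_of_alternating hQ hn hH hirr e P hG hS hGs hSs hGd hSd hpull hle, hle, fun ha2 => by
        have h := Fintype.one_lt_card (α := F)
        by_contra hlt
        exact hex ⟨ha2, by omega⟩⟩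
  have halt2 : Gᵀ = -G → Sᵀ = -S → (∀ i, G i i = 0) → (∀ i, S i i = 0) → CentreOutcome (evData hQ) H ∨ AltTensor Q H ∨ SymTensor hQ H := by
    intro hGs hSs hGd hSd
    rcases le_total a k with h | h
    · exact (halt e G S ha h hG hS hGs hSs hGd hSd hpull hle).imp_right Or.inl
    · exact (halt _ S G hk h hS hG hSs hGs hSd hGd hswap hle').imp_right Or.inl
  by_cases h2 : (2 : F) = 0
  · have hneg : ∀ x : F, -x = x := fun x => by rw [neg_eq_iff_add_eq_zero, ← two_mul, h2, zero_mul]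
    have hc1 : c = 1 := by
      rcases mul_self_eq_one_iff.1 hcc with h | h
      · exact h
      · rw [h, hneg]
    subst hc1
    rw [one_smul] at hGc
    rw [inv_one, one_smul] at hSc
    by_cases hGd : ∃ i, G i i ≠ 0
    · obtain ⟨i, hi⟩ := hGd
      exact absurd hirr (not_irred_nonalt hQ e P h2 ha hG hS hGc hpull hH hle hi)
    by_cases hSd : ∃ i, S i i ≠ 0
    · obtain ⟨i, hi⟩ := hSd
      exact absurd hirr (not_irred_nonalt hQ _ P h2 hk hS hG hSc hswap hH hle' hi)
    push Not at hGd hSd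
    exact halt2 (hGc.trans (Matrix.ext fun p q => (hneg _).symm))
      (hSc.trans (Matrix.ext fun p q => (hneg _).symm)) hGd hSd
  rcases mul_self_eq_one_iff.1 hcc with rfl | rfl
  · rw [one_smul] at hGc
    rw [inv_one, one_smul] at hSc
    rcases Nat.lt_or_ge k 3 with hk3 | hk3
    · obtain rfl : k = 2 := by omega
      exact Or.inl (centre_of_symmetric_two hQ h2 hH hirr e P hG hS hSc hpull hle)
    rcases Nat.lt_or_ge a 3 with ha3 | ha3
    · obtain rfl : a = 2 := by omega
      exact Or.inl (centre_of_symmetric_two hQ h2 hH hirr _ P hS hG hGc hswap hle')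
    rcases le_total a k with h | h
    · exact Or.inr (Or.inr ⟨a, k, e, P, G, S, h2, ha3, h, hG, hS, hGc, hSc, hpull, hle⟩)
    · exact Or.inr (Or.inr ⟨k, a, _, P, S, G, h2, hk3, h, hS, hG, hSc, hGc, hswap, hle'⟩)
  · rw [neg_one_smul] at hGc
    rw [inv_neg, inv_one, neg_one_smul] at hSc
    exact halt2 hGc hSc (diag_zero_of_skew h2 hGc) (diag_zero_of_skew h2 hSc)

/-! ### Powers of a plane in dimension eight -/

/-- Coordinates on cubes of a plane. -/
def cubeEquiv : (Fin 3 → Fin 2) ≃ Fin 2 × (Fin 2 × Fin 2) where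
  toFun f := (f 0, (f 1, f 2))
  invFun p := ![p.1, p.2.1, p.2.2]
  left_inv f := by funext i; fin_cases i <;> rfl
  right_inv p := rfl

include hQ in
/-- An irreducible group on a cube of a plane forces plus type. -/
theorem plus_of_cube (hH : H ≤ Cfsg.isometryGroup F (⇑Q)) (hirr : Irred H) (e : ι ≃ (Fin 3 → Fin 2))
    (P : GL ι F) (Φ : Fin 3 → (Matrix (Fin 2) (Fin 2) F →ₐ[F] Matrix ι ι F))
    (hΦ : ∀ i x, Φ i x = conjMat P ((slotHom i x).submatrix e e))
    (hadj : ∀ x, ∃ y, ∀ i, (evData hQ).adj (Φ i x) = Φ i y)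
    (hle : H ≤ tensorWreathSubgroup 2 3 e P) : IsPlusTypeOn (⇑Q) (⊤ : Submodule F (ι → F)) := by
  classical
  have hcard : Fintype.card ι = 8 := by simp [Fintype.card_congr e]
  haveI : Nonempty ι := Fintype.card_pos_iff.1 (by omega)
  obtain ⟨G, c, hG, hc, hpull⟩ := (evData hQ).exists_gram_power (by norm_num) Φ e P hΦ hadj
  by_cases h2 : (2 : F) = 0
  swap
  · rw [plus_iff_square_gram hQ h2 (m := 4) hcard]
    have hdet : ((evData hQ).pull e P).det =
        ((P : Matrix ι ι F).det * (gramMatrix (QuadraticMap.polar (⇑Q))).det) * (P : Matrix ι ι F).det := by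
      rw [FormData.pull, Matrix.det_submatrix_equiv_self]
      rw [show (P : Matrix ι ι F).map (evData hQ).τ = (P : Matrix ι ι F) from Matrix.map_id _, Matrix.det_mul,
        Matrix.det_mul, Matrix.det_transpose]
      rfl
    have hp : (pureTensor (fun _ : Fin 3 => G)).det = (G.det ^ 6) ^ 2 := by
      have h1 : pureTensor (fun _ : Fin 3 => G) = (G ⊗ₖ (G ⊗ₖ G)).submatrix cubeEquiv cubeEquiv := by
        ext f g
        rw [pureTensor_apply, Fin.prod_univ_three, mul_assoc]
        rfl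
      rw [h1, Matrix.det_submatrix_equiv_self, Matrix.det_kronecker, Matrix.det_kronecker]
      simp only [Fintype.card_prod, Fintype.card_fin]
      ring
    rw [hpull, Matrix.det_smul, hp] at hdet
    simp only [Fintype.card_fun, Fintype.card_fin] at hdet
    have hP : (P : Matrix ι ι F).det ≠ 0 := (Matrix.GeneralLinearGroup.det P).ne_zero
    refine ⟨c ^ 4 * G.det ^ 6 / (P : Matrix ι ι F).det, ?_⟩
    field_simp
    linear_combination -hdet
  have hG0 : G ≠ 0 := fun h => by rw [h, Matrix.det_zero] at hG; exact not_isUnit_zero hG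
  have hneg : ∀ x : F, -x = x := fun x => by rw [neg_eq_iff_add_eq_zero, ← two_mul, h2, zero_mul]
  have hsymm : Gᵀ = G := by
    have h := ev_pull_symm hQ e P
    rw [hpull, Matrix.transpose_smul, pureTensor_transpose] at h
    have h1 := congrArg (c⁻¹ • ·) h
    simp only [smul_smul, inv_mul_cancel₀ hc, one_smul] at h1
    obtain ⟨α, hα⟩ := exists_smul_of_pureTensor one_ne_zero (fun _ => hG0) (h1.trans (one_smul F _).symm) 0
    have hα' : Gᵀ = α • G := hα
    have h3 : G = (α * α) • G := by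
      conv_lhs => rw [← Matrix.transpose_transpose G, hα', Matrix.transpose_smul, hα', smul_smul]
    rcases mul_self_eq_one_iff.1 (smul_left_injective F hG0 (h3.symm.trans (one_smul F G).symm)) with h4 | h4
    · rw [hα', h4, one_smul]
    · rw [hα', h4, hneg, one_smul]
  have hact : ∀ g ∈ H, ∃ (σ : Equiv.Perm (Fin 3)) (gs : Fin 3 → GL (Fin 2) F) (d : Fin 3 → F),
      (glCoord e P g : Matrix (Fin 3 → Fin 2) (Fin 3 → Fin 2) F) =
        monTensor σ (fun i => (gs i : Matrix (Fin 2) (Fin 2) F)) ∧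
      ∀ i, (gs i : Matrix (Fin 2) (Fin 2) F)ᵀ * G * (gs i : Matrix (Fin 2) (Fin 2) F) = d i • G := by
    intro g hg
    obtain ⟨σ, gs, hgs⟩ := exists_monTensor_of_mem_wreath (hle hg)
    have h := ev_pull_isometry hQ e P (hH hg)
    rw [hpull, hgs, Matrix.mul_smul, Matrix.smul_mul, monTensor_congr] at h
    have h1 := congrArg (c⁻¹ • ·) h
    simp only [smul_smul, inv_mul_cancel₀ hc, one_smul] at h1
    choose d hd using fun i => exists_smul_of_pureTensor (Y := fun _ : Fin 3 => G) one_ne_zero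
      (fun _ => hG0) (h1.trans (one_smul F _).symm) (σ i)
    refine ⟨σ, gs, d, hgs, fun i => ?_⟩
    simpa using hd i
  by_cases hdiag : ∃ i, G i i ≠ 0
  · obtain ⟨i, hi⟩ := hdiag
    obtain ⟨E, K, hE, hK, hEK, hproj⟩ := exists_projection h2 le_rfl hsymm hi
    refine absurd hirr (not_irred_of_invariant e P (pureTensor_ne_zero fun _ : Fin 3 => hE)
      (pureTensor_ne_zero fun _ : Fin 3 => hK) ?_ fun g hg => ?_)
    · rw [← map_mul]
      ext f f'
      rw [pureTensor_apply, Matrix.zero_apply]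
      refine Finset.prod_eq_zero (Finset.mem_univ (0 : Fin 3)) ?_
      rw [Pi.mul_apply, hEK, Matrix.zero_apply]
    · obtain ⟨σ, gs, d, hgs, hd⟩ := hact g hg
      rw [hgs, ← monTensor_one_left, monTensor_mul, monTensor_mul, monTensor_mul]
      congr 1
      funext i
      simpa using hproj _ _ (hd i)
  push Not at hdiag
  let Gu : Matrix (Fin 2) (Fin 2) F := Matrix.of fun a b => if a < b then G a b else 0
  have hGu : Gu + Guᵀ = G := by
    ext a b
    rcases lt_trichotomy a b with h | h | h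
    · simp [Gu, h, h.asymm]
    · subst h; simp [Gu, hdiag]
    · have hs : G b a = G a b := congrFun (congrFun hsymm a) b
      simp [Gu, h, h.asymm, hs]
  set X : Fin 3 → Matrix (Fin 2) (Fin 2) F := ![Gu, G, G] with hX
  have hU : c • pureTensor X + (c • pureTensor X)ᵀ = (evData hQ).pull e P := by
    rw [hpull, Matrix.transpose_smul, pureTensor_transpose, ← smul_add]
    congr 1
    ext f g
    simp only [Matrix.add_apply, pureTensor_apply, Fin.prod_univ_three, hX, Matrix.cons_val_zero,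
      Matrix.cons_val_one, Matrix.cons_val_two, Matrix.head_cons, Matrix.tail_cons, hsymm]
    rw [show G (f 0) (g 0) = Gu (f 0) (g 0) + Guᵀ (f 0) (g 0) by rw [← Matrix.add_apply, hGu]]
    ring
  have hX1 : ∀ j : Fin 3, j ≠ 0 → X j = G := fun j hj => by fin_cases j <;> simp_all [hX]
  have hform := quad_of_upper_formula hQ h2 (by omega) hH hirr e P hU (fun g hg f => by
    obtain ⟨σ, gs, d, hgs, hd⟩ := hact g hg
    rw [hgs, Matrix.mul_smul, Matrix.smul_mul, monTensor_congr, Matrix.smul_apply, Matrix.smul_apply,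
      pureTensor_apply, pureTensor_apply, Finset.prod_eq_zero (Finset.mem_univ (σ 1)) ?_,
      Finset.prod_eq_zero (Finset.mem_univ (1 : Fin 3)) ?_]
    · show X 1 (f 1) (f 1) = 0
      rw [hX1 1 (by decide), hdiag]
    · rw [show σ⁻¹ (σ 1) = 1 from σ.symm_apply_apply 1, hX1 1 (by decide), hd, Matrix.smul_apply, hdiag,
        smul_zero])
  let L : (Fin 2 × Fin 2 → F) →ₗ[F] (ι → F) :=
    { toFun := fun y => (P : Matrix ι ι F) *ᵥ
        ((fun f : Fin 3 → Fin 2 => if f 1 = 0 then y (f 0, f 2) else 0) ∘ e)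
      map_add' := fun y y' => by
        rw [← Matrix.mulVec_add]; congr 1; funext i; by_cases h : e i 1 = 0 <;> simp [h]
      map_smul' := fun r y => by
        rw [RingHom.id_apply, ← Matrix.mulVec_smul]; congr 1; funext i; by_cases h : e i 1 = 0 <;> simp [h] }
  have hL : Function.Injective L := fun y y' h => by
    have h1 := Matrix.mulVec_injective_iff_isUnit.2 P.isUnit h
    funext ⟨p, q⟩
    simpa using congrFun h1 (e.symm ![p, 0, q])
  refine ⟨LinearMap.range L, le_top, ?_, ?_⟩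
  · rintro _ ⟨y, rfl⟩
    show Q ((P : Matrix ι ι F) *ᵥ _) = 0
    rw [hform]
    simp only [dotProduct, Matrix.mulVec, Finset.mul_sum]
    refine Finset.sum_eq_zero fun f _ => Finset.sum_eq_zero fun g _ => ?_
    by_cases hf : f 1 = 0
    · by_cases hg : g 1 = 0
      · rw [Matrix.smul_apply, pureTensor_apply,
          Finset.prod_eq_zero (Finset.mem_univ (1 : Fin 3)) (by rw [hX1 1 (by decide), hf, hg, hdiag]),
          smul_zero, zero_mul, mul_zero]
      · simp [hg]
    · simp [hf]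
  · rw [LinearMap.finrank_range_of_inj hL, finrank_top, Module.finrank_fintype_fun_eq_card,
      Module.finrank_fintype_fun_eq_card, hcard, Fintype.card_prod, Fintype.card_fin]

end Cfsg.Agent.Aschbacher.Ev
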