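/-
Aschbacher's theorem for a quadratic form in even dimension.
-/
import Mathlib
import Cfsg.Agent.Aschbacher.Linear
import Cfsg.Agent.Aschbacher.Ev.Tensor
import Cfsg.Agent.Aschbacher.Ev.Abelian
import Cfsg.Agent.Aschbacher.Ev.Field
import Cfsg.Agent.Aschbacher.Formed.Descent

set_option autoImplicit false
set_option linter.style.haveILetI false
set_option linter.unusedSectionVars false

namespace Cfsg.Agent.Aschbacher.Ev

open Module Matrix
open Cfsg.Geo
open scoped commutatorElement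

variable {F : Type*} [Field F] [Fintype F] {ι : Type} [Fintype ι] [DecidableEq ι]
  {Q : QuadraticForm F (ι → F)} (hQ : (QuadraticMap.polarBilin Q).Nondegenerate)
  {H N : Subgroup (GL ι F)}

/-- The dimension is a proper power; in dimension eight the type is plus. -/
def PowerDim (Q : QuadraticForm F (ι → F)) : Prop :=
  ∃ a b : ℕ, 2 ≤ a ∧ 2 ≤ b ∧ Fintype.card ι = a ^ b ∧
    (Fintype.card ι = 8 → IsPlusTypeOn (⇑Q) (⊤ : Submodule F (ι → F)))

/-- What is left for an irreducible group. -/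
def EvClass (hQ : (QuadraticMap.polarBilin Q).Nondegenerate) (H : Subgroup (GL ι F)) : Prop :=
  CentreOutcome (evData hQ) H ∨ AltTensor Q H ∨ SymTensor hQ H ∨ PowerDim Q ∨ InEvSubfield Q H

include hQ in
/-- A normal subgroup that is not scalar spans all matrices, or `H` is in a class. -/
theorem adjoin_eq_top_or_evClass (hn : 2 ≤ Fintype.card ι) (hH : H ≤ Cfsg.isometryGroup F (⇑Q))
    (hirr : Irred H) (hN : N ≤ (evData hQ).sim) (hnorm : ∀ g ∈ H, ∀ x ∈ N, g * x * g⁻¹ ∈ N)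
    (hns : ¬ N ≤ scalars ι F) : EvClass hQ H ∨ Algebra.adjoin F (matrixSet N) = ⊤ := by
  classical
  haveI : Nonempty ι := Fintype.card_pos_iff.1 (by omega)
  set A := Algebra.adjoin F (matrixSet N) with hA
  have hconj : ∀ g ∈ H, ∀ x ∈ A, conjMat g x ∈ A := fun g hg x hx => conjMat_mem_adjoin (hnorm g hg) hx
  have hadj : ∀ x ∈ A, (evData hQ).adj x ∈ A := fun x hx => (evData hQ).adj_mem_adjoin hN hx
  by_cases hz : ∃ z₀ ∈ subCentre A, ∀ c : F, z₀ ≠ c • 1
  · exact Or.inl (Or.inl ((evData hQ).centre_cases H (hH.trans (evIso_le_sim hQ)) hirr A hconj hadj hz))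
  push Not at hz
  obtain ⟨a, ha, ⟨φ⟩⟩ := exists_algEquiv_of_scalar_centre A hirr hconj hz
  let Θ : Matrix (Fin a) (Fin a) F →ₐ[F] Matrix ι ι F :=
    A.val.comp φ.symm.toAlgHom
  obtain ⟨k, e, P, hP⟩ := exists_kronecker_basis Θ
  have hcard : Fintype.card ι = a * k := by simpa using Fintype.card_congr e
  have hle : H ≤ tensorProductSubgroup a k e P := by
    intro g hg
    refine mem_tensorProduct Θ e P hP g fun x =>
      ⟨φ ⟨conjMat g (Θ x), hconj g hg _ (φ.symm x).2⟩, ?_⟩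
    simp [Θ]
  rcases Nat.lt_or_ge a 2 with h1 | h1
  · obtain rfl : a = 1 := by omega
    exfalso
    apply hns
    intro x hx
    have hscal : φ ⟨(x : Matrix _ _ F), Algebra.subset_adjoin (mem_matrixSet hx)⟩ =
        algebraMap F _ (φ ⟨(x : Matrix _ _ F), Algebra.subset_adjoin (mem_matrixSet hx)⟩ 0 0) := by
      ext i j
      rw [Matrix.algebraMap_matrix_apply, if_pos (Subsingleton.elim i j), Subsingleton.elim i 0,
        Subsingleton.elim j 0]
      rfl
    have h3 := congrArg (fun y => ((φ.symm y : A) : Matrix ι ι F)) hscal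
    simp only [AlgEquiv.symm_apply_apply, AlgEquiv.commutes] at h3
    exact mem_scalars_of_eq_smul x _ (h3.trans (Algebra.algebraMap_eq_smul_one _))
  rcases Nat.lt_trichotomy k 1 with hk | hk | hk
  · have : k = 0 := by omega
    subst this
    rw [mul_zero] at hcard
    exact absurd hcard Fintype.card_ne_zero
  · right
    subst hk
    apply Algebra.toSubmodule_eq_top.1
    apply Submodule.eq_top_of_finrank_eq
    rw [Module.finrank_matrix, Module.finrank_self, mul_one]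
    show Module.finrank F A = _
    rw [φ.toLinearEquiv.finrank_eq, Module.finrank_matrix, Fintype.card_fin, Module.finrank_self,
      mul_one, hcard, mul_one]
  · refine Or.inl ?_
    rcases tensor_cases hQ hn hH hirr h1 hk e P Θ hP
      (fun x => ⟨φ ⟨_, hadj _ (φ.symm x).2⟩, by simp [Θ]⟩) hle with h | h | h
    · exact Or.inl h
    · exact Or.inr (Or.inl h)
    · exact Or.inr (Or.inr (Or.inl h))

include hQ in
/-- Several simple factors in the socle. -/
theorem powerDim_of_factors (hn : 2 ≤ Fintype.card ι) (hH : H ≤ Cfsg.isometryGroup F (⇑Q)) (hirr : Irred H)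
    (hN : N ≤ (evData hQ).sim) {t k : ℕ} [NeZero t]
    {Φ : Fin t → (Matrix (Fin k) (Fin k) F →ₐ[F] Matrix ι ι F)}
    {H' : Subgroup (GL ι F)} (hHH' : H ≤ H') (hH' : H' ≤ (evData hQ).sim)
    (hd : FactorData H' N t k Φ) : PowerDim Q := by
  classical
  haveI : Nonempty ι := Fintype.card_pos_iff.1 (by omega)
  obtain ⟨e, P, hP⟩ := exists_tensor_basis Φ hd.commute hd.gen
  have hcard : Fintype.card ι = k ^ t := by
    rw [Fintype.card_congr e, Fintype.card_fun, Fintype.card_fin, Fintype.card_fin]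
  refine ⟨k, t, hd.two_le_dim, hd.two_le, hcard, fun h8 => ?_⟩
  obtain ⟨rfl, rfl⟩ : k = 2 ∧ t = 3 := by
    have hk8 : k ≤ 8 := by
      rw [← h8, hcard]
      exact Nat.le_self_pow (NeZero.ne t) k
    have ht3 : t ≤ 3 := by
      by_contra h
      have h1 : 2 ^ 4 ≤ k ^ t :=
        (Nat.pow_le_pow_right (by norm_num) (by omega)).trans (Nat.pow_le_pow_left hd.two_le_dim t)
      omega
    have h := hd.two_le_dim
    have h' := hd.two_le
    rw [h8] at hcard
    interval_cases t <;> interval_cases k <;> first | exact ⟨rfl, rfl⟩ | norm_num at hcard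
  obtain ⟨Q', hQN, -, -, hQrange⟩ := hd.spanned 0
  have hadj : ∀ x, ∃ y, ∀ i, (evData hQ).adj (Φ i x) = Φ i y := by
    intro x
    have h1 : (evData hQ).adj (Φ 0 x) ∈ Algebra.adjoin F (matrixSet Q') := by
      refine (evData hQ).adj_mem_adjoin (hQN.trans hN) ?_
      show Φ 0 x ∈ (Algebra.adjoin F (matrixSet Q') : Set (Matrix ι ι F))
      rw [← hQrange]
      exact ⟨x, rfl⟩
    obtain ⟨y, hy⟩ := (hQrange.symm ▸ h1 : (evData hQ).adj (Φ 0 x) ∈ Set.range (Φ 0))
    refine ⟨y, fun i => ?_⟩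
    obtain ⟨h, hh, hh'⟩ := hd.conj_zero i
    rw [hh', hh', (evData hQ).adj_conjMat (hH' hh), hy]
  refine plus_of_cube hQ hH hirr e P Φ hP hadj ?_
  intro g hg
  obtain ⟨σ, hσ⟩ := hd.perm g (hHH' hg)
  exact mem_tensorWreath (Nat.pos_of_neZero 3) Φ hd.gen e P hP g σ hσ

include hQ in
/-- Aschbacher's theorem for a quadratic form in even dimension. -/
theorem ev_cases (hn : 4 ≤ Fintype.card ι) (heven : Even (Fintype.card ι))
    (hH : H ≤ Cfsg.isometryGroup F (⇑Q)) (hdet : ∀ g ∈ H, (g : Matrix ι ι F).det = 1) (hirr : Irred H) :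
    EvClass hQ H ∨ InOrthogonalResidualClass H := by
  classical
  haveI : Nonempty ι := Fintype.card_pos_iff.1 (by omega)
  set D := evData hQ with hD
  set Z := scalars ι F with hZ
  set H' := H ⊔ Z with hH'
  have hH'sim : H' ≤ D.sim := sup_le (hH.trans (evIso_le_sim hQ)) (scalars_le_ev_sim hQ)
  have hirr' : Irred H' := hirr.mono le_sup_left
  have hH'Z : ¬ H' ≤ Z := by
    intro hle
    set i₀ : ι := Classical.arbitrary ι
    let W : Submodule F (ι → F) := Submodule.span F {Pi.single i₀ 1}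
    have hne : (Pi.single i₀ (1 : F) : ι → F) ≠ 0 := fun h =>
      (one_ne_zero : (1 : F) ≠ 0) (by simpa using congrFun h i₀)
    have hW : W = ⊤ := hirr'.eq_top (fun g hg v hv => by
      obtain ⟨c, hc⟩ := (Cfsg.Geo.mem_scalars_iff g).1 (hle hg)
      rw [hc, smul_mulVec']
      exact W.smul_mem _ hv) (Submodule.mem_span_singleton_self _) hne
    have h1 : Module.finrank F W = 1 := finrank_span_singleton hne
    rw [hW, finrank_top, Module.finrank_fintype_fun_eq_card] at h1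
    omega
  obtain ⟨N, ⟨hZN, hNZ, hNH, hnorm⟩, hNmin⟩ := exists_minimal_subgroup
    {N : Subgroup (GL ι F) | Z ≤ N ∧ ¬ N ≤ Z ∧ N ≤ H' ∧ ∀ g ∈ H', ∀ x ∈ N, g * x * g⁻¹ ∈ N}
    ⟨H', le_sup_right, hH'Z, le_rfl, fun g hg x hx => mul_mem (mul_mem hg hx) (inv_mem hg)⟩
  have hmin : ∀ M : Subgroup (GL ι F), Z ≤ M → M ≤ N →
      (∀ g ∈ H', ∀ x ∈ M, g * x * g⁻¹ ∈ M) → M = Z ∨ M = N := by
    intro M hZM hMN hM
    by_cases h : M ≤ Z
    · exact Or.inl (le_antisymm h hZM)
    · exact Or.inr (hNmin M ⟨hZM, h, hMN.trans hNH, hM⟩ hMN)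
  have hminH : ∀ M : Subgroup (GL ι F), Z ≤ M → M ≤ N →
      (∀ g ∈ H, ∀ x ∈ M, g * x * g⁻¹ ∈ M) → M = Z ∨ M = N := by
    intro M hZM hMN hM
    refine hmin M hZM hMN fun g hg x hx => ?_
    obtain ⟨h, hh, z, hz, rfl⟩ := Subgroup.mem_sup_of_normal_right.1 hg
    rw [show h * z * x * (h * z)⁻¹ = h * (z * x * z⁻¹) * h⁻¹ by group, ← scalars_comm hz x,
      mul_inv_cancel_right]
    exact hM h hh x hx
  rcases adjoin_eq_top_or_evClass hQ (by omega) hH hirr (hNH.trans hH'sim)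
    (fun g hg => hnorm g (Subgroup.mem_sup_left hg)) hNZ with h | htop
  · exact Or.inl h
  by_cases hab : ⁅N, N⁆ ≤ Z
  · left
    refine Or.inr (Or.inr (Or.inr (Or.inl ?_)))
    obtain ⟨k, hk, h8⟩ := abelian_ev hQ (by omega) heven hH hdet hZN hNZ hNH
      (fun g hg => hnorm g (Subgroup.mem_sup_left hg)) htop (fun x hx y hy => by
        rw [← commutatorElement_def]
        exact hab (Subgroup.commutator_mem_commutator hx hy)) hminH
    refine ⟨2, k, le_rfl, ?_, hk, h8⟩
    by_contra hk2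
    have : k ≤ 1 := by omega
    interval_cases k <;> omega
  obtain ⟨T, ⟨hZT, hTZ, hTN, hTnorm⟩, hTmin'⟩ := exists_minimal_subgroup
    {T : Subgroup (GL ι F) | Z ≤ T ∧ ¬ T ≤ Z ∧ T ≤ N ∧ ∀ g ∈ N, ∀ x ∈ T, g * x * g⁻¹ ∈ T}
    ⟨N, hZN, hNZ, le_rfl, fun g hg x hx => mul_mem (mul_mem hg hx) (inv_mem hg)⟩
  have hTmin : ∀ M : Subgroup (GL ι F), Z ≤ M → M ≤ T →
      (∀ g ∈ N, ∀ x ∈ M, g * x * g⁻¹ ∈ M) → M = Z ∨ M = T := by
    intro M hZM hMT hM
    by_cases h : M ≤ Z
    · exact Or.inl (le_antisymm h hZM)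
    · exact Or.inr (hTmin' M ⟨hZM, h, hMT.trans hTN, hM⟩ hMT)
  rcases lt_or_eq_of_le hTN with hlt | rfl
  · obtain ⟨t, k, _, Φ, hd⟩ :=
      exists_factorData htop hnorm hmin hab hZT (fun h => hTZ h.le) hlt hTnorm hTmin
    exact Or.inl (Or.inr (Or.inr (Or.inr (Or.inl
      (powerDim_of_factors hQ (by omega) hH hirr (hNH.trans hH'sim) le_sup_left hH'sim hd)))))
  -- the almost simple case
  set P := ⁅T, T⁆ with hP
  have hPle : P ≤ T := by
    rw [hP, Subgroup.commutator_le]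
    exact fun a ha b hb => mul_mem (mul_mem (mul_mem ha hb) (inv_mem ha)) (inv_mem hb)
  have hPconj : ∀ g ∈ H', ∀ x ∈ P, g * x * g⁻¹ ∈ P := fun g hg => conj_mem_commutator (hnorm g hg)
  have hPT : P ⊔ Z = T := by
    rcases hmin (P ⊔ Z) le_sup_right (sup_le hPle hZT) (fun g hg x hx => by
      obtain ⟨p, hp, z, hz, rfl⟩ := Subgroup.mem_sup_of_normal_right.1 hx
      rw [show g * (p * z) * g⁻¹ = (g * p * g⁻¹) * (g * z * g⁻¹) by group]
      exact Subgroup.mul_mem _ (Subgroup.mem_sup_left (hPconj g hg p hp))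
        (Subgroup.mem_sup_right (Subgroup.Normal.conj_mem inferInstance z hz g))) with h | h
    · exact absurd (le_sup_left.trans h.le) hab
    · exact h
  have hPtop : Algebra.adjoin F (matrixSet P) = ⊤ := by rw [← htop, ← hPT, adjoin_sup_scalars]
  have habs := absIrred_of_adjoin_eq_top hPtop
  have hperf : ⁅P, P⁆ = P := by rw [← commutator_sup_scalars P, hPT, hP]
  have hPH : P ≤ H := by
    rw [hP]
    refine le_trans (Subgroup.commutator_mono hNH hNH) ?_
    rw [hH', commutator_sup_scalars, Subgroup.commutator_le]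
    exact fun a ha b hb => mul_mem (mul_mem (mul_mem ha hb) (inv_mem ha)) (inv_mem hb)
  have hnorm' : ∀ g ∈ H, ∀ x ∈ P, g * x * g⁻¹ ∈ P := fun g hg => hPconj g (Subgroup.mem_sup_left hg)
  have hfixT : Fixes D.τ.toRingHom P D.T :=
    (fixesForm_iff _ P D.T).1 (by rintro _ ⟨s, hs, rfl⟩ u v; exact form_of_mem hQ (hH (hPH hs)) u v)
  by_cases hreal : ∃ F₀ : Subfield F, F₀ ≠ ⊤ ∧ RealisableOver F₀ (matrixSet P)
  · obtain ⟨F₀, hne, hr⟩ := hreal
    exact Or.inl (Or.inr (Or.inr (Or.inr (Or.inr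
      (inEvSubfield_of_realisable hQ (by omega) hH hirr habs hPH hnorm' hne hr)))))
  have hunit : ¬ ∃ (σ : F ≃+* F) (f : (ι → F) → (ι → F) → F),
      IsUnitaryForm σ f ∧ FixesForm (matrixSet P) f := by
    rintro ⟨σ, f, hf, hfix⟩
    obtain ⟨S, rfl⟩ := exists_sesqForm_of_unitary hf
    have hS := isUnit_det_of_nondegenerate _ hf.nondegenerate
    obtain ⟨a₀, ha₀⟩ : ∃ a, σ a ≠ a := by
      by_contra hall
      push Not at hall
      exact hf.ne_refl (RingEquiv.ext hall)
    exact hreal (exists_realisable_of_two_forms σ.toRingHom hf.involutive ha₀ habs D.isUnit hS hfixT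
      ((fixesForm_iff _ P S).1 hfix))
  right
  haveI hnormZ : (Z.subgroupOf P).Normal := by
    refine ⟨fun a ha b => ?_⟩
    show (b : GL ι F) * a * (b : GL ι F)⁻¹ ∈ Z
    exact Subgroup.Normal.conj_mem inferInstance _ ha _
  have hsimple : IsSimpleGroup (P ⧸ Z.subgroupOf P) :=
    isSimpleGroup_core (fun z hz => scalars_comm hz) hZT hPle hab hPT hP hTmin
  have hnonab : ¬ IsMulCommutative (P ⧸ Z.subgroupOf P) :=
    not_isMulCommutative_of_perfect hperf (fun h => hab (hP ▸ h))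
  refine ⟨P, ⟨hPH, hnorm', hperf, hsimple, hnonab, ?_, habs, fun F₀ h0 hr => hreal ⟨F₀, h0, hr⟩⟩, hunit⟩
  intro g _ hgP
  obtain ⟨c, hc⟩ := habs.2 (g : Matrix ι ι F) (by
    rintro _ ⟨p, hp, rfl⟩
    exact congrArg Units.val (commute_commutator_of_scalar hgP p (hperf.symm ▸ hp)))
  exact mem_scalars_of_eq_smul g c hc

end Cfsg.Agent.Aschbacher.Ev
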