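/-
Omega is contained in none of the members, in any characteristic.
-/
import Mathlib
import Cfsg.Agent.Aschbacher.Ev.Types
import Cfsg.Agent.Aschbacher.Or.Lists.Proper
import Cfsg.Agent.Aschbacher.Formed.Coord

set_option autoImplicit false
set_option linter.style.haveILetI false
set_option linter.unusedSectionVars false

namespace Cfsg.Agent.Aschbacher.Ev

open Module Matrix
open Cfsg.Geo
open Cfsg.Agent.Forms.QuadStd Cfsg.Agent.Forms.Reflections Cfsg.Agent.Classical.Orth
open scoped commutatorElement Kronecker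

variable {F : Type*} [Field F] [Fintype F] {ι : Type} [Fintype ι] [DecidableEq ι] {Q : QuadraticForm F (ι → F)}

local notation "Vec" => (ι → F)
local notation "B" => QuadraticMap.polar Q

section frame

variable (hQ : (QuadraticMap.polarBilin Q).Nondegenerate)

include hQ in
/-- Two orthogonal hyperbolic pairs and a non-singular vector orthogonal to both. -/
theorem exists_frame_ev (hn : 8 ≤ Fintype.card ι)
    (h8 : Fintype.card ι = 8 → ¬ IsPlusTypeOn (⇑Q) (⊤ : Submodule F Vec)) : Nonempty (Frame Q) := by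
  rcases Nat.lt_or_ge (Fintype.card ι) 9 with h | h
  swap
  · exact Forms.Max.Orth.exists_frame hQ (by omega)
  have hn8 : Fintype.card ι = 8 := by omega
  have htop : ∀ r ∈ (⊤ : Submodule F Vec), r ≠ 0 → ∃ s ∈ (⊤ : Submodule F Vec), B r s ≠ 0 :=
    fun r _ hr => let ⟨s, hs⟩ := Forms.Max.Orth.exists_ne hQ hr; ⟨s, trivial, hs⟩
  obtain ⟨u, v, -, -, hp⟩ := Forms.Max.Orth.exists_pair hQ htop
    (by rw [finrank_top, Module.finrank_fintype_fun_eq_card]; omega)
  set S := Forms.Max.Orth.ker Q u ⊓ Forms.Max.Orth.ker Q v with hS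
  have hd : Fintype.card ι ≤ Module.finrank F S + 2 := by
    have h1 := Forms.Max.Orth.finrank_inf_ker hQ ⊤ u
    rw [top_inf_eq, finrank_top, Module.finrank_fintype_fun_eq_card] at h1
    have h2 := Forms.Max.Orth.finrank_inf_ker hQ (Forms.Max.Orth.ker Q u) v
    rw [← hS] at h2
    omega
  have hSn : ∀ r ∈ S, r ≠ 0 → ∃ s ∈ S, B r s ≠ 0 := by
    intro r hr hr0
    obtain ⟨s, hs⟩ := Forms.Max.Orth.exists_ne hQ hr0
    refine ⟨proj Q u v s, ⟨?_, ?_⟩, ?_⟩
    · rw [SetLike.mem_coe, Forms.Max.Orth.mem_ker', QuadraticMap.polar_comm]; exact (proj_perp hp s).1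
    · rw [SetLike.mem_coe, Forms.Max.Orth.mem_ker', QuadraticMap.polar_comm]; exact (proj_perp hp s).2
    · simp only [proj, QuadraticMap.polar_sub_right, QuadraticMap.polar_smul_right,
        QuadraticMap.polar_comm _ r u, QuadraticMap.polar_comm _ r v, Forms.Max.Orth.mem_ker'.1 hr.1,
        Forms.Max.Orth.mem_ker'.1 hr.2, smul_zero, sub_zero]
      exact hs
  obtain ⟨u', v', hu', hv', hp'⟩ := Forms.Max.Orth.exists_pair hQ hSn (by omega)
  obtain ⟨x₀, hx₀, hx⟩ : ∃ x ∈ S ⊓ Forms.Max.Orth.ker Q u' ⊓ Forms.Max.Orth.ker Q v', Q x ≠ 0 := by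
    by_contra hc
    push Not at hc
    have h1 := Forms.Max.Orth.finrank_sing_le hQ hc
    have h2 := Forms.Max.Orth.finrank_inf_ker hQ S u'
    have h3 := Forms.Max.Orth.finrank_inf_ker hQ (S ⊓ Forms.Max.Orth.ker Q u') v'
    refine h8 hn8 ⟨_, le_top, hc, ?_⟩
    rw [finrank_top, Module.finrank_fintype_fun_eq_card]
    omega
  exact ⟨⟨u, v, u', v', x₀, hp, hp', hu'.1, hv'.1, hu'.2, hv'.2, hx₀.1.1.1, hx₀.1.1.2, hx₀.1.2,
    hx₀.2, hx⟩⟩

end frame

variable (hQ : (QuadraticMap.polarBilin Q).Nondegenerate) (f : Frame Q) (hn : 5 ≤ Fintype.card ι)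

include hQ f hn

lemma commutator_omegaGL : ⁅omegaGL ⇑Q, omegaGL ⇑Q⁆ = omegaGL ⇑Q := by
  rw [omegaGL, ← Subgroup.map_commutator]
  congr 1
  have h := commutator_omega_eq_top hQ f hn
  rw [← Subgroup.map_subtype_commutator, h, ← MonoidHom.range_eq_map, Subgroup.range_subtype]

omit f hn hQ in
lemma root_image_le {u w : Vec} (hu : Q u = 0) (hw : Q w = 0) (huw : B u w = 0) (v : Vec) :
    (rootGL hu huw : Matrix ι ι F) *ᵥ v - v ∈ Submodule.span F {w, u} := by
  rw [rootGL_mulVec hu hw huw, add_sub_cancel_left]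
  exact sub_mem (Submodule.smul_mem _ _ (Submodule.subset_span (by simp)))
    (Submodule.smul_mem _ _ (Submodule.subset_span (by simp)))

omit f hn hQ in
lemma finrank_root_image_le {u w : Vec} : finrank F (Submodule.span F {w, u} : Submodule F Vec) ≤ 2 := by
  classical
  refine (finrank_span_le_card _).trans ?_
  simp only [Set.toFinset_insert, Set.toFinset_singleton]
  exact Finset.card_le_two

/-- Omega fixes no decomposition into parts of dimension at least two. -/
theorem not_omega_le_parts {t k : ℕ} {D : Fin t → Submodule F Vec} (hk : 2 ≤ k) (hD : IsMDecomposition k D) :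
    ¬ omegaGL ⇑Q ≤ decompositionStabilizer D := by
  classical
  intro hle
  have hne : ∀ i, D i ≠ ⊥ := fun i h => by
    have := hD.finrank_eq i
    rw [h, finrank_bot] at this
    omega
  have hinjD : Function.Injective D := by
    intro i j hij
    by_contra hne'
    have hd := hD.indep.pairwiseDisjoint hne'
    rw [Function.onFun, hij, disjoint_self] at hd
    exact hne j hd
  choose π hπ using fun g : omegaGL ⇑Q => hle g.2
  have hmul : ∀ a b, π (a * b) = π a * π b := by
    intro a b
    refine Equiv.ext fun i => hinjD ?_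
    rw [← hπ, Equiv.Perm.mul_apply, ← hπ a, ← hπ b, Subgroup.coe_mul, Units.val_mul, Matrix.toLin'_mul,
      Submodule.map_comp]
  let Φ : omegaGL ⇑Q →* ℤˣ := Equiv.Perm.sign.comp (MonoidHom.mk' π hmul)
  have hsign : ∀ g, Equiv.Perm.sign (π g) = 1 := by
    intro g
    have h1 : omegaGL ⇑Q ≤ Φ.ker.map (omegaGL ⇑Q).subtype := by
      conv_lhs => rw [← commutator_omegaGL hQ f hn]
      rw [Subgroup.commutator_le]
      intro a ha b hb
      refine ⟨⁅(⟨a, ha⟩ : omegaGL ⇑Q), (⟨b, hb⟩ : omegaGL ⇑Q)⁆, ?_, rfl⟩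
      rw [SetLike.mem_coe, MonoidHom.mem_ker, map_commutatorElement, commutatorElement_eq_one_iff_mul_comm]
      exact mul_comm _ _
    obtain ⟨x, hx, hxg⟩ := h1 g.2
    rw [← Subtype.ext (a2 := g) hxg]
    exact MonoidHom.mem_ker.1 hx
  set i₀ : Fin t := ⟨0, by have := hD.two_le; omega⟩
  have htop : D i₀ = ⊤ := by
    refine eq_top_of_root_invariant hQ hn (hne i₀) fun u w hu hw huw => ?_
    set gg : omegaGL ⇑Q := ⟨rootGL hu huw, rootGL_mem hQ f hn hu huw⟩ with hgg
    set g := rootGL hu huw with hg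
    set σ := π gg
    set R : Submodule F Vec := Submodule.span F {w, u}
    have hmap : ∀ (l : Fin t) (v : Vec), v ∈ D l → (g : Matrix ι ι F) *ᵥ v ∈ D (σ l) := fun l v hv => by
      rw [← hπ gg l, ← Matrix.toLin'_apply]
      exact Submodule.mem_map_of_mem hv
    refine mem_subspaceStabilizer_of_forall fun v hv => ?_
    suffices h : σ i₀ = i₀ by
      have := hmap i₀ v hv
      rwa [h] at this
    by_contra hmove
    -- a moved part fills the image
    have hsub : ∀ i, σ i ≠ i → R ≤ D i ⊔ D (σ i) ∧ k ≤ 2 := by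
      intro i hi
      let L : D i →ₗ[F] Vec := ((Matrix.toLin' (g : Matrix ι ι F)) - LinearMap.id).comp (D i).subtype
      have hL : ∀ z : D i, L z = (g : Matrix ι ι F) *ᵥ (z : Vec) - z := fun z => by simp [L, Matrix.toLin'_apply]
      have hLinj : Function.Injective L := by
        rw [← LinearMap.ker_eq_bot, LinearMap.ker_eq_bot']
        intro z hz
        rw [hL, sub_eq_zero] at hz
        have h1 : (z : Vec) ∈ D i ⊓ D (σ i) := ⟨z.2, hz ▸ hmap i z z.2⟩
        rw [(hD.indep.pairwiseDisjoint (Ne.symm hi)).eq_bot, Submodule.mem_bot] at h1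
        exact Subtype.ext h1
      have hle' : LinearMap.range L ≤ R := by
        rintro _ ⟨z, rfl⟩
        rw [hL]
        exact root_image_le hu hw huw _
      have hrank : finrank F (LinearMap.range L) = k := by
        rw [LinearMap.finrank_range_of_inj hLinj, hD.finrank_eq]
      have hk2 : k ≤ 2 := hrank ▸ (Submodule.finrank_mono hle').trans finrank_root_image_le
      refine ⟨?_, hk2⟩
      have heq : LinearMap.range L = R :=
        Submodule.eq_of_le_of_finrank_le hle' (by rw [hrank]; exact finrank_root_image_le.trans hk)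
      rw [← heq]
      rintro _ ⟨z, rfl⟩
      rw [hL]
      exact sub_mem (Submodule.mem_sup_right (hmap i z z.2)) (Submodule.mem_sup_left z.2)
    -- so the permutation is a transposition
    set j := σ i₀ with hj
    have hR0 : ¬ R ≤ ⊥ := by
      intro h
      obtain ⟨z, hz, hz0⟩ := Submodule.exists_mem_ne_zero_of_ne_bot (hne i₀)
      have h1 : (g : Matrix ι ι F) *ᵥ z - z ∈ R := root_image_le hu hw huw z
      have h3 := h h1
      rw [Submodule.mem_bot, sub_eq_zero] at h3
      have h4 : z ∈ D i₀ ⊓ D j := ⟨hz, h3 ▸ hmap i₀ z hz⟩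
      rw [(hD.indep.pairwiseDisjoint (Ne.symm hmove)).eq_bot, Submodule.mem_bot] at h4
      exact hz0 h4
    have hdisj : ∀ a b c d : Fin t, a ≠ c → a ≠ d → b ≠ c → b ≠ d → (D a ⊔ D b) ⊓ (D c ⊔ D d) = ⊥ := by
      intro a b c d h1 h2 h3 h4
      have h := hD.indep.disjoint_biSup_biSup (s := ({a, b} : Set (Fin t))) (t := ({c, d} : Set (Fin t))) (by
        rw [Set.disjoint_left]
        rintro x (rfl | rfl) (rfl | rfl) <;> contradiction)
      simp only [iSup_pair] at h
      exact h.eq_bot
    have hσj : σ j = i₀ := by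
      by_contra hne'
      have hjne : σ j ≠ j := fun h => hmove (σ.injective h)
      obtain ⟨z, hz, hz0⟩ := Submodule.exists_mem_ne_zero_of_ne_bot (hne i₀)
      have h1 : (g : Matrix ι ι F) *ᵥ z - z ∈ R := root_image_le hu hw huw z
      have h3 := (hsub j hjne).1 h1
      have h4 : z ∈ D i₀ ⊓ ⨆ (l : Fin t) (_ : l ≠ i₀), D l := by
        refine ⟨hz, ?_⟩
        have hjsup : D j ⊔ D (σ j) ≤ ⨆ (l : Fin t) (_ : l ≠ i₀), D l :=
          sup_le (le_iSup₂_of_le j hmove le_rfl) (le_iSup₂_of_le (σ j) hne' le_rfl)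
        have e : z = (g : Matrix ι ι F) *ᵥ z - ((g : Matrix ι ι F) *ᵥ z - z) := by abel
        rw [e]
        exact sub_mem (Submodule.mem_iSup_of_mem j (Submodule.mem_iSup_of_mem hmove (hmap i₀ z hz))) (hjsup h3)
      rw [(hD.indep i₀).eq_bot, Submodule.mem_bot] at h4
      exact hz0 h4
    have hswap : σ = Equiv.swap i₀ j := by
      refine Equiv.ext fun l => ?_
      by_cases hl : l = i₀
      · subst hl; rw [Equiv.swap_apply_left]
      by_cases hl' : l = j
      · subst hl'; rw [Equiv.swap_apply_right, hσj]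
      rw [Equiv.swap_apply_of_ne_of_ne hl hl']
      by_contra hml
      apply hR0
      have h1 := le_inf (hsub i₀ hmove).1 (hsub l hml).1
      rwa [hdisj i₀ j l (σ l) (Ne.symm hl) ?_ (Ne.symm hl') ?_] at h1
      · exact fun h => hl' (σ.injective (by rw [← h, hσj]))
      · exact fun h => hl (σ.injective (by rw [← h]))
    have h := hsign gg
    rw [show π gg = σ from rfl, hswap, Equiv.Perm.sign_swap (Ne.symm hmove)] at h
    exact absurd h (by decide)
  have h1 := hD.finrank_eq i₀
  rw [htop, finrank_top, Module.finrank_fintype_fun_eq_card, card_eq_of_decomposition hD] at h1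
  have := hD.two_le
  nlinarith

/-- Omega fixes no decomposition. -/
theorem not_omega_le_decompositionAny {t k : ℕ} {D : Fin t → Submodule F Vec} (hD : IsMDecomposition k D)
    (hk : k = 1 → (2 : F) ≠ 0) : ¬ omegaGL ⇑Q ≤ decompositionStabilizer D := by
  rcases Nat.lt_or_ge k 2 with h | h
  · exact Cfsg.Agent.Aschbacher.not_omega_le_decomposition hQ f hn (hk (by have := hD.pos; omega)) hD
  · exact not_omega_le_parts hQ f hn h hD

/-- Omega lies in no subfield member. -/
theorem not_omega_le_subfieldAny {F₀ : Subfield F} {r : ℕ} (hr : r.Prime)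
    (hcard : Fintype.card F = Nat.card F₀ ^ r) (P : GL ι F) : ¬ omegaGL ⇑Q ≤ subfieldSubgroup F₀ P := by
  classical
  by_cases h2 : (2 : F) = 0
  swap
  · exact Cfsg.Agent.Aschbacher.not_omega_le_subfield hQ f hn h2 hr hcard P
  intro hle
  set N : Matrix ι ι F := (rootGL f.p.hu f.uu' : Matrix ι ι F) - 1 with hN
  set Pi' : Matrix ι ι F := ((P⁻¹ : GL ι F) : Matrix ι ι F)
  set N' : Matrix ι ι F := Pi' * N * (P : Matrix ι ι F) with hN'
  have hN'0 : N' ≠ 0 := fun h => frame_root f (by
    have := congrArg (fun M => (P : Matrix ι ι F) * M * Pi') h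
    simpa [hN', Pi', ← mul_assoc, mul_assoc _ (P : Matrix ι ι F) ((P⁻¹ : GL ι F) : Matrix ι ι F)] using this)
  have hN'sq : N' * N' = 0 := by
    have h := rootGL_sub_one_sq f.p.hu f.p'.hu f.uu'
    rw [← hN] at h
    calc N' * N' = Pi' * (N * ((P : Matrix ι ι F) * Pi') * N) * (P : Matrix ι ι F) := by
          simp only [hN', mul_assoc]
      _ = 0 := by simp only [Pi', Units.mul_inv, mul_one, h, mul_zero, zero_mul]
  obtain ⟨i, j, hij, hne⟩ : ∃ i j, i ≠ j ∧ N' i j ≠ 0 := by
    by_contra hall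
    push Not at hall
    have hd : N' = Matrix.diagonal fun i => N' i i := by
      ext a b
      by_cases h : a = b
      · subst h; simp
      · rw [Matrix.diagonal_apply_ne _ h, hall a b h]
    have : ∀ a, N' a a = 0 := fun a => by
      have h := congrFun (congrFun hN'sq a) a
      rw [hd, Matrix.diagonal_mul_diagonal, Matrix.diagonal_apply_eq, Matrix.zero_apply] at h
      exact mul_self_eq_zero.1 h
    exact hN'0 (by rw [hd]; simp [this])
  haveI : CharP F 2 := CharTwo.of_one_ne_zero_of_two_eq_zero one_ne_zero h2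
  haveI : Fintype F₀ := Fintype.ofFinite F₀
  have key : ∀ t : F, t ≠ 0 → t * N' i j ∈ F₀ := by
    intro t ht
    have huw : QuadraticMap.polar Q f.u (t • f.u') = 0 := by
      rw [QuadraticMap.polar_smul_right, f.uu', smul_zero]
    have hQw : Q (t • f.u') = 0 := by rw [QuadraticMap.map_smul, f.p'.hu, smul_zero]
    set g := rootGL f.p.hu huw with hg
    have hgN : (g : Matrix ι ι F) = 1 + t • N := by
      refine Matrix.ext_iff_mulVec.2 fun x => ?_
      rw [hg, rootGL_mulVec f.p.hu hQw, Matrix.add_mulVec, Matrix.one_mulVec, Matrix.smul_mulVec, hN,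
        rootGL_sub_one_mulVec f.p.hu f.p'.hu, QuadraticMap.polar_smul_right]
      module
    obtain ⟨x, hx, hxg⟩ := Subgroup.mem_map.1 (hle (rootGL_mem hQ f hn f.p.hu huw))
    obtain ⟨y, ⟨A, rfl⟩, z, hz, rfl⟩ := Subgroup.mem_sup_of_normal_right.1 hx
    obtain ⟨c, hc⟩ := (Cfsg.Geo.mem_scalars_iff z).1 hz
    set A' : Matrix ι ι F := (A : Matrix ι ι F₀).map F₀.subtype with hA'
    have hAF : ∀ a b, A' a b ∈ F₀ := fun a b => ((A : Matrix ι ι F₀) a b).2
    have hM : 1 + t • N' = (c : F) • A' := by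
      have h1 : Pi' * (g : Matrix ι ι F) * (P : Matrix ι ι F) = (c : F) • A' := by
        rw [hg, ← hxg]
        show Pi' * ((P : Matrix ι ι F) * (A' * (z : Matrix ι ι F)) * ((P⁻¹ : GL ι F) : Matrix ι ι F)) *
          (P : Matrix ι ι F) = _
        simp only [Pi', ← mul_assoc, Units.inv_mul, one_mul]
        rw [mul_assoc _ ((P⁻¹ : GL ι F) : Matrix ι ι F), Units.inv_mul, mul_one, hc, Matrix.mul_smul, mul_one]
      rw [← h1, hgN, mul_add, mul_one, add_mul, Matrix.mul_smul, Matrix.smul_mul, hN']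
      simp [Pi']
    have e1 : t * N' i j = (c : F) * A' i j := by
      have := congrFun (congrFun hM i) j
      simpa [Matrix.one_apply_ne hij] using this
    have e2 : (c : F) * (c : F) * (A' * A') i i = 1 := by
      have hMM : (1 + t • N') * (1 + t • N') = ((c : F) • A') * ((c : F) • A') := by rw [hM]
      simp only [mul_add, add_mul, Matrix.mul_smul, Matrix.smul_mul, one_mul, mul_one, hN'sq, smul_zero,
        add_zero, smul_smul] at hMM
      have h := congrFun (congrFun hMM i) i
      simp only [Matrix.add_apply, Matrix.smul_apply, smul_eq_mul, Matrix.one_apply_eq] at h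
      rw [← h]
      linear_combination (t * N' i i) * h2
    have hcF : (c : F) ∈ F₀ := by
      have h1 : (c : F) * (c : F) ∈ F₀ := by
        rw [eq_inv_of_mul_eq_one_left e2]
        exact inv_mem (by rw [Matrix.mul_apply]; exact sum_mem fun l _ => mul_mem (hAF _ _) (hAF _ _))
      obtain ⟨b, hb⟩ := exists_sq_eq (F := F₀) (F₀.subtype.injective (by rw [map_ofNat, map_zero]; exact h2)) ⟨_, h1⟩
      have hb' : (b : F) * (b : F) = (c : F) * (c : F) := by
        have := congrArg (fun x : F₀ => (x : F)) hb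
        simpa [sq] using this
      rcases mul_self_eq_mul_self_iff.1 hb' with h | h
      · exact h ▸ b.2
      · rw [CharTwo.neg_eq] at h
        exact h ▸ b.2
    rw [e1]
    exact mul_mem hcF (hAF _ _)
  have htop : ∀ t : F, t ∈ F₀ := by
    intro t
    by_cases ht : t = 0
    · rw [ht]; exact zero_mem _
    have h1 := key 1 one_ne_zero
    rw [one_mul] at h1
    rw [show t = t * N' i j / N' i j by rw [mul_div_assoc, div_self hne, mul_one]]
    exact div_mem (key t ht) h1
  have h3 : Nat.card F₀ = Fintype.card F := by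
    rw [Nat.card_congr (Equiv.subtypeUnivEquiv htop), Nat.card_eq_fintype_card]
  rw [h3] at hcard
  have h4 := Nat.pow_right_injective (Fintype.one_lt_card (α := F)) (show Fintype.card F ^ 1 = _ by rw [pow_one]; exact hcard)
  exact hr.ne_one h4.symm

/-- Omega normalises no field of matrices bigger than the scalars. -/
theorem not_omega_le_fieldAny {r : ℕ} (hr : 2 ≤ r) {K : Subalgebra F (Matrix ι ι F)}
    (hK : IsFieldSubalgebra r K) : ¬ omegaGL ⇑Q ≤ subalgebraNormalizer K := by
  classical
  rcases Nat.lt_or_ge r 3 with h3 | h3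
  swap
  · exact Cfsg.Agent.Aschbacher.not_omega_le_field hQ f hn h3 hK
  intro hle
  haveI : Nonempty ι := Fintype.card_pos_iff.1 (by omega)
  have hconj : ∀ g ∈ subalgebraNormalizer K, ∀ k ∈ K, conjMat g k ∈ K := fun g hg k hk => (hg k).1 hk
  have hF : IsField K :=
    { exists_pair_ne := ⟨0, 1, zero_ne_one⟩
      mul_comm := fun a b => Subtype.ext (hK.comm a a.2 b b.2)
      mul_inv_cancel := fun {a} ha => by
        obtain ⟨y, hy, h⟩ := hK.inv a a.2 fun h => ha (Subtype.ext h)
        exact ⟨⟨y, hy⟩, Subtype.ext h⟩ }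
  letI : Field K := hF.toField
  haveI : Finite K := inferInstance
  let φ : subalgebraNormalizer K → (K ≃ₐ[F] K) := fun g =>
    AlgEquiv.ofBijective (((conjMat (g : GL ι F)).toAlgHom.comp K.val).codRestrict K fun k => hconj g g.2 k k.2)
      (Finite.injective_iff_bijective.1 fun a b h =>
        Subtype.ext ((conjMat (g : GL ι F)).injective (congrArg Subtype.val h)))
  have hφ : ∀ (g : subalgebraNormalizer K) (k : K),
      ((φ g k : K) : Matrix ι ι F) = conjMat (g : GL ι F) k := fun g k => rfl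
  let Φ : subalgebraNormalizer K →* (K ≃ₐ[F] K) :=
    { toFun := φ
      map_one' := AlgEquiv.ext fun k => Subtype.ext (by rw [hφ]; simp [conjMat_apply])
      map_mul' := fun g h => AlgEquiv.ext fun k => Subtype.ext (by
        rw [hφ, AlgEquiv.mul_apply, hφ, hφ, Subgroup.coe_mul, conjMat_mul]) }
  have hfix : omegaGL ⇑Q ≤ Φ.ker.map (subalgebraNormalizer K).subtype := by
    rw [← commutator_omegaGL hQ f hn, Subgroup.commutator_le]
    intro a ha b hb
    refine ⟨⁅(⟨a, hle ha⟩ : subalgebraNormalizer K), (⟨b, hle hb⟩ : subalgebraNormalizer K)⁆, ?_, rfl⟩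
    rw [SetLike.mem_coe, MonoidHom.mem_ker, map_commutatorElement, commutatorElement_eq_one_iff_mul_comm]
    exact mul_comm' _ _
  have hpres : ∀ (w : Vec) (hw : Q w = 0) (huw : B f.u w = 0) (z : Vec), ((rootGL f.p.hu huw : Matrix ι ι F) - 1) *ᵥ z ≠ 0 →
      ∀ k ∈ K, ∀ x ∈ Submodule.span F {w, f.u}, k *ᵥ x ∈ Submodule.span F {w, f.u} := by
    intro w hw huw z hz
    obtain ⟨y, hy, hyg⟩ := hfix (rootGL_mem hQ f hn f.p.hu huw)
    set N : Matrix ι ι F := (rootGL f.p.hu huw : Matrix ι ι F) - 1 with hN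
    have hNk : ∀ k ∈ K, N * k = k * N := by
      intro k hk
      have h1 : conjMat (rootGL f.p.hu huw) k = k := by
        rw [← hyg]
        show conjMat (y : GL ι F) ((⟨k, hk⟩ : K) : Matrix ι ι F) = k
        rw [← hφ]
        exact congrArg (fun y : K => (y : Matrix ι ι F)) (AlgEquiv.congr_fun (MonoidHom.mem_ker.1 hy) ⟨k, hk⟩)
      rw [hN, sub_mul, mul_sub, one_mul, mul_one, (conjMat_eq_self_iff _ _).1 h1]
    let R : Submodule F Vec := Submodule.span F {w, f.u}
    have hR : ∀ v, N *ᵥ v ∈ R := fun v => by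
      rw [hN, rootGL_sub_one_mulVec f.p.hu hw]
      exact sub_mem (Submodule.smul_mem _ _ (Submodule.subset_span (by simp)))
        (Submodule.smul_mem _ _ (Submodule.subset_span (by simp)))
    let L : K →ₗ[F] Vec :=
      { toFun := fun k => (k : Matrix ι ι F) *ᵥ (N *ᵥ z)
        map_add' := fun a b => Matrix.add_mulVec _ _ _
        map_smul' := fun c a => Matrix.smul_mulVec c _ _ }
    have hL : Function.Injective L := by
      rw [← LinearMap.ker_eq_bot, LinearMap.ker_eq_bot']
      intro k hk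
      by_contra hk0
      obtain ⟨y, hy, hky⟩ := hK.inv k k.2 fun h => hk0 (Subtype.ext h)
      apply hz
      have h0 : (k : Matrix ι ι F) *ᵥ (N *ᵥ z) = 0 := hk
      rw [← Matrix.one_mulVec (N *ᵥ z), ← hky, hK.comm k k.2 y hy, ← Matrix.mulVec_mulVec, h0, Matrix.mulVec_zero]
    have hLR : LinearMap.range L = R := by
      refine Submodule.eq_of_le_of_finrank_le ?_ ?_
      · rintro _ ⟨k, rfl⟩
        show (k : Matrix ι ι F) *ᵥ (N *ᵥ z) ∈ R
        rw [Matrix.mulVec_mulVec, ← hNk _ k.2, ← Matrix.mulVec_mulVec]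
        exact hR _
      · rw [LinearMap.finrank_range_of_inj hL, hK.finrank_eq]
        exact finrank_root_image_le.trans hr
    intro k hk x hx
    rw [show Submodule.span F {w, f.u} = LinearMap.range L from hLR.symm] at hx ⊢
    obtain ⟨l, rfl⟩ := hx
    exact ⟨⟨k * (l : Matrix ι ι F), K.mul_mem hk l.2⟩, (Matrix.mulVec_mulVec _ _ _).symm⟩
  have hu0 : f.u ≠ 0 := f.p.ne_zero.1
  have hnz : ∀ (w : Vec) (_ : Q w = 0) (huw : B f.u w = 0), B f.v w = 0 → w ≠ 0 →
      ((rootGL f.p.hu huw : Matrix ι ι F) - 1) *ᵥ f.v ≠ 0 := by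
    intro w hw huw hvw hw0
    rw [rootGL_sub_one_mulVec f.p.hu hw, f.p.hvu, hvw, one_smul, zero_smul, sub_zero]
    exact hw0
  have h1 := hpres f.u' f.p'.hu f.uu' f.v (hnz f.u' f.p'.hu f.uu' f.vu' f.p'.ne_zero.1)
  have h2 := hpres f.v' f.p'.hv f.uv' f.v (hnz f.v' f.p'.hv f.uv' f.vv' f.p'.ne_zero.2)
  have hline : ∀ k ∈ K, k *ᵥ f.u ∈ Submodule.span F {f.u} := by
    intro k hk
    have ha := h1 k hk f.u (Submodule.subset_span (by simp))
    have hb := h2 k hk f.u (Submodule.subset_span (by simp))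
    obtain ⟨a, b, hab⟩ := Submodule.mem_span_pair.1 ha
    obtain ⟨c, d, hcd⟩ := Submodule.mem_span_pair.1 hb
    have e := congrArg (fun x => B x f.u') (hab.trans hcd.symm)
    simp only [QuadraticMap.polar_add_left, QuadraticMap.polar_smul_left, f.p'.hvu, f.uu',
      polar_self_zero f.p'.hu, smul_eq_mul, mul_zero, mul_one, zero_add, add_zero] at e
    rw [← hcd, ← e, zero_smul, zero_add]
    exact Submodule.smul_mem _ _ (Submodule.mem_span_singleton_self _)
  let L : K →ₗ[F] (Submodule.span F {f.u} : Submodule F Vec) :=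
    { toFun := fun k => ⟨(k : Matrix ι ι F) *ᵥ f.u, hline k k.2⟩
      map_add' := fun a b => Subtype.ext (Matrix.add_mulVec _ _ _)
      map_smul' := fun c a => Subtype.ext (Matrix.smul_mulVec c _ _) }
  have hL : Function.Injective L := by
    rw [← LinearMap.ker_eq_bot, LinearMap.ker_eq_bot']
    intro k hk
    by_contra hk0
    obtain ⟨y, hy, hky⟩ := hK.inv k k.2 fun h => hk0 (Subtype.ext h)
    apply hu0
    have h0 : (k : Matrix ι ι F) *ᵥ f.u = 0 := congrArg Subtype.val hk
    rw [← Matrix.one_mulVec f.u, ← hky, hK.comm k k.2 y hy, ← Matrix.mulVec_mulVec, h0, Matrix.mulVec_zero]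
  have h4 := LinearMap.finrank_le_finrank_of_injective hL
  rw [hK.finrank_eq, finrank_span_singleton hu0] at h4
  omega

/-- Omega fixes no tensor decomposition with a second factor of dimension at least three. -/
theorem not_omega_le_tensor {a k : ℕ} (ha : 2 ≤ a) (hk : 3 ≤ k) (e : ι ≃ Fin a × Fin k) (P : GL ι F) :
    ¬ omegaGL ⇑Q ≤ tensorProductSubgroup a k e P := by
  classical
  intro hle
  haveI : Nonempty ι := Fintype.card_pos_iff.1 (by omega)
  let T : ((Fin a × Fin k) → F) →ₗ[F] Vec :=
    (Matrix.toLin' (P : Matrix ι ι F)).comp (LinearMap.funLeft F F e)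
  have hT : ∀ z, T z = (P : Matrix ι ι F) *ᵥ (z ∘ e) := fun z => rfl
  have hTinj : Function.Injective T := fun x y h => by
    rw [hT, hT] at h
    have h1 := Matrix.mulVec_injective_iff_isUnit.2 P.isUnit h
    exact funext fun p => by simpa using congrFun h1 (e.symm p)
  set i₀ : Fin a := ⟨0, by omega⟩
  set i₁ : Fin a := ⟨1, by omega⟩
  set j₀ : Fin k := ⟨0, by omega⟩
  let S₀ : Submodule F ((Fin a × Fin k) → F) :=
    { carrier := {z | ∀ p : Fin a × Fin k, p.1 ≠ i₀ → z p = 0}
      add_mem' := fun {x y} hx hy p hp => by rw [Pi.add_apply, hx p hp, hy p hp, add_zero]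
      zero_mem' := fun p _ => rfl
      smul_mem' := fun c x hx p hp => by rw [Pi.smul_apply, hx p hp, smul_zero] }
  let W : Submodule F Vec := S₀.map T
  have hW0 : W ≠ ⊥ := by
    intro h
    have h1 : T (Pi.single (i₀, j₀) 1) ∈ W := ⟨_, fun p hp => Pi.single_eq_of_ne (fun e => hp (by rw [e])) _, rfl⟩
    rw [h, Submodule.mem_bot] at h1
    have := congrFun (hTinj (h1.trans (map_zero T).symm)) (i₀, j₀)
    simp at this
  have hW1 : W ≠ ⊤ := by
    intro h
    have h1 : T (Pi.single (i₁, j₀) 1) ∈ W := h ▸ Submodule.mem_top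
    obtain ⟨z, hz, hzT⟩ := h1
    have h3 := congrFun (hTinj hzT) (i₁, j₀)
    rw [hz (i₁, j₀) (fun h' => absurd (congrArg Fin.val h') (by simp [i₀, i₁]))] at h3
    simp at h3
  refine hW1 (eq_top_of_root_invariant hQ hn hW0 fun u w hu hw huw => ?_)
  set g := rootGL hu huw with hg
  obtain ⟨A, A₂, hab⟩ := exists_kronecker_of_mem (hle (rootGL_mem hQ f hn hu huw))
  set A' := (A : Matrix (Fin a) (Fin a) F) with hA'
  have hgT : ∀ z, (g : Matrix ι ι F) *ᵥ T z = T ((A' ⊗ₖ (A₂ : Matrix (Fin k) (Fin k) F)) *ᵥ z) := fun z => by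
    rw [hT, hT, ← hab, glCoord_mulVec]
  -- the first factor is scalar
  obtain ⟨s, hs⟩ : ∃ s : F, A' = s • 1 := by
    by_contra hns
    push Not at hns
    obtain ⟨x, p, q, hpq⟩ : ∃ (x : Fin a → F) (p q : Fin a), x p * (A' *ᵥ x) q ≠ x q * (A' *ᵥ x) p := by
      by_contra hall
      push Not at hall
      have hd : ∀ i j, i ≠ j → A' i j = 0 := fun i j hij => by
        have h := hall (Pi.single j 1) j i
        simpa [Pi.single_eq_of_ne hij, Matrix.mulVec_single_one] using h
      have he : ∀ i j, A' i i = A' j j := fun i j => by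
        by_cases hij : i = j
        · rw [hij]
        have h := hall (Pi.single i 1 + Pi.single j 1) j i
        simp only [Matrix.mulVec_add, Matrix.mulVec_single_one, Pi.add_apply, Pi.single_eq_same,
          Pi.single_eq_of_ne hij, Pi.single_eq_of_ne (Ne.symm hij), add_zero, zero_add, one_mul,
          Matrix.col_apply, hd i j hij, hd j i (Ne.symm hij)] at h
        exact h
      refine hns (A' i₀ i₀) (Matrix.ext fun i j => ?_)
      by_cases hij : i = j
      · subst hij; simpa using he i i₀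
      · simp [hd i j hij, hij]
    let L : (Fin k → F) →ₗ[F] Vec :=
      (Matrix.toLin' (g : Matrix ι ι F) - LinearMap.id).comp (T.comp
        { toFun := fun y => fun r : Fin a × Fin k => x r.1 * y r.2
          map_add' := fun y y' => funext fun r => by simp [mul_add]
          map_smul' := fun c y => funext fun r => by
            rw [RingHom.id_apply, Pi.smul_apply, Pi.smul_apply, smul_eq_mul, smul_eq_mul, mul_left_comm] })
    have hL : ∀ y, L y = (g : Matrix ι ι F) *ᵥ T (fun r => x r.1 * y r.2) - T (fun r => x r.1 * y r.2) :=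
      fun y => by simp [L, Matrix.toLin'_apply]
    have hLinj : Function.Injective L := by
      rw [← LinearMap.ker_eq_bot, LinearMap.ker_eq_bot']
      intro y hy
      rw [hL, sub_eq_zero, hgT] at hy
      have h1 : ∀ i j, (A' *ᵥ x) i * ((A₂ : Matrix (Fin k) (Fin k) F) *ᵥ y) j = x i * y j := by
        intro i j
        have h := congrFun (hTinj hy) (i, j)
        rw [← h]
        simp only [Matrix.mulVec, dotProduct, Fintype.sum_prod_type, Matrix.kroneckerMap_apply]
        rw [Finset.sum_mul_sum]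
        exact Finset.sum_congr rfl fun p' _ => Finset.sum_congr rfl fun q' _ => by ring
      funext j
      by_contra hyj
      apply hpq
      apply mul_right_cancel₀ hyj
      linear_combination (A' *ᵥ x) p * (h1 q j) - (A' *ᵥ x) q * (h1 p j)
    have hle' : LinearMap.range L ≤ Submodule.span F {w, u} := by
      rintro _ ⟨y, rfl⟩
      rw [hL]
      exact root_image_le hu hw huw _
    have h1 := (Submodule.finrank_mono hle').trans finrank_root_image_le
    rw [LinearMap.finrank_range_of_inj hLinj, Module.finrank_fintype_fun_eq_card, Fintype.card_fin] at h1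
    omega
  refine mem_subspaceStabilizer_of_forall ?_
  rintro _ ⟨z, hz, rfl⟩
  rw [hgT]
  refine ⟨_, fun r hr => ?_, rfl⟩
  rw [hs]
  simp only [Matrix.mulVec, dotProduct, Matrix.kroneckerMap_apply, Matrix.smul_apply, smul_eq_mul, Matrix.one_apply]
  refine Finset.sum_eq_zero fun r' _ => ?_
  by_cases h : r.1 = r'.1
  · rw [hz r' (h ▸ hr), mul_zero]
  · rw [if_neg h]; ring

end Cfsg.Agent.Aschbacher.Ev
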