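/-
Maximal subgroups of Omega in even dimension: what the classes give.
-/
import Mathlib
import Cfsg.Agent.Aschbacher.Ev.Main
import Cfsg.Agent.Aschbacher.Ev.Proper
import Cfsg.Agent.Aschbacher.Ev.Frames
import Cfsg.Agent.Aschbacher.Ev.FieldDouble
import Cfsg.Agent.Lib.Forms.Max.OrthFamilies

set_option autoImplicit false
set_option linter.style.haveILetI false
set_option linter.unusedSectionVars false

namespace Cfsg.Agent.Aschbacher.Ev

open Module Matrix
open Cfsg.Geo
open Cfsg.Agent.Classical.Orth (Frame)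

variable {F : Type*} [Field F] [Fintype F]

/-! ### Numbers -/

lemma not_odd_card (h : (2 : F) = 0) : ¬ Odd (Fintype.card F) := fun ho => odd_card_iff.1 ho h

lemma two_eq_zero_of_not_odd (h : ¬ Odd (Fintype.card F)) : (2 : F) = 0 :=
  by_contra fun h2 => h (odd_card_iff.2 h2)

lemma card_cases_lt_seven (h : Fintype.card F < 7) :
    Fintype.card F = 2 ∨ Fintype.card F = 3 ∨ Fintype.card F = 4 ∨ Fintype.card F = 5 := by
  obtain ⟨p, hp⟩ := CharP.exists F
  obtain ⟨n, hp', hn⟩ := FiniteField.card F p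
  have h1 := Fintype.one_lt_card (α := F)
  have h6 : Fintype.card F ≠ 6 := by
    intro h6
    rw [h6] at hn
    have e2 : p ∣ 6 := hn ▸ dvd_pow_self p n.ne_zero
    have e3 : (2 : ℕ) ∣ p ^ (n : ℕ) := hn ▸ by norm_num
    have e4 : (3 : ℕ) ∣ p ^ (n : ℕ) := hn ▸ by norm_num
    have h2' := (Nat.prime_dvd_prime_iff_eq Nat.prime_two hp').1 (Nat.prime_two.dvd_of_dvd_pow e3)
    have h3' := (Nat.prime_dvd_prime_iff_eq Nat.prime_three hp').1 (Nat.prime_three.dvd_of_dvd_pow e4)
    omega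
  omega

lemma mod_four_of_square (h2 : (2 : F) ≠ 0) :
    (IsSquare (-1 : F) → Fintype.card F % 4 = 1) ∧ (¬ IsSquare (-1 : F) → Fintype.card F % 4 = 3) := by
  obtain ⟨j, hj⟩ := odd_card_iff.2 h2
  rw [FiniteField.isSquare_neg_one_iff]
  constructor <;> intro h <;> omega

variable {ι : Type} [Fintype ι] [DecidableEq ι] {Q : QuadraticForm F (ι → F)}
  {H : Subgroup (GL ι F)}

local notation "Vec" => (ι → F)
local notation "B" => QuadraticMap.polar Q

section maximal

variable (hQ : (QuadraticMap.polarBilin Q).Nondegenerate) (f : Frame Q) (hn : 5 ≤ Fintype.card ι)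
  (hmax : IsMaximalIn (omegaGL (⇑Q)) H)

lemma eq_inf_of_maximal_ev {I M : Subgroup (GL ι F)} (hH : IsMaximalIn I H) (hle : H ≤ M) (hnot : ¬ I ≤ M) :
    H = M ⊓ I := by
  rcases hH.2 (M ⊓ I) (le_inf hle hH.1.le) inf_le_right with h | h
  · exact h.symm
  · exact absurd (h ▸ inf_le_left) hnot

lemma false_of_between {I M : Subgroup (GL ι F)} (hH : IsMaximalIn I H) (hle : H ≤ M)
    (h : ∃ K : Subgroup (GL ι F), M ⊓ I < K ∧ K < I) : False := by
  obtain ⟨K, h1, h2⟩ := h
  have hHK : H ≤ K := (le_inf hle hH.1.le).trans h1.le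
  rcases hH.2 K hHK h2.le with h | h
  · subst h
    exact (lt_of_le_of_lt (le_inf hle hH.1.le) h1).ne rfl
  · exact h2.ne h

include hQ f hn hmax

lemma eq_subspace {W : Submodule F Vec} (h0 : W ≠ ⊥) (h1 : W ≠ ⊤) (hle : H ≤ subspaceStabilizer W) :
    H = subspaceStabilizer W ⊓ omegaGL (⇑Q) :=
  eq_inf_of_maximal_ev hmax hle (not_omega_le_subspace hQ f hn h0 h1)

lemma eq_decomposition {t k : ℕ} {D : Fin t → Submodule F Vec}
    (hD : IsNondegenerateMDecomposition (QuadraticMap.polar (⇑Q)) k D) (hle : H ≤ decompositionStabilizer D) :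
    H = decompositionStabilizer D ⊓ omegaGL (⇑Q) :=
  eq_inf_of_maximal_ev hmax hle
    (not_omega_le_decompositionAny hQ f hn hD.decomp fun hk => two_ne_zero_of_lines (hk ▸ hD))

lemma eq_pair {k : ℕ} {D : Fin 2 → Submodule F Vec} (hD : IsMDecomposition k D) (hk : 2 ≤ k)
    (hle : H ≤ decompositionStabilizer D) : H = decompositionStabilizer D ⊓ omegaGL (⇑Q) :=
  eq_inf_of_maximal_ev hmax hle (not_omega_le_parts hQ f hn hk hD)

lemma eq_field {r : ℕ} {K : Subalgebra F (Matrix ι ι F)} (hr : 2 ≤ r) (hK : IsFieldSubalgebra r K)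
    (hle : H ≤ subalgebraNormalizer K) : H = subalgebraNormalizer K ⊓ omegaGL (⇑Q) :=
  eq_inf_of_maximal_ev hmax hle (not_omega_le_fieldAny hQ f hn hr hK)

lemma eq_tensor {a k : ℕ} (ha : 2 ≤ a) (hk : 3 ≤ k) {e : ι ≃ Fin a × Fin k} {P : GL ι F}
    (hle : H ≤ tensorProductSubgroup a k e P) : H = tensorProductSubgroup a k e P ⊓ omegaGL (⇑Q) :=
  eq_inf_of_maximal_ev hmax hle (not_omega_le_tensor hQ f hn ha hk e P)

lemma eq_subfield (h : InEvSubfield Q H) :
    ∃ (F₀ : Subfield F) (r : ℕ) (P : GL ι F) (ζ : F), r.Prime ∧ Fintype.card F = Nat.card F₀ ^ r ∧ ζ ≠ 0 ∧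
      IsQuadFormRationalStructure (fun v : ι → F => ζ * Q v) F₀ P ∧
      H = subfieldSubgroup F₀ P ⊓ omegaGL (⇑Q) := by
  obtain ⟨F₀, r, P, ζ, hr, hcard, hζ, hrat, hle⟩ := h
  exact ⟨F₀, r, P, ζ, hr, hcard, hζ, hrat,
    eq_inf_of_maximal_ev hmax hle (not_omega_le_subfieldAny hQ f hn hr hcard P)⟩

lemma eq_subfield_minus {m : ℕ} (hm : Fintype.card ι = 2 * m)
    (hminus : ¬ IsPlusTypeOn (⇑Q) (⊤ : Submodule F Vec)) (h : InEvSubfield Q H) :
    ∃ (F₀ : Subfield F) (r : ℕ) (P : GL ι F) (ζ : F), r.Prime ∧ Odd r ∧ Fintype.card F = Nat.card F₀ ^ r ∧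
      ζ ≠ 0 ∧ IsQuadFormRationalStructure (fun v : ι → F => ζ * Q v) F₀ P ∧
      H = subfieldSubgroup F₀ P ⊓ omegaGL (⇑Q) := by
  obtain ⟨F₀, r, P, ζ, hr, hcard, hζ, hrat, hH⟩ := eq_subfield hQ f hn hmax h
  refine ⟨F₀, r, P, ζ, hr, hr.eq_two_or_odd'.resolve_left ?_, hcard, hζ, hrat, hH⟩
  rintro rfl
  exact hminus (plus_of_rational hQ hm hcard P hζ hrat)

/-! ### Reducible groups -/

/-- The subspace types. -/
def SubspaceItems (Q : QuadraticForm F (ι → F)) (H : Subgroup (GL ι F)) : Prop :=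
  (∃ W : Submodule F (ι → F), W ≠ ⊥ ∧ IsTotallySingularQuad (⇑Q) W ∧
    H = subspaceStabilizer W ⊓ omegaGL (⇑Q)) ∨
  (Odd (Fintype.card F) ∧ ∃ W : Submodule F (ι → F), W ≠ ⊥ ∧ W ≠ ⊤ ∧ Odd (finrank F W) ∧
    2 * finrank F W ≠ Fintype.card ι ∧ IsNondegenerateOn (QuadraticMap.polar (⇑Q)) W ∧
    H = subspaceStabilizer W ⊓ omegaGL (⇑Q)) ∨
  (∃ W : Submodule F (ι → F), finrank F W = 2 ∧ IsNondegenerateOn (QuadraticMap.polar (⇑Q)) W ∧
    ¬ IsPlusTypeOn (⇑Q) W ∧ H = subspaceStabilizer W ⊓ omegaGL (⇑Q)) ∨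
  (4 ≤ Fintype.card F ∧ ∃ W : Submodule F (ι → F), finrank F W = 2 ∧
    IsNondegenerateOn (QuadraticMap.polar (⇑Q)) W ∧ IsPlusTypeOn (⇑Q) W ∧
    H = subspaceStabilizer W ⊓ omegaGL (⇑Q)) ∨
  (∃ W : Submodule F (ι → F), finrank F W = 4 ∧ IsNondegenerateOn (QuadraticMap.polar (⇑Q)) W ∧
    H = subspaceStabilizer W ⊓ omegaGL (⇑Q)) ∨
  (¬ Odd (Fintype.card F) ∧ ∃ v : ι → F, Q v ≠ 0 ∧
    H = subspaceStabilizer (Submodule.span F {v}) ⊓ omegaGL (⇑Q))

/-- The group fixes a non-degenerate subspace of half the dimension. -/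
def HalfSpace (Q : QuadraticForm F (ι → F)) (H : Subgroup (GL ι F)) : Prop :=
  ∃ W : Submodule F (ι → F), NonDeg Q W ∧ 2 * finrank F W = Fintype.card ι ∧ 5 ≤ finrank F W ∧
    (Odd (finrank F W) → (2 : F) ≠ 0) ∧ H ≤ subspaceStabilizer W

omit hn f hmax in
lemma hI_of_max (hmax : IsMaximalIn (omegaGL (⇑Q)) H) : H ≤ Cfsg.isometryGroup F (⇑Q) :=
  hmax.1.le.trans omegaGL_le_iso

/-- A maximal subgroup which is reducible. -/
theorem subspace_items (h8 : 8 ≤ Fintype.card ι) (h12 : Fintype.card ι ≤ 12) (hred : ¬ Irred H) :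
    SubspaceItems Q H ∨ HalfSpace Q H := by
  classical
  haveI : Nonempty ι := Fintype.card_pos_iff.1 (by omega)
  have hI := hI_of_max hQ hmax
  have htop : ∀ W : Submodule F Vec, finrank F W < Fintype.card ι → W ≠ ⊤ := fun W hW h => by
    rw [h, finrank_top, Module.finrank_fintype_fun_eq_card] at hW; omega
  have hline : ∀ v : Vec, Q v ≠ 0 → H ≤ subspaceStabilizer (Submodule.span F {v}) → SubspaceItems Q H := by
    intro v hv hle
    have hv0 : v ≠ 0 := fun h => hv (by rw [h, QuadraticMap.map_zero])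
    have hd : finrank F (Submodule.span F {v} : Submodule F Vec) = 1 := finrank_span_singleton hv0
    have heq := eq_subspace hQ f hn hmax (fun h => hv0 (Submodule.span_singleton_eq_bot.1 h))
      (htop _ (by rw [hd]; omega)) hle
    by_cases h2 : (2 : F) = 0
    · exact Or.inr (Or.inr (Or.inr (Or.inr (Or.inr ⟨not_odd_card h2, v, hv, heq⟩))))
    · refine Or.inr (Or.inl ⟨odd_card_iff.2 h2, _, fun h => hv0 (Submodule.span_singleton_eq_bot.1 h),
        htop _ (by rw [hd]; omega), by rw [hd]; exact odd_one, by rw [hd]; omega, ?_, heq⟩)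
      refine NonDeg.isNondegenerateOn fun r hr hr0 => ?_
      obtain ⟨x, rfl⟩ := Submodule.mem_span_singleton.1 hr
      refine ⟨v, Submodule.mem_span_singleton_self v, ?_⟩
      rw [QuadraticMap.polar_smul_left, QuadraticMap.polar_self, two_smul, ← two_mul, smul_eq_mul]
      exact mul_ne_zero (fun h => hr0 (by rw [h, zero_smul])) (mul_ne_zero h2 hv)
  rcases reducible_ev hQ hI hred with ⟨W, h0, hts, hle⟩ | ⟨h2, v, hv, hle⟩ | ⟨W, h0, hW, hd, hodd, hle⟩
  · refine Or.inl (Or.inl ⟨W, h0, hts, eq_subspace hQ f hn hmax h0 (fun h => f.hx ?_) hle⟩)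
    exact hts _ (h ▸ Submodule.mem_top)
  · exact Or.inl (hline v hv hle)
  · have hpos : 0 < finrank F W := Nat.pos_of_ne_zero fun h => h0 (Submodule.finrank_eq_zero.1 h)
    have h1 := htop W (by omega)
    have heq := eq_subspace hQ f hn hmax h0 h1 hle
    by_cases hhalf : 2 * finrank F W = Fintype.card ι ∧ 5 ≤ finrank F W
    · exact Or.inr ⟨W, hW, hhalf.1, hhalf.2, hodd, hle⟩
    refine Or.inl ?_
    rcases Nat.even_or_odd (finrank F W) with hev | hod
    swap
    · refine Or.inr (Or.inl ⟨odd_card_iff.2 (hodd hod), W, h0, h1, hod, ?_, hW.isNondegenerateOn, heq⟩)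
      obtain ⟨j, hj⟩ := hod
      omega
    have hcases : finrank F W = 2 ∨ finrank F W = 4 := by
      obtain ⟨j, hj⟩ := hev
      omega
    rcases hcases with h2d | h4
    swap
    · exact Or.inr (Or.inr (Or.inr (Or.inr (Or.inl ⟨W, h4, hW.isNondegenerateOn, heq⟩))))
    by_cases hp : IsPlusTypeOn (⇑Q) W
    swap
    · exact Or.inr (Or.inr (Or.inl ⟨W, h2d, hW.isNondegenerateOn, hp, heq⟩))
    by_cases hq : 4 ≤ Fintype.card F
    · exact Or.inr (Or.inr (Or.inr (Or.inl ⟨hq, W, h2d, hW.isNondegenerateOn, hp, heq⟩)))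
    -- a plane with one line of the given value
    obtain ⟨a, b, ha, hb, hab, hco⟩ := Forms.Max.Orth.plane_pair h2d hW hp
    have hsq : ∀ x : F, x ≠ 0 → x * x = 1 := fun x hx => by
      have h := FiniteField.pow_card_sub_one_eq_one x hx
      have h1 := Fintype.one_lt_card (α := F)
      rcases (show Fintype.card F = 2 ∨ Fintype.card F = 3 by omega) with hc | hc <;> rw [hc] at h
      · have h' : x = 1 := by simpa using h
        rw [h', mul_one]
      · simpa [sq] using h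
    refine hline (a + b) (by rw [qadd, hab.hu, hab.hv, hab.huv, zero_add, zero_add]; exact one_ne_zero) ?_
    intro g hg
    refine mem_subspaceStabilizer_of_forall fun v hv => ?_
    obtain ⟨c, rfl⟩ := Submodule.mem_span_singleton.1 hv
    rw [Matrix.mulVec_smul]
    refine Submodule.smul_mem _ c ?_
    obtain ⟨x, y, hxy⟩ := hco _ ((mem_subspaceStabilizer.1 (hle hg) (a + b)).1 (add_mem ha hb))
    have hQg : Q ((g : Matrix ι ι F) *ᵥ (a + b)) = 1 := by
      rw [mem_evIso.1 (hI hg), qadd, hab.hu, hab.hv, hab.huv, zero_add, zero_add]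
    rw [hxy, Classical.Orth.pair_value hab] at hQg
    have hyx : y = x := mul_left_cancel₀ (left_ne_zero_of_mul_eq_one hQg)
      (hQg.trans (hsq x (left_ne_zero_of_mul_eq_one hQg)).symm)
    rw [hxy, hyx, ← smul_add]
    exact Submodule.smul_mem _ _ (Submodule.mem_span_singleton_self _)

omit f hn in
/-- A half-dimensional non-degenerate subspace gives a decomposition into two parts. -/
theorem exists_halves (h : HalfSpace Q H) :
    ∃ (k : ℕ) (D : Fin 2 → Submodule F Vec), Fintype.card ι = 2 * k ∧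
      IsNondegenerateMDecomposition (QuadraticMap.polar (⇑Q)) k D ∧ (Odd k → (2 : F) ≠ 0) ∧
      H ≤ decompositionStabilizer D := by
  classical
  obtain ⟨W, hW, hd, h5, hodd, hle⟩ := h
  set W' := Forms.Max.Orth.perp Q W with hW'
  have hI := hI_of_max hQ hmax
  have hWn' := nonDeg_perp hQ hW
  have hd' : finrank F W' = finrank F W := by
    have h := Forms.Max.Orth.finrank_perp hQ W
    rw [← hW'] at h
    omega
  have ho : ∀ x ∈ W, ∀ y ∈ W', B x y = 0 := fun x hx y hy => Forms.Max.Orth.mem_perp.1 hy x hx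
  have hdisj := disjoint_of_orth hW ho
  have hmem : ∀ g ∈ H, ∀ x ∈ W, (g : Matrix ι ι F) *ᵥ x ∈ W := fun g hg x hx =>
    (mem_subspaceStabilizer.1 (hle hg) x).1 hx
  have hperp : ∀ g ∈ H, ∀ y ∈ W', (g : Matrix ι ι F) *ᵥ y ∈ W' := by
    intro g hg y hy
    refine Forms.Max.Orth.mem_perp.2 fun x hx => ?_
    have h1 := polar_of_mem (hI hg) (((g⁻¹ : GL ι F) : Matrix ι ι F) *ᵥ x) y
    rw [Matrix.mulVec_mulVec, Units.mul_inv, Matrix.one_mulVec] at h1
    rw [h1]
    exact ho _ (hmem _ (inv_mem hg) x hx) y hy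
  refine ⟨finrank F W, ![W, W'], hd.symm, ⟨⟨le_rfl, by omega, fun i => ?_, ?_, ?_⟩, fun i => ?_, ?_⟩, hodd,
    fun g hg => ⟨1, fun i => ?_⟩⟩
  · fin_cases i
    · rfl
    · exact hd'
  · rw [iSupIndep_pair (show (0 : Fin 2) ≠ 1 by decide) (fun i => by fin_cases i <;> simp)]
    exact disjoint_iff.2 hdisj
  · rw [eq_top_iff, ← sup_perp hQ hW]
    exact sup_le (le_iSup_of_le 0 le_rfl) (le_iSup_of_le 1 le_rfl)
  · fin_cases i
    · exact hW.isNondegenerateOn
    · exact hWn'.isNondegenerateOn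
  · intro i j hij x hx y hy
    fin_cases i <;> fin_cases j
    · exact absurd rfl hij
    · exact ho x hx y hy
    · rw [QuadraticMap.polar_comm]; exact ho y hy x hx
    · exact absurd rfl hij
  · have hinj : Function.Injective (Matrix.toLin' (g : Matrix ι ι F)) :=
      Matrix.mulVec_injective_iff_isUnit.2 g.isUnit
    have key : ∀ X : Submodule F Vec, (∀ x ∈ X, (g : Matrix ι ι F) *ᵥ x ∈ X) →
        X.map (Matrix.toLin' (g : Matrix ι ι F)) = X := fun X hX => by
      refine Submodule.eq_of_le_of_finrank_le ?_ (Submodule.equivMapOfInjective _ hinj X).finrank_eq.le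
      rintro _ ⟨x, hx, rfl⟩
      exact hX x hx
    fin_cases i
    · exact key W (hmem g hg)
    · exact key W' (hperp g hg)

/-! ### Irreducible groups -/

/-- What a normalised centre gives. -/
def CentreMember (Q : QuadraticForm F (ι → F)) (H : Subgroup (GL ι F)) : Prop :=
  (∃ (t k : ℕ) (D : Fin t → Submodule F (ι → F)), Fintype.card ι = t * k ∧
    IsOrthogonalMDecomposition (⇑Q) k D ∧ H ≤ decompositionStabilizer D) ∨
  (∃ (k : ℕ) (D : Fin 2 → Submodule F (ι → F)), Fintype.card ι = 2 * k ∧ IsMDecomposition k D ∧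
    (∀ i, IsTotallySingularQuad (⇑Q) (D i)) ∧ H ≤ decompositionStabilizer D) ∨
  (∃ (r : ℕ) (K : Subalgebra F (Matrix ι ι F)), r.Prime ∧ r ∣ Fintype.card ι ∧ IsFieldSubalgebra r K ∧
    IsSelfAdjointFor (QuadraticMap.polar (⇑Q)) K ∧ H ≤ subalgebraNormalizer K) ∨
  (∃ K : Subalgebra F (Matrix ι ι F), UnitaryField Q K ∧ H ≤ subalgebraNormalizer K)

omit f hn in
theorem centreMember_of_outcome (h4 : 4 ≤ Fintype.card ι) (hirr : Irred H)
    (h : CentreOutcome (evData hQ) H) : CentreMember Q H := by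
  haveI : Nonempty ι := Fintype.card_pos_iff.1 (by omega)
  have hI := hI_of_max hQ hmax
  rcases h with ⟨t, k, E, hE, hle⟩ | ⟨k, E, e, hE, hts, hle, -⟩ | hF
  · rw [evData_form] at hE
    exact Or.inl ⟨t, k, E, card_eq_of_decomposition hE.decomp, isometric_of_irred hQ hE hI hirr hle, hle⟩
  · rw [evData_form] at hts
    exact Or.inr (Or.inl ⟨k, E, card_eq_of_decomposition hE, hE, singular_of_pair hQ h4 hI hirr hE hts hle, hle⟩)
  · rcases field_cases hQ (by omega) hI hirr hF with h | h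
    · exact Or.inr (Or.inr (Or.inl h))
    · exact Or.inr (Or.inr (Or.inr h))

omit f hn in
/-- A maximal subgroup which is irreducible. -/
theorem irred_items (h4 : 4 ≤ Fintype.card ι) (heven : Even (Fintype.card ι)) (hirr : Irred H) :
    CentreMember Q H ∨ AltTensor Q H ∨ SymTensor hQ H ∨ PowerDim Q ∨ InEvSubfield Q H ∨
      InOrthogonalResidualClass H := by
  haveI : Nonempty ι := Fintype.card_pos_iff.1 (by omega)
  rcases ev_cases hQ h4 heven (hI_of_max hQ hmax) (fun g hg => det_omegaGL (hmax.1.le hg)) hirr with h | h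
  · rcases h with h | h | h | h | h
    · exact Or.inl (centreMember_of_outcome hQ hmax h4 hirr h)
    · exact Or.inr (Or.inl h)
    · exact Or.inr (Or.inr (Or.inl h))
    · exact Or.inr (Or.inr (Or.inr (Or.inl h)))
    · exact Or.inr (Or.inr (Or.inr (Or.inr (Or.inl h))))
  · exact Or.inr (Or.inr (Or.inr (Or.inr (Or.inr h))))

end maximal

/-! ### Types of decompositions -/

variable (hQ : (QuadraticMap.polarBilin Q).Nondegenerate)

include hQ in
/-- An even number of isometric parts in dimension divisible by four. -/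
theorem plus_of_even_parts {t k m : ℕ} {D : Fin t → Submodule F Vec} (hm : Fintype.card ι = 2 * m) (hme : Even m)
    (hD : IsOrthogonalMDecomposition (⇑Q) k D) (ht : Even t) : IsPlusTypeOn (⇑Q) (⊤ : Submodule F Vec) := by
  by_cases h2 : (2 : F) = 0
  swap
  · exact (decomposition_plus_iff_square hQ h2 hm hD ht).2 (by rw [hme.neg_one_pow]; exact IsSquare.one)
  let i₀ : Fin t := ⟨0, by have := hD.decomp.decomp.two_le; omega⟩
  have hk := even_finrank_of_alternating h2 (nonDeg_parts hD i₀) hQ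
  rw [hD.decomp.decomp.finrank_eq] at hk
  obtain ⟨j, hj⟩ := hk
  have hk' : k = 2 * j := by omega
  subst hk'
  exact decomposition_plus_of_even hD ht

/-- A pair of singular subspaces of half the dimension gives plus type. -/
theorem plus_of_pair {k : ℕ} {D : Fin 2 → Submodule F Vec} (hk : Fintype.card ι = 2 * k)
    (hD : IsMDecomposition k D) (hts : ∀ i, IsTotallySingularQuad (⇑Q) (D i)) :
    IsPlusTypeOn (⇑Q) (⊤ : Submodule F Vec) :=
  ⟨D 0, le_top, hts 0, by rw [finrank_top, Module.finrank_fintype_fun_eq_card, hD.finrank_eq, hk]⟩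

end Cfsg.Agent.Aschbacher.Ev
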