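/-
Maximal subgroups of Omega in dimension ten, before the split into the two types.
-/
import Mathlib
import Cfsg.Agent.Aschbacher.Ev.Lists

set_option autoImplicit false
set_option linter.style.haveILetI false
set_option linter.unusedSectionVars false

namespace Cfsg.Agent.Aschbacher.Ev

open Module Matrix
open Cfsg.Geo
open Cfsg.Agent.Classical.Orth (Frame)

variable {F : Type*} [Field F] [Fintype F] {ι : Type} [Fintype ι] [DecidableEq ι]

lemma areIsometric_refl {Q : (ι → F) → F} (W : Submodule F (ι → F)) : AreIsometricFor Q W W :=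
  ⟨LinearEquiv.refl F W, fun _ => rfl⟩

lemma lines_cast {Q : (ι → F) → F} {H : Subgroup (GL ι F)} {N N' : ℕ} (h : N = N')
    (hE : ∃ E : Fin N → Submodule F (ι → F), IsOrthogonalMDecomposition Q 1 E ∧ H ≤ decompositionStabilizer E) :
    ∃ E : Fin N' → Submodule F (ι → F), IsOrthogonalMDecomposition Q 1 E ∧ H ≤ decompositionStabilizer E := by
  subst h; exact hE

lemma orth_two_of_isometric {Q : QuadraticForm F (ι → F)} {k : ℕ} {D : Fin 2 → Submodule F (ι → F)}
    (hD : IsNondegenerateMDecomposition (QuadraticMap.polar (⇑Q)) k D)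
    (h : AreIsometricFor (⇑Q) (D 0) (D 1)) : IsOrthogonalMDecomposition (⇑Q) k D := by
  refine ⟨hD, fun i j => ?_⟩
  fin_cases i <;> fin_cases j
  · exact areIsometric_refl _
  · exact h
  · exact isometric_symm h
  · exact areIsometric_refl _

variable {Q : QuadraticForm F (Fin 10 → F)} (hQ : (QuadraticMap.polarBilin Q).Nondegenerate)
  {H : Subgroup (GL (Fin 10) F)}

/-- A decomposition into ten lines over a prime field. -/
def TenLines (Q : QuadraticForm F (Fin 10 → F)) (H : Subgroup (GL (Fin 10) F)) : Prop :=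
  (Fintype.card F).Prime ∧ (IsPlusTypeOn (⇑Q) ⊤ → Fintype.card F % 4 = 1) ∧
    (¬ IsPlusTypeOn (⇑Q) ⊤ → Fintype.card F % 4 = 3) ∧
    ∃ D : Fin 10 → Submodule F (Fin 10 → F),
      IsOrthogonalMDecomposition (⇑Q) 1 D ∧ H = decompositionStabilizer D ⊓ omegaGL (⇑Q)

/-- A decomposition into five planes. -/
def TenPlanes (Q : QuadraticForm F (Fin 10 → F)) (H : Subgroup (GL (Fin 10) F)) : Prop :=
  Fintype.card F ≠ 3 ∧ (IsPlusTypeOn (⇑Q) ⊤ → 7 ≤ Fintype.card F) ∧
    ∃ D : Fin 5 → Submodule F (Fin 10 → F),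
      IsOrthogonalMDecomposition (⇑Q) 2 D ∧ H = decompositionStabilizer D ⊓ omegaGL (⇑Q)

/-- A decomposition into two isometric halves. -/
def TenIso (Q : QuadraticForm F (Fin 10 → F)) (H : Subgroup (GL (Fin 10) F)) : Prop :=
  (IsPlusTypeOn (⇑Q) ⊤ → Fintype.card F % 4 = 1) ∧ (¬ IsPlusTypeOn (⇑Q) ⊤ → Fintype.card F % 4 = 3) ∧
    ∃ D : Fin 2 → Submodule F (Fin 10 → F),
      IsOrthogonalMDecomposition (⇑Q) 5 D ∧ H = decompositionStabilizer D ⊓ omegaGL (⇑Q)

/-- A decomposition into two halves which are not isometric. -/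
def TenNonIso (Q : QuadraticForm F (Fin 10 → F)) (H : Subgroup (GL (Fin 10) F)) : Prop :=
  (IsPlusTypeOn (⇑Q) ⊤ → Fintype.card F % 4 = 3) ∧ (¬ IsPlusTypeOn (⇑Q) ⊤ → Fintype.card F % 4 = 1) ∧
    ∃ D : Fin 2 → Submodule F (Fin 10 → F),
      IsNondegenerateMDecomposition (QuadraticMap.polar (⇑Q)) 5 D ∧ ¬ AreIsometricFor (⇑Q) (D 0) (D 1) ∧
      H = decompositionStabilizer D ⊓ omegaGL (⇑Q)

/-- The types in dimension ten. -/
def TenItems (Q : QuadraticForm F (Fin 10 → F)) (H : Subgroup (GL (Fin 10) F)) : Prop :=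
  SubspaceItems Q H ∨ TenLines Q H ∨ TenPlanes Q H ∨ TenIso Q H ∨ TenNonIso Q H ∨
    (∃ D : Fin 2 → Submodule F (Fin 10 → F), IsMDecomposition 5 D ∧ (∀ i, IsTotallySingularQuad (⇑Q) (D i)) ∧
      H ≤ decompositionStabilizer D) ∨
    (Odd (Fintype.card F) ∧ ∃ K : Subalgebra F (Matrix (Fin 10) (Fin 10) F), IsFieldSubalgebra 2 K ∧
      IsSelfAdjointFor (QuadraticMap.polar (⇑Q)) K ∧ H = subalgebraNormalizer K ⊓ omegaGL (⇑Q)) ∨
    (¬ IsPlusTypeOn (⇑Q) ⊤ ∧ ∃ K : Subalgebra F (Matrix (Fin 10) (Fin 10) F),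
      UnitaryField Q K ∧ H = subalgebraNormalizer K ⊓ omegaGL (⇑Q)) ∨
    InEvSubfield Q H ∨ InOrthogonalResidualClass H

variable (f : Frame Q) (hmax : IsMaximalIn (omegaGL (⇑Q)) H)
include hQ f hmax

lemma ten_halves {D : Fin 2 → Submodule F (Fin 10 → F)}
    (hD : IsNondegenerateMDecomposition (QuadraticMap.polar (⇑Q)) 5 D) (h2 : (2 : F) ≠ 0)
    (hle : H ≤ decompositionStabilizer D) : TenIso Q H ∨ TenNonIso Q H := by
  have heq := eq_decomposition hQ f (by simp) hmax hD hle
  obtain ⟨m1, m3⟩ := mod_four_of_square h2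
  have h := halves_iff hQ h2 hD (by simp)
  rw [show (-1 : F) ^ 5 = -1 by norm_num] at h
  by_cases hiso : AreIsometricFor (⇑Q) (D 0) (D 1)
  · exact Or.inl ⟨fun hp => m1 (by tauto), fun hp => m3 (by tauto), D, orth_two_of_isometric hD hiso, heq⟩
  · exact Or.inr ⟨fun hp => m3 (by tauto), fun hp => m1 (by tauto), D, hD, hiso, heq⟩

lemma ten_lines (hirr : Irred H) {D : Fin 10 → Submodule F (Fin 10 → F)}
    (hD : IsOrthogonalMDecomposition (⇑Q) 1 D) (hle : H ≤ decompositionStabilizer D) : TenItems Q H := by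
  have h2 := two_ne_zero_of_lines hD.decomp
  by_cases hp : (Fintype.card F).Prime
  · have h := decomposition_plus_iff_square hQ h2 (m := 5) (by simp) hD (by decide)
    rw [show (-1 : F) ^ 5 = -1 by norm_num] at h
    obtain ⟨m1, m3⟩ := mod_four_of_square h2
    exact Or.inr (Or.inl ⟨hp, fun x => m1 (h.1 x), fun x => m3 (mt h.2 x), D, hD,
      eq_decomposition hQ f (by simp) hmax hD.decomp hle⟩)
  · exact Or.inr (Or.inr (Or.inr (Or.inr (Or.inr (Or.inr (Or.inr (Or.inr (Or.inl
      (inEvSubfield_of_lines hQ (by simp) (hI_of_max hQ hmax) hirr hD hle hp)))))))))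

lemma ten_of_hasLines (hirr : Irred H) (h : HasLines Q H) : TenItems Q H := by
  obtain ⟨E, hE, hle⟩ := lines_cast (Fintype.card_fin 10) h
  exact ten_lines hQ f hmax hirr hE hle

lemma ten_planes (hirr : Irred H) {D : Fin 5 → Submodule F (Fin 10 → F)}
    (hD : IsOrthogonalMDecomposition (⇑Q) 2 D) (hle : H ≤ decompositionStabilizer D) : TenItems Q H := by
  have hI := hI_of_max hQ hmax
  by_cases h3 : Fintype.card F = 3
  · have h2 : (2 : F) ≠ 0 := odd_card_iff.1 (by rw [h3]; decide)
    exact ten_of_hasLines hQ f hmax hirr (lines_of_three hQ hI hirr (by simp) h2 h3 hD (Or.inl rfl) hle)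
  by_cases hsmall : IsPlusTypeOn (⇑Q) ⊤ ∧ Fintype.card F < 7
  · obtain ⟨hplus, hlt⟩ := hsmall
    have hparts : ∀ i, IsPlusTypeOn (⇑Q) (D i) := fun i =>
      (decomposition_plus_iff_of_odd hQ (m := 1) hD (by decide) i).1 hplus
    rcases card_cases_lt_seven hlt with h | h | h | h
    · exact (false_of_planes_two hI hirr h hD hparts hle).elim
    · exact absurd h h3
    · exact Or.inr (Or.inr (Or.inr (Or.inr (Or.inr (Or.inr (Or.inr (Or.inr (Or.inl
        (inEvSubfield_of_planes_four hQ hI hirr (by simp) h hD hparts hle)))))))))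
    · have h2 : (2 : F) ≠ 0 := odd_card_iff.1 (by rw [h]; decide)
      exact ten_of_hasLines hQ f hmax hirr (lines_of_five hI hirr (by simp) h2 h hD 0 (hparts 0) hle)
  · push_neg at hsmall
    exact Or.inr (Or.inr (Or.inl ⟨h3, hsmall, D, hD, eq_decomposition hQ f (by simp) hmax hD.decomp hle⟩))

/-- A maximal subgroup of Omega in dimension ten. -/
theorem ten_cases : TenItems Q H := by
  classical
  have hI := hI_of_max hQ hmax
  have h5 : 5 ≤ Fintype.card (Fin 10) := by simp
  by_cases hirr : Irred H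
  · have hpair : ∀ {k : ℕ} {D : Fin 2 → Submodule F (Fin 10 → F)}, Fintype.card (Fin 10) = 2 * k →
        IsMDecomposition k D → (∀ i, IsTotallySingularQuad (⇑Q) (D i)) → H ≤ decompositionStabilizer D →
        TenItems Q H := by
      intro k D hk hD hts hle
      rw [Fintype.card_fin] at hk
      obtain rfl : k = 5 := by omega
      exact Or.inr (Or.inr (Or.inr (Or.inr (Or.inr (Or.inl ⟨D, hD, hts, hle⟩)))))
    have hunit : ∀ K : Subalgebra F (Matrix (Fin 10) (Fin 10) F), UnitaryField Q K →
        H ≤ subalgebraNormalizer K → TenItems Q H := fun K hK hle =>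
      Or.inr (Or.inr (Or.inr (Or.inr (Or.inr (Or.inr (Or.inr (Or.inl
        ⟨not_plus_of_unitary hQ hK (m := 5) (by simp) (by decide), K, hK,
          eq_field hQ f h5 hmax le_rfl hK.1 hle⟩)))))))
    rcases irred_items hQ hmax (by simp) (by decide) hirr with h | h | h | h | h | h
    · rcases h with ⟨t, k, D, htk, hD, hle⟩ | ⟨k, D, hk, hD, hts, hle⟩ | ⟨r, K, hr, hdvd, hK, hsa, hle⟩ |
        ⟨K, hK, hle⟩
      · rw [Fintype.card_fin] at htk
        have h2 := hD.decomp.decomp.two_le
        have htd : t ∣ 10 := ⟨k, htk⟩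
        have hte : t ∈ Nat.divisors 10 := Nat.mem_divisors.2 ⟨htd, by norm_num⟩
        rw [show Nat.divisors 10 = {1, 2, 5, 10} from by decide] at hte
        simp only [Finset.mem_insert, Finset.mem_singleton] at hte
        rcases hte with rfl | rfl | rfl | rfl
        · omega
        · obtain rfl : k = 5 := by omega
          have h2' : (2 : F) ≠ 0 := fun h0 => absurd
            (hD.decomp.decomp.finrank_eq 0 ▸ even_finrank_of_alternating h0 (nonDeg_parts hD 0) hQ) (by decide)
          rcases ten_halves hQ f hmax hD.decomp h2' hle with h | h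
          · exact Or.inr (Or.inr (Or.inr (Or.inl h)))
          · exact Or.inr (Or.inr (Or.inr (Or.inr (Or.inl h))))
        · obtain rfl : k = 2 := by omega
          exact ten_planes hQ f hmax hirr hD hle
        · obtain rfl : k = 1 := by omega
          exact ten_lines hQ f hmax hirr hD hle
      · exact hpair hk hD hts hle
      · rw [Fintype.card_fin] at hdvd
        rcases hr.eq_two_or_odd' with rfl | ho
        · by_cases h2 : (2 : F) = 0
          · have := two_mul_dvd_card hQ h2 hK hsa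
            rw [Fintype.card_fin] at this
            omega
          · exact Or.inr (Or.inr (Or.inr (Or.inr (Or.inr (Or.inr (Or.inl
              ⟨odd_card_iff.2 h2, K, hK, hsa, eq_field hQ f h5 hmax le_rfl hK hle⟩))))))
        · obtain rfl : r = 5 := by
            have := Nat.le_of_dvd (by norm_num) hdvd
            have := hr.two_le
            interval_cases r <;> revert hdvd ho <;> decide
          rcases pair_or_unitary hQ hI hirr ho (by simp) hK hsa hle with ⟨k, E, e, hE, hts, hle', -⟩ | ⟨K', hK', hle'⟩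
          · rw [evData_form] at hts
            exact hpair (card_eq_of_decomposition hE) hE (singular_of_pair hQ (by simp) hI hirr hE hts hle') hle'
          · exact hunit K' hK' hle'
      · exact hunit K hK hle
    · obtain ⟨a, k, e, -, -, -, ha, hak, ⟨i, rfl⟩, ⟨j, rfl⟩, -⟩ := h
      have hc := Fintype.card_congr e
      simp only [Fintype.card_prod, Fintype.card_fin] at hc
      exfalso
      have hc' : 4 * (i * j) = 10 := by rw [hc]; ring
      omega
    · obtain ⟨a, k, e, -, -, -, -, ha, hak, -⟩ := h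
      have hc := Fintype.card_congr e
      simp only [Fintype.card_prod, Fintype.card_fin] at hc
      exfalso
      have hka : a * a ≤ 10 := hc ▸ Nat.mul_le_mul_left a hak
      have : a ≤ 3 := by nlinarith
      obtain rfl : a = 3 := by omega
      omega
    · obtain ⟨a, b, ha, hb, hc, -⟩ := h
      rw [Fintype.card_fin] at hc
      exfalso
      have h1 : a ^ 2 ≤ 10 := hc ▸ Nat.pow_le_pow_right (by omega) hb
      have : a ≤ 3 := by nlinarith
      have : b ≤ 3 := by
        by_contra hb'
        have h1 : 2 ^ 4 ≤ a ^ b := (Nat.pow_le_pow_left ha 4).trans (Nat.pow_le_pow_right (by omega) (by omega))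
        omega
      interval_cases a <;> interval_cases b <;> omega
    · exact Or.inr (Or.inr (Or.inr (Or.inr (Or.inr (Or.inr (Or.inr (Or.inr (Or.inl h))))))))
    · exact Or.inr (Or.inr (Or.inr (Or.inr (Or.inr (Or.inr (Or.inr (Or.inr (Or.inr h))))))))
  · rcases subspace_items hQ f h5 hmax (by simp) (by simp) hirr with h | h
    · exact Or.inl h
    · obtain ⟨k, D, hk, hD, ho, hle⟩ := exists_halves hQ hmax h
      rw [Fintype.card_fin] at hk
      obtain rfl : k = 5 := by omega
      rcases ten_halves hQ f hmax hD (ho (by decide)) hle with h | h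
      · exact Or.inr (Or.inr (Or.inr (Or.inl h)))
      · exact Or.inr (Or.inr (Or.inr (Or.inr (Or.inl h))))

end Cfsg.Agent.Aschbacher.Ev
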