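/-
Symmetric tensor factors of dimensions three and four.
-/
import Mathlib
import Cfsg.Agent.Aschbacher.Ev.Tensor
import Cfsg.Agent.Aschbacher.Sp.Lists.PlusType
import Cfsg.Agent.Aschbacher.Sp.Lists.TensorF3
import Cfsg.Agent.Aschbacher.Un.Coordinates
import Cfsg.Agent.Lib.Forms.Disc

set_option autoImplicit false
set_option linter.style.haveILetI false
set_option linter.unusedSectionVars false

namespace Cfsg.Agent.Aschbacher.Ev

open Module Matrix
open Cfsg.Geo
open scoped Kronecker

variable {F : Type*} [Field F] [Fintype F]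

/-- The type of a symmetric form in dimension four from its determinant. -/
lemma plus_four_iff (h2 : (2 : F) ≠ 0) {S : Matrix (Fin 4) (Fin 4) F} (hS : IsUnit S.det) (hSs : Sᵀ = S) :
    IsPlusTypeOn (fun v : Fin 4 → F => sesqForm (RingHom.id F) S v v) ⊤ ↔ IsSquare S.det := by
  have hsymm : (Matrix.toBilin' S).IsSymm := ⟨fun x y => by
    simp only [Matrix.toBilin'_apply', RingHom.id_apply]
    rw [Matrix.dotProduct_mulVec, ← Matrix.mulVec_transpose, hSs, dotProduct_comm]⟩
  have hval : ∀ v, sesqForm (RingHom.id F) S v v = Matrix.toBilin' S v v := fun v => by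
    rw [Matrix.toBilin'_apply']; rfl
  have hgram : Forms.Disc.gram (Matrix.toBilin' S) (Pi.basisFun F (Fin 4)) = S := by
    ext i j; simp [Forms.Disc.gram, Matrix.toBilin'_single]
  have hiff := Forms.Disc.exists_lagrangian_iff h2 (Matrix.toBilin' S) hsymm
    (LinearMap.BilinForm.nondegenerate_toBilin'_iff_det_ne_zero.2 hS.ne_zero) (m := 2) (by simp)
    (Pi.basisFun F (Fin 4))
  rw [hgram, show (-1 : F) ^ 2 = 1 by norm_num, one_mul] at hiff
  rw [← hiff]
  constructor
  · rintro ⟨U, -, hU, hd⟩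
    rw [finrank_top, Module.finrank_fintype_fun_eq_card, Fintype.card_fin] at hd
    refine ⟨U, by omega, fun x hx y hy => ?_⟩
    have hx' : Matrix.toBilin' S x x = 0 := (hval x).symm.trans (hU x hx)
    have hy' : Matrix.toBilin' S y y = 0 := (hval y).symm.trans (hU y hy)
    have hxy : Matrix.toBilin' S (x + y) (x + y) = 0 := (hval _).symm.trans (hU _ (add_mem hx hy))
    simp only [map_add, LinearMap.add_apply, hx', hy', hsymm.eq y x] at hxy
    apply mul_left_cancel₀ h2
    linear_combination hxy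
  · rintro ⟨U, hd, hU⟩
    refine ⟨U, le_top, fun x hx => (hval x).trans (hU x hx x hx), ?_⟩
    rw [finrank_top, Module.finrank_fintype_fun_eq_card, Fintype.card_fin, hd]

variable {ι : Type} [Fintype ι] [DecidableEq ι] {Q : QuadraticForm F (ι → F)}
  (hQ : (QuadraticMap.polarBilin Q).Nondegenerate) {H : Subgroup (GL ι F)}

include hQ in
/-- The type of the whole space from the four-dimensional factor. -/
theorem plus_iff_sym_four (h2 : (2 : F) ≠ 0) (e : ι ≃ Fin 3 × Fin 4) (P : GL ι F)
    {G : Matrix (Fin 3) (Fin 3) F} {S : Matrix (Fin 4) (Fin 4) F} (hG : IsUnit G.det) (hS : IsUnit S.det)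
    (hSs : Sᵀ = S) (hpull : (evData hQ).pull e P = G ⊗ₖ S) :
    IsPlusTypeOn (⇑Q) (⊤ : Submodule F (ι → F)) ↔
      IsPlusTypeOn (fun v : Fin 4 → F => sesqForm (RingHom.id F) S v v) ⊤ := by
  have hcard : Fintype.card ι = 2 * 6 := by simp [Fintype.card_congr e]
  rw [plus_four_iff h2 hS hSs, plus_iff_square_gram hQ h2 hcard]
  have hdet : ((evData hQ).pull e P).det =
      ((P : Matrix ι ι F).det * (gramMatrix (QuadraticMap.polar (⇑Q))).det) * (P : Matrix ι ι F).det := by
    rw [FormData.pull, Matrix.det_submatrix_equiv_self, show (P : Matrix ι ι F).map (evData hQ).τ =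
      (P : Matrix ι ι F) from Matrix.map_id _, Matrix.det_mul, Matrix.det_mul, Matrix.det_transpose]
    rfl
  rw [hpull, Matrix.det_kronecker, Fintype.card_fin, Fintype.card_fin] at hdet
  have hP : (P : Matrix ι ι F).det ≠ 0 := (Matrix.GeneralLinearGroup.det P).ne_zero
  set s := G.det ^ 2 * S.det / (P : Matrix ι ι F).det with hs
  have e1 : (-1 : F) ^ 6 * (gramMatrix (QuadraticMap.polar (⇑Q))).det = s * s * S.det := by
    rw [hs]
    field_simp
    linear_combination -hdet
  rw [e1, isSquare_mul_iff h2 (mul_ne_zero (div_ne_zero (mul_ne_zero (pow_ne_zero _ hG.ne_zero) hS.ne_zero) hP)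
    (div_ne_zero (mul_ne_zero (pow_ne_zero _ hG.ne_zero) hS.ne_zero) hP)) hS.ne_zero]
  exact ⟨fun h => h.1 ⟨s, rfl⟩, fun h => iff_of_true ⟨s, rfl⟩ h⟩

/-- Changed coordinates of an element. -/
lemma glCoord_change {κ : Type} [Fintype κ] [DecidableEq κ] (e : ι ≃ κ) (P g : GL ι F) (X : GL κ F) :
    glCoord e (P * glReindex e.symm X) g = X⁻¹ * glCoord e P g * X := by
  have hr : ∀ R x : GL ι F, glCoord e R x = glReindex e (R⁻¹ * x * R) := fun R x => rfl
  have hX : glReindex e (glReindex e.symm X) = X := Units.ext (by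
    rw [coe_glReindex, coe_glReindex, Matrix.submatrix_submatrix]; simp)
  rw [hr, hr, _root_.mul_inv_rev, show (glReindex e.symm X)⁻¹ * P⁻¹ * g * (P * glReindex e.symm X) =
    (glReindex e.symm X)⁻¹ * (P⁻¹ * g * P) * glReindex e.symm X by group, map_mul, map_mul, map_inv, hX]

include hQ in
/-- Over three elements a three-dimensional orthogonal factor gives more structure. -/
theorem centre_of_sym_three (hq : Fintype.card F = 3) (hH : H ≤ Cfsg.isometryGroup F (⇑Q)) (hirr : Irred H)
    [Nonempty ι] {k : ℕ} (e : ι ≃ Fin 3 × Fin k) (P : GL ι F) {G : Matrix (Fin 3) (Fin 3) F}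
    {S : Matrix (Fin k) (Fin k) F} (hG : IsUnit G.det) (hS : IsUnit S.det) (hGs : Gᵀ = G)
    (hpull : (evData hQ).pull e P = G ⊗ₖ S) (hle : H ≤ tensorProductSubgroup 3 k e P) :
    CentreOutcome (evData hQ) H := by
  classical
  obtain ⟨-, ⟨j₀⟩⟩ := nonempty_factors e
  have h2 : (2 : F) ≠ 0 := fun h => one_ne_zero (α := F) (by linear_combination three_eq_zero_of_card hq - h)
  obtain ⟨C, c, hc, hCu, hC⟩ := exists_congr_scalar_three hq hG hGs
  set Cu : GL (Fin 3) F := Matrix.GeneralLinearGroup.mkOfDetNeZero C hCu.ne_zero with hCudef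
  set X : GL (Fin 3 × Fin k) F := kronUnit (Cu, (1 : GL (Fin k) F)) with hX
  set P' := P * glReindex e.symm X with hP'
  have hpull' : (evData hQ).pull e P' = (c • (1 : Matrix (Fin 3) (Fin 3) F)) ⊗ₖ S := by
    rw [hP', FormData.pull_change, hpull, show (X : Matrix (Fin 3 × Fin k) (Fin 3 × Fin k) F).map (evData hQ).τ =
      (X : Matrix _ _ F) from Matrix.map_id _, hX, kronUnit_coe, ← Matrix.kroneckerMap_transpose,
      ← Matrix.mul_kronecker_mul, ← Matrix.mul_kronecker_mul, Units.val_one, Matrix.transpose_one, one_mul, mul_one]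
    congr 1
  have hle' : H ≤ tensorProductSubgroup 3 k e P' := hle.trans (map_conj_change _ (kronUnit_mem Cu 1) e P)
  set w : Fin 3 → F := ![0, 1, -1] with hw
  set M : Matrix (Fin 3 × Fin k) (Fin 3 × Fin k) F := Matrix.diagonal w ⊗ₖ (1 : Matrix (Fin k) (Fin k) F) with hM
  set z := conjMat P' (M.submatrix e e) with hz
  have hzA : z ∈ Algebra.adjoin F {z} := Algebra.subset_adjoin rfl
  have hdiag : ∀ δ : Fin 3 → F, conjMat P' ((Matrix.diagonal δ ⊗ₖ (1 : Matrix (Fin k) (Fin k) F)).submatrix e e) ∈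
      Algebra.adjoin F {z} := by
    intro δ
    obtain ⟨α, β, γ, hδ⟩ : ∃ α β γ : F, δ = fun i => α + β * w i + γ * (w i * w i) := by
      refine ⟨δ 0, (δ 1 - δ 2) / 2, (δ 1 + δ 2 - 2 * δ 0) / 2, ?_⟩
      funext i
      fin_cases i
      · simp [hw]
      · simp [hw]; field_simp; ring
      · simp [hw]; field_simp; ring
    have e1 : (Matrix.diagonal δ ⊗ₖ (1 : Matrix (Fin k) (Fin k) F)).submatrix e e =
        α • 1 + β • M.submatrix e e + γ • (M.submatrix e e * M.submatrix e e) := by
      rw [Matrix.submatrix_mul_equiv, hM, ← Matrix.mul_kronecker_mul, one_mul, Matrix.diagonal_mul_diagonal, hδ]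
      ext i j
      by_cases h : i = j
      · subst h; simp
      · have h' : e i ≠ e j := fun he => h (e.injective he)
        rw [← Matrix.diagonal_one (n := Fin k)]
        simp only [Matrix.add_apply, Matrix.smul_apply, Matrix.submatrix_apply, Matrix.one_apply_ne h,
          Matrix.diagonal_kronecker_diagonal, Matrix.diagonal_apply_ne _ h', smul_zero, add_zero]
    rw [e1, map_add, map_add, map_smul, map_smul, map_smul, map_one, map_mul, ← hz]
    exact add_mem (add_mem (Subalgebra.smul_mem _ (one_mem _) _) (Subalgebra.smul_mem _ hzA _))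
      (Subalgebra.smul_mem _ (mul_mem hzA hzA) _)
  refine centre_of_element hQ hH hirr (z := z) ?_ ?_ ?_
  · intro a ha
    have h1 : M.submatrix e e = a • 1 := (conjMat P').injective (by rw [map_smul, map_one]; exact ha)
    have e0 := congrFun (congrFun h1 (e.symm (0, j₀))) (e.symm (0, j₀))
    have e1 := congrFun (congrFun h1 (e.symm (1, j₀))) (e.symm (1, j₀))
    simp [hM, hw] at e0 e1
    rw [← e1] at e0
    exact zero_ne_one e0
  · have h1 : (evData hQ).adj z = conjMat P' (M.submatrix e e) := by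
      refine (evData hQ).adj_of_intertwine e P' ?_
      rw [show M.map (evData hQ).τ = M from Matrix.map_id _, hpull', hM, ← Matrix.kroneckerMap_transpose,
        Matrix.diagonal_transpose, Matrix.transpose_one, ← Matrix.mul_kronecker_mul, ← Matrix.mul_kronecker_mul,
        one_mul, mul_one, Matrix.mul_smul, Matrix.smul_mul, one_mul, mul_one]
    rw [h1]
    exact hzA
  · intro g hg
    obtain ⟨a, b, d, hd0, hab, ha, -⟩ := exists_factor_sims hQ e P' (G := c • (1 : Matrix (Fin 3) (Fin 3) F))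
      (by rw [Matrix.det_smul, Matrix.det_one, mul_one]; exact (pow_ne_zero _ hc).isUnit) hS hpull' hH hle' hg
    set A := (a : Matrix (Fin 3) (Fin 3) F) with hA
    rw [Matrix.mul_smul, Matrix.smul_mul, mul_one, smul_comm] at ha
    have haa : Aᵀ * A = d • (1 : Matrix (Fin 3) (Fin 3) F) := smul_right_injective _ hc ha
    have hd1 : d = 1 := by
      have h3 := congrArg Matrix.det haa
      rw [Matrix.det_mul, Matrix.det_transpose, Matrix.det_smul, Matrix.det_one, mul_one, Fintype.card_fin] at h3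
      have hA0 : A.det ≠ 0 := (Matrix.GeneralLinearGroup.det a).ne_zero
      rw [sq_eq_one_three hq hA0, pow_succ, sq, sq_eq_one_three hq hd0, one_mul] at h3
      exact h3.symm
    rw [hd1, one_smul] at haa
    obtain ⟨ρ, hρ⟩ := exists_perm_of_orthogonal_three hq haa
    have hint : A * Matrix.diagonal w = Matrix.diagonal (w ∘ ρ.symm) * A := by
      ext i j
      rw [Matrix.mul_diagonal, Matrix.diagonal_mul, Function.comp_apply]
      by_cases hij : A i j = 0
      · rw [hij, zero_mul, mul_zero]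
      · rw [hρ i j hij, Equiv.symm_apply_apply, mul_comm]
    have hgz : conjMat g z = conjMat P' ((Matrix.diagonal (w ∘ ρ.symm) ⊗ₖ (1 : Matrix (Fin k) (Fin k) F)).submatrix e e) := by
      rw [hz, ← conjMat_glCoord]
      congr 1
      show _ = (Matrix.diagonal (w ∘ ρ.symm) ⊗ₖ (1 : Matrix (Fin k) (Fin k) F)).submatrix e e
      congr 1
      rw [conjMat_eq_iff_mul, hab, hM, ← Matrix.mul_kronecker_mul, ← Matrix.mul_kronecker_mul, mul_one, one_mul,
        hint]
    rw [hgz]
    exact hdiag _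

lemma swapFour_det : (swapFour F).det = -1 := by
  have h : swapFour F = (1 : Matrix (Fin 2 × Fin 2) (Fin 2 × Fin 2) F).submatrix
      (Equiv.prodComm (Fin 2) (Fin 2)) id := rfl
  rw [h, Matrix.det_permute, Matrix.det_one, mul_one,
    show Equiv.Perm.sign (Equiv.prodComm (Fin 2) (Fin 2)) = -1 from by decide]
  simp

/-- From a product of three and four to a product of two and six. -/
def twoSix : Fin 3 × Fin 4 ≃ Fin 2 × Fin 6 :=
  ((Equiv.refl (Fin 3)).prodCongr (finProdFinEquiv : Fin 2 × Fin 2 ≃ Fin 4).symm).trans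
    { toFun := fun p => (p.2.1, (finProdFinEquiv : Fin 3 × Fin 2 ≃ Fin 6) (p.1, p.2.2))
      invFun := fun r => (((finProdFinEquiv : Fin 3 × Fin 2 ≃ Fin 6).symm r.2).1,
        (r.1, ((finProdFinEquiv : Fin 3 × Fin 2 ≃ Fin 6).symm r.2).2))
      left_inv := fun p => by simp only [Equiv.symm_apply_apply]
      right_inv := fun r => by simp only [Prod.mk.eta, Equiv.apply_symm_apply] }

include hQ in
/-- A symmetric four-dimensional factor of plus type gives two alternating factors. -/
theorem altTensor_of_sym_four (h2 : (2 : F) ≠ 0) (hH : H ≤ Cfsg.isometryGroup F (⇑Q)) (hirr : Irred H)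
    (hdet : ∀ g ∈ H, (g : Matrix ι ι F).det = 1) (e : ι ≃ Fin 3 × Fin 4) (P : GL ι F)
    {G : Matrix (Fin 3) (Fin 3) F} {S : Matrix (Fin 4) (Fin 4) F} (hG : IsUnit G.det) (hS : IsUnit S.det)
    (hGs : Gᵀ = G) (hSs : Sᵀ = S) (hplus : IsPlusTypeOn (fun v : Fin 4 → F => sesqForm (RingHom.id F) S v v) ⊤)
    (hpull : (evData hQ).pull e P = G ⊗ₖ S) (hle : H ≤ tensorProductSubgroup 3 4 e P) :
    ∃ (e' : ι ≃ Fin 2 × Fin 6) (P' : GL ι F) (f₁ : (Fin 2 → F) → (Fin 2 → F) → F)
      (f₂ : (Fin 6 → F) → (Fin 6 → F) → F), IsSymplecticForm f₁ ∧ IsSymplecticForm f₂ ∧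
      IsTensorFormStructure id (QuadraticMap.polar (⇑Q)) f₁ f₂ e' P' ∧
      (∀ (x₁ : Fin 2 → F) (x₂ : Fin 6 → F),
        Q ((P' : Matrix ι ι F) *ᵥ ((fun p : Fin 2 × Fin 6 => x₁ p.1 * x₂ p.2) ∘ e')) = 0) ∧
      H ≤ tensorProductSubgroup 2 6 e' P' := by
  classical
  haveI : Nonempty ι := ⟨e.symm (0, 0)⟩
  set τ : Fin 4 ≃ Fin 2 × Fin 2 := (finProdFinEquiv : Fin 2 × Fin 2 ≃ Fin 4).symm with hτ
  obtain ⟨C₀, hC₀⟩ := exists_congr_plus h2 hS hSs hplus
  set C : Matrix (Fin 4) (Fin 4) F := C₀.submatrix id τ with hCdef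
  have hC : Cᵀ * S * C = (hypFour F).submatrix τ τ := by
    rw [← hC₀]
    rfl
  have hhyp : (hypFour F).det ≠ 0 := by
    rw [hypFour, Matrix.det_kronecker]; simp [altTwo, Matrix.det_fin_two]
  have hCu : C.det ≠ 0 := fun h0 => by
    have h1 := congrArg Matrix.det hC
    rw [Matrix.det_mul, h0, mul_zero, Matrix.det_submatrix_equiv_self] at h1
    exact hhyp h1.symm
  set X : GL (Fin 3 × Fin 4) F :=
    kronUnit ((1 : GL (Fin 3) F), Matrix.GeneralLinearGroup.mkOfDetNeZero C hCu) with hX
  set P' := P * glReindex e.symm X with hP'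
  have hpull₁ : (evData hQ).pull e P' = G ⊗ₖ (hypFour F).submatrix τ τ := by
    rw [hP', FormData.pull_change, hpull, show (X : Matrix (Fin 3 × Fin 4) (Fin 3 × Fin 4) F).map (evData hQ).τ =
      (X : Matrix _ _ F) from Matrix.map_id _, hX, kronUnit_coe, ← Matrix.kroneckerMap_transpose,
      ← Matrix.mul_kronecker_mul, ← Matrix.mul_kronecker_mul, Units.val_one, Matrix.transpose_one, one_mul,
      mul_one, ← hC]
    rfl
  have hle₁ : H ≤ tensorProductSubgroup 3 4 e P' := hle.trans (map_conj_change _ (kronUnit_mem _ _) e P)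
  have hhS : IsUnit ((hypFour F).submatrix τ τ).det := by
    rw [Matrix.det_submatrix_equiv_self]; exact hhyp.isUnit
  set e' := e.trans twoSix with he'
  set S₆ : Matrix (Fin 6) (Fin 6) F :=
    (G ⊗ₖ altTwo F).submatrix (finProdFinEquiv : Fin 3 × Fin 2 ≃ Fin 6).symm
      (finProdFinEquiv : Fin 3 × Fin 2 ≃ Fin 6).symm with hS₆
  have hpull₂ : (evData hQ).pull e' P' = altTwo F ⊗ₖ S₆ := by
    ext ⟨s, t⟩ ⟨s', t'⟩
    have h1 : (evData hQ).pull e' P' (s, t) (s', t') =
        (evData hQ).pull e P' (twoSix.symm (s, t)) (twoSix.symm (s', t')) := rfl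
    rw [h1, hpull₁]
    simp [twoSix, hypFour, hτ, hS₆]
    ring
  have haltd : ∀ i, (altTwo F) i i = 0 := fun i => by fin_cases i <;> simp [altTwo]
  have haltT : (altTwo F)ᵀ = -altTwo F := by rw [altTwo_transpose, neg_one_smul]
  have haltu : IsUnit (altTwo F).det := by simp [altTwo, Matrix.det_fin_two]
  have hS₆T : S₆ᵀ = -S₆ := by
    rw [hS₆, Matrix.transpose_submatrix, ← Matrix.kroneckerMap_transpose, hGs, haltT]
    ext i j; simp
  have hS₆d : ∀ i, S₆ i i = 0 := fun i => by simp [hS₆, haltd]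
  have hS₆u : IsUnit S₆.det := by
    rw [hS₆, Matrix.det_submatrix_equiv_self, Matrix.det_kronecker]
    exact (hG.pow _).mul (haltu.pow _)
  have hle₂ : H ≤ tensorProductSubgroup 2 6 e' P' := by
    intro g hg
    obtain ⟨a, b, c, hc0, hab, ha, hb⟩ := exists_factor_sims hQ e P' hG hhS hpull₁ hH hle₁ hg
    set A := (a : Matrix (Fin 3) (Fin 3) F) with hA
    set B' := (b : Matrix (Fin 4) (Fin 4) F).submatrix τ.symm τ.symm with hB'
    have hBsim : B'ᵀ * hypFour F * B' = c⁻¹ • hypFour F := by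
      have h3 := congrArg (fun M : Matrix (Fin 4) (Fin 4) F => M.submatrix τ.symm τ.symm) hb
      simp only [← Matrix.submatrix_mul_equiv _ _ τ.symm τ.symm τ.symm, Matrix.submatrix_smul,
        Matrix.submatrix_submatrix, Equiv.self_comp_symm, Matrix.submatrix_id_id, Pi.smul_apply] at h3
      rw [hB', Matrix.transpose_submatrix]
      exact h3
    have hbB : (b : Matrix (Fin 4) (Fin 4) F) = B'.submatrix τ τ := by simp [hB']
    obtain ⟨x, y, hxy⟩ := exists_of_hyp_similitude h2 (inv_ne_zero hc0) hBsim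
    rcases hxy with hxy | hxy
    swap
    · exfalso
      have hcd : c⁻¹ = x.det * y.det := by
        have h3 : (x.det * y.det) • hypFour F = c⁻¹ • hypFour F := by
          rw [← hBsim, hxy, Matrix.transpose_mul,
            show (x ⊗ₖ y)ᵀ * (swapFour F)ᵀ * hypFour F * (swapFour F * x ⊗ₖ y) =
              (x ⊗ₖ y)ᵀ * ((swapFour F)ᵀ * hypFour F * swapFour F) * (x ⊗ₖ y) by simp only [Matrix.mul_assoc],
            swapFour_congr, hypFour, ← Matrix.kroneckerMap_transpose, ← Matrix.mul_kronecker_mul,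
            ← Matrix.mul_kronecker_mul, altTwo_congr, altTwo_congr, Matrix.smul_kronecker, Matrix.kronecker_smul,
            smul_smul]
        refine smul_left_injective F (fun h0 => hhyp ?_) h3.symm
        rw [h0, Matrix.det_zero]
      have hA2 : A.det * A.det = c ^ 3 := by
        have h3 := congrArg Matrix.det ha
        rw [Matrix.det_mul, Matrix.det_mul, Matrix.det_transpose, Matrix.det_smul, Fintype.card_fin] at h3
        exact mul_right_cancel₀ hG.ne_zero (by linear_combination h3)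
      have h1 : (glCoord e P' g : Matrix (Fin 3 × Fin 4) (Fin 3 × Fin 4) F).det = 1 := by
        rw [glCoord, coe_glReindex, Matrix.det_submatrix_equiv_self, Units.val_mul, Units.val_mul, Matrix.det_mul,
          Matrix.det_mul, mul_right_comm, ← Matrix.det_mul, Units.inv_mul, Matrix.det_one, one_mul]
        exact hdet g hg
      rw [hab, Matrix.det_kronecker, hbB, Matrix.det_submatrix_equiv_self, hxy, Matrix.det_mul, swapFour_det,
        Matrix.det_kronecker, Fintype.card_fin, Fintype.card_fin, Fintype.card_fin] at h1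
      have hcc : c ^ 6 * (x.det * y.det) ^ 6 = 1 := by
        rw [← hcd, inv_pow, mul_inv_cancel₀ (pow_ne_zero _ hc0)]
      have h4 : A.det ^ 4 = c ^ 6 := by linear_combination (A.det * A.det + c ^ 3) * hA2
      apply h2
      linear_combination -h1 - hcc - ((x.det * y.det) ^ 6) * h4
    have hxu : x.det ≠ 0 ∧ y.det ≠ 0 := by
      have hB0 : B'.det ≠ 0 := fun h0 => by
        have h3 := congrArg Matrix.det hBsim
        rw [Matrix.det_mul, h0, mul_zero, Matrix.det_smul] at h3
        exact mul_ne_zero (pow_ne_zero _ (inv_ne_zero hc0)) hhyp h3.symm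
      rw [hxy, Matrix.det_kronecker, Fintype.card_fin] at hB0
      exact ⟨fun h => hB0 (by rw [h]; simp), fun h => hB0 (by rw [h]; simp)⟩
    set Y : Matrix (Fin 6) (Fin 6) F := (A ⊗ₖ y).submatrix (finProdFinEquiv : Fin 3 × Fin 2 ≃ Fin 6).symm
      (finProdFinEquiv : Fin 3 × Fin 2 ≃ Fin 6).symm with hY
    have hYd : Y.det ≠ 0 := by
      rw [hY, Matrix.det_submatrix_equiv_self, Matrix.det_kronecker]
      exact mul_ne_zero (pow_ne_zero _ (Matrix.GeneralLinearGroup.det a).ne_zero) (pow_ne_zero _ hxu.2)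
    have hcoord : glCoord e' P' g = kronUnit (Matrix.GeneralLinearGroup.mkOfDetNeZero x hxu.1,
        Matrix.GeneralLinearGroup.mkOfDetNeZero Y hYd) := by
      apply Units.ext
      rw [kronUnit_coe]
      ext ⟨s, t⟩ ⟨s', t'⟩
      have h5 : (glCoord e' P' g : Matrix (Fin 2 × Fin 6) (Fin 2 × Fin 6) F) (s, t) (s', t') =
          (glCoord e P' g : Matrix (Fin 3 × Fin 4) (Fin 3 × Fin 4) F) (twoSix.symm (s, t)) (twoSix.symm (s', t')) := rfl
      rw [h5, hab, hbB, hxy]
      show _ = x s s' * Y t t'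
      simp [twoSix, hτ, hY]
      ring
    rw [← conj_glReindex_glCoord e' P' g, hcoord]
    exact Subgroup.mem_map_of_mem _ (Subgroup.mem_map_of_mem _ (kronUnit_mem _ _))
  refine ⟨e', P', sesqForm (RingHom.id F) (altTwo F), sesqForm (RingHom.id F) S₆,
    isSymplecticForm_sesqForm haltT haltd haltu, isSymplecticForm_sesqForm hS₆T hS₆d hS₆u,
    isTensorFormStructure_of_pull hQ e' P' hpull₂, ?_, hle₂⟩
  exact vanishes_of_alternating hQ (by simp [Fintype.card_congr e]) hH hirr e' P' haltu hS₆u haltT hS₆T haltd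
    hS₆d hpull₂ hle₂

end Cfsg.Agent.Aschbacher.Ev
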