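/-
Maximal subgroups of Omega in dimension twelve: what the decompositions give.
-/
import Mathlib
import Cfsg.Agent.Aschbacher.Ev.Lists
import Cfsg.Agent.Aschbacher.Ev.Twelve

set_option autoImplicit false
set_option linter.style.haveILetI false
set_option linter.unusedSectionVars false

namespace Cfsg.Agent.Aschbacher.Ev

open Module Matrix
open Cfsg.Geo
open Cfsg.Agent.Classical.Orth (Frame)

variable {F : Type*} [Field F] [Fintype F]

section halves

variable {ι : Type} [Fintype ι] [DecidableEq ι] {Q : QuadraticForm F (ι → F)}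
  (hQ : (QuadraticMap.polarBilin Q).Nondegenerate)
include hQ

/-- Two halves of even dimension in a space of plus type have the same type. -/
theorem halves_isometric {k : ℕ} (hke : Even k) (hm : Fintype.card ι = 2 * k)
    {D : Fin 2 → Submodule F (ι → F)} (hD : IsNondegenerateMDecomposition (QuadraticMap.polar (⇑Q)) k D)
    (hplus : IsPlusTypeOn (⇑Q) (⊤ : Submodule F (ι → F))) : IsOrthogonalMDecomposition (⇑Q) k D := by
  obtain ⟨j, hj⟩ := hke
  have hnd : ∀ i, NonDeg Q (D i) := fun i => nonDeg_of (hD.nondegenerate i)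
  have hperp : ∀ a b : Fin 2, a ≠ b → D b = Forms.Max.Orth.perp Q (D a) := by
    intro a b hab
    refine Submodule.eq_of_le_of_finrank_le (fun y hy => Forms.Max.Orth.mem_perp.2 fun x hx =>
      hD.orthogonal a b hab x hx y hy) ?_
    have h := Forms.Max.Orth.finrank_perp hQ (D a)
    rw [hD.decomp.finrank_eq a] at h
    rw [hD.decomp.finrank_eq b]
    omega
  have hpp : ∀ a b : Fin 2, a ≠ b → IsPlusTypeOn (⇑Q) (D a) → IsPlusTypeOn (⇑Q) (D b) := fun a b hab hp => by
    rw [hperp a b hab]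
    exact plus_perp hQ hplus (hnd a) hp
  have hall : ∀ a b : Fin 2, IsPlusTypeOn (⇑Q) (D a) ↔ IsPlusTypeOn (⇑Q) (D b) := fun a b => by
    by_cases hab : a = b
    · rw [hab]
    · exact ⟨hpp a b hab, hpp b a (Ne.symm hab)⟩
  exact ⟨hD, fun a b => isometric_of_same_type (hnd a) (hnd b) (m := j) (by rw [hD.decomp.finrank_eq]; omega)
    (by rw [hD.decomp.finrank_eq]; omega) (hall a b)⟩

end halves

variable {Q : QuadraticForm F (Fin 12 → F)} (hQ : (QuadraticMap.polarBilin Q).Nondegenerate)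
  {H : Subgroup (GL (Fin 12) F)}

/-- The frames of lines and of planes, or a subfield. -/
def TwelveSmall (Q : QuadraticForm F (Fin 12 → F)) (H : Subgroup (GL (Fin 12) F)) : Prop :=
  ((∃ p : ℕ, p.Prime ∧ Odd p ∧ Fintype.card F = p) ∧ ∃ D : Fin 12 → Submodule F (Fin 12 → F),
      IsOrthogonalMDecomposition (⇑Q) 1 D ∧ H = decompositionStabilizer D ⊓ omegaGL (⇑Q)) ∨
    (7 ≤ Fintype.card F ∧ ∃ D : Fin 6 → Submodule F (Fin 12 → F), IsOrthogonalMDecomposition (⇑Q) 2 D ∧
      (∀ i, IsPlusTypeOn (⇑Q) (D i)) ∧ H = decompositionStabilizer D ⊓ omegaGL (⇑Q)) ∨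
    (Fintype.card F ≠ 3 ∧ ∃ D : Fin 6 → Submodule F (Fin 12 → F), IsOrthogonalMDecomposition (⇑Q) 2 D ∧
      (∀ i, ¬ IsPlusTypeOn (⇑Q) (D i)) ∧ H = decompositionStabilizer D ⊓ omegaGL (⇑Q)) ∨
    InEvSubfield Q H

lemma isPlusTypeOn_parts {t k : ℕ} {D : Fin t → Submodule F (Fin 12 → F)}
    (hD : IsOrthogonalMDecomposition (⇑Q) k D) (i j : Fin t) (h : IsPlusTypeOn (⇑Q) (D i)) :
    IsPlusTypeOn (⇑Q) (D j) :=
  plus_of_isometric (hD.isometric i j) h

variable (f : Frame Q) (hmax : IsMaximalIn (omegaGL (⇑Q)) H) (hirr : Irred H)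
include hQ f hmax hirr

lemma twelve_lines {D : Fin 12 → Submodule F (Fin 12 → F)}
    (hD : IsOrthogonalMDecomposition (⇑Q) 1 D) (hle : H ≤ decompositionStabilizer D) : TwelveSmall Q H := by
  have h2 := two_ne_zero_of_lines hD.decomp
  by_cases hp : (Fintype.card F).Prime
  · exact Or.inl ⟨⟨_, hp, odd_card_iff.2 h2, rfl⟩, D, hD, eq_decomposition hQ f (by simp) hmax hD.decomp hle⟩
  · exact Or.inr (Or.inr (Or.inr (inEvSubfield_of_lines hQ (by simp) (hI_of_max hQ hmax) hirr hD hle hp)))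

lemma twelve_hasLines (h : HasLines Q H) : TwelveSmall Q H := by
  have aux : ∀ N, N = 12 → (∃ E : Fin N → Submodule F (Fin 12 → F),
      IsOrthogonalMDecomposition (⇑Q) 1 E ∧ H ≤ decompositionStabilizer E) → TwelveSmall Q H := by
    rintro N rfl ⟨E, hE, hle⟩
    exact twelve_lines hQ f hmax hirr hE hle
  exact aux _ (Fintype.card_fin 12) h

lemma twelve_planes {D : Fin 6 → Submodule F (Fin 12 → F)}
    (hD : IsOrthogonalMDecomposition (⇑Q) 2 D) (hle : H ≤ decompositionStabilizer D) : TwelveSmall Q H := by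
  have hI := hI_of_max hQ hmax
  have heq := eq_decomposition hQ f (by simp) hmax hD.decomp hle
  by_cases h3 : Fintype.card F = 3
  · have h2 : (2 : F) ≠ 0 := odd_card_iff.1 (by rw [h3]; decide)
    exact twelve_hasLines hQ f hmax hirr (lines_of_three hQ hI hirr (by simp) h2 h3 hD (Or.inl rfl) hle)
  by_cases hp : IsPlusTypeOn (⇑Q) (D 0)
  · have hparts : ∀ i, IsPlusTypeOn (⇑Q) (D i) := fun i => isPlusTypeOn_parts hD 0 i hp
    by_cases hq : 7 ≤ Fintype.card F
    · exact Or.inr (Or.inl ⟨hq, D, hD, hparts, heq⟩)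
    rcases card_cases_lt_seven (not_le.1 hq) with h | h | h | h
    · exact (false_of_planes_two hI hirr h hD hparts hle).elim
    · exact absurd h h3
    · exact Or.inr (Or.inr (Or.inr (inEvSubfield_of_planes_four hQ hI hirr (by simp) h hD hparts hle)))
    · have h2 : (2 : F) ≠ 0 := odd_card_iff.1 (by rw [h]; decide)
      exact twelve_hasLines hQ f hmax hirr (lines_of_five hI hirr (by simp) h2 h hD 0 hp hle)
  · exact Or.inr (Or.inr (Or.inl ⟨h3, D, hD, fun i hi => hp (isPlusTypeOn_parts hD i 0 hi), heq⟩))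

/-- Four three-spaces give lines over three elements. -/
lemma twelve_threes {D : Fin 4 → Submodule F (Fin 12 → F)}
    (hD : IsOrthogonalMDecomposition (⇑Q) 3 D) (hle : H ≤ decompositionStabilizer D) :
    TwelveSmall Q H ∨ (Odd (Fintype.card F) ∧ 5 ≤ Fintype.card F ∧
      H = decompositionStabilizer D ⊓ omegaGL (⇑Q)) := by
  have h2 : (2 : F) ≠ 0 := fun h0 => absurd
    (hD.decomp.decomp.finrank_eq 0 ▸ even_finrank_of_alternating h0 (nonDeg_parts hD 0) hQ) (by decide)
  by_cases h3 : Fintype.card F = 3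
  · exact Or.inl (twelve_hasLines hQ f hmax hirr
      (lines_of_three hQ (hI_of_max hQ hmax) hirr (by simp) h2 h3 hD (Or.inr rfl) hle))
  · refine Or.inr ⟨odd_card_iff.2 h2, ?_, eq_decomposition hQ f (by simp) hmax hD.decomp hle⟩
    obtain ⟨j, hj⟩ := odd_card_iff.2 h2
    have := Fintype.one_lt_card (α := F)
    omega

/-- Three four-spaces in plus type give planes over two elements. -/
lemma twelve_fours (hplus : IsPlusTypeOn (⇑Q) ⊤) {D : Fin 3 → Submodule F (Fin 12 → F)}
    (hD : IsOrthogonalMDecomposition (⇑Q) 4 D) (hle : H ≤ decompositionStabilizer D) :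
    TwelveSmall Q H ∨ (3 ≤ Fintype.card F ∧ H = decompositionStabilizer D ⊓ omegaGL (⇑Q)) := by
  by_cases hq : 3 ≤ Fintype.card F
  · exact Or.inr ⟨hq, eq_decomposition hQ f (by simp) hmax hD.decomp hle⟩
  · have h2 : Fintype.card F = 2 := by
      have := Fintype.one_lt_card (α := F)
      omega
    have hparts : ∀ i, IsPlusTypeOn (⇑Q) (D i) := fun i =>
      (decomposition_plus_iff_of_odd hQ (m := 2) hD (by decide) i).1 hplus
    obtain ⟨E, hE, -, hle'⟩ := planes_of_fours hQ (hI_of_max hQ hmax) hirr h2 hD hparts hle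
    exact Or.inl (twelve_planes hQ f hmax hirr hE hle')

end Cfsg.Agent.Aschbacher.Ev
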